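import Groth.Agent.H4CI.AdaptedCoord
import Mathlib.AlgebraicGeometry.AffineSpace
import Mathlib.AlgebraicGeometry.Morphisms.Etale

/-!
# Étale local structure of a smooth closed subscheme of a smooth scheme
-/

set_option autoImplicit false
set_option linter.style.haveILetI false
set_option backward.isDefEq.respectTransparency false
set_option backward.isDefEq.respectTransparency.types false

universe u

open CategoryTheory CategoryTheory.Limits AlgebraicGeometry TopologicalSpace TensorProduct Opposite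

namespace Groth.Agent.H4CI.AdaptedScheme

/-- A finitely generated ideal has a family generating at a prime which is a basis of the fibre there. -/
theorem exists_minimal_generators {B : Type u} [CommRing B] (J : Ideal B) (hJ : J.FG) (q : Ideal B) [q.IsPrime] :
    ∃ (r : ℕ) (g : Fin r → B), (∀ i, g i ∈ J) ∧
      J.map (algebraMap B (Localization.AtPrime q)) =
        Ideal.span (Set.range fun i => algebraMap B (Localization.AtPrime q) (g i)) ∧
      r = Module.finrank q.ResidueField (q.ResidueField ⊗[B] J) := by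
  haveI : Module.Finite B J := Module.Finite.of_fg hJ
  let κ := q.ResidueField
  let φ : J →ₗ[B] κ ⊗[B] J := TensorProduct.mk B κ J 1
  have hspan : Submodule.span κ (Set.range φ) = ⊤ := by
    rw [eq_top_iff]
    intro z _
    induction z using TensorProduct.induction_on with
    | zero => exact zero_mem _
    | add x y hx hy => exact add_mem (hx trivial) (hy trivial)
    | tmul a j =>
      rw [show a ⊗ₜ[B] j = a • φ j by simp [φ, smul_tmul']]
      exact Submodule.smul_mem _ _ (Submodule.subset_span ⟨j, rfl⟩)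
  obtain ⟨ι, a, -, hsp, hli⟩ := exists_linearIndependent' κ φ
  haveI : Finite ι := LinearIndependent.finite hli
  obtain ⟨r, ⟨ε⟩⟩ := Finite.exists_equiv_fin ι
  let b : Module.Basis ι κ (κ ⊗[B] J) := Module.Basis.mk hli (by rw [hsp, hspan])
  let g : Fin r → B := fun i => (a (ε.symm i)).1
  refine ⟨r, g, fun i => (a (ε.symm i)).2, ?_, ?_⟩
  · refine le_antisymm ?_ (Ideal.span_le.2 ?_)
    · let T : Submodule B J := Submodule.span B (Set.range a)
      have hq : Subsingleton (κ ⊗[B] (↥J ⧸ T)) := by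
        refine subsingleton_of_forall_eq 0 fun z => ?_
        obtain ⟨w, rfl⟩ := LinearMap.lTensor_surjective κ T.mkQ_surjective z
        have hw : w ∈ Submodule.span κ (Set.range (φ ∘ a)) := by rw [hsp, hspan]; trivial
        refine Submodule.span_induction (p := fun w _ => LinearMap.lTensor κ T.mkQ w = 0) ?_ ?_ ?_ ?_ hw
        · rintro _ ⟨i, rfl⟩
          show (1 : κ) ⊗ₜ[B] T.mkQ (a i) = 0
          rw [show T.mkQ (a i) = 0 from (Submodule.Quotient.mk_eq_zero T).2 (Submodule.subset_span ⟨i, rfl⟩),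
            tmul_zero]
        · exact map_zero _
        · intro x y _ _ hx hy; rw [map_add, hx, hy, add_zero]
        · intro c x _ hx
          show (T.mkQ.baseChange κ) (c • x) = 0
          rw [map_smul]
          show c • LinearMap.lTensor κ T.mkQ x = 0
          rw [hx, smul_zero]
      have hns : (⟨q, inferInstance⟩ : PrimeSpectrum B) ∉ Module.support B (↥J ⧸ T) := by
        rw [Module.mem_support_iff_nontrivial_residueField_tensorProduct]
        exact not_nontrivial _
      rw [Ideal.map_le_iff_le_comap]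
      intro j hj
      obtain ⟨t, ht, htj⟩ := Module.notMem_support_iff'.1 hns (T.mkQ ⟨j, hj⟩)
      rw [← map_smul, Submodule.mkQ_apply, Submodule.Quotient.mk_eq_zero] at htj
      have h1 : t * j ∈ Ideal.span (Set.range g) := by
        have h2 := Submodule.mem_map_of_mem (f := J.subtype) htj
        rw [Submodule.map_span] at h2
        refine Submodule.span_mono ?_ h2
        rintro _ ⟨_, ⟨i, rfl⟩, rfl⟩
        exact ⟨ε i, by simp [g]⟩
      rw [Ideal.mem_comap, ← Ideal.unit_mul_mem_iff_mem _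
        (IsLocalization.map_units (Localization.AtPrime q) (⟨t, ht⟩ : q.primeCompl)), ← map_mul]
      have h3 := Ideal.mem_map_of_mem (algebraMap B (Localization.AtPrime q)) h1
      rwa [Ideal.map_span, ← Set.range_comp] at h3
    · rintro _ ⟨i, rfl⟩
      exact Ideal.mem_map_of_mem _ (a (ε.symm i)).2
  · rw [Module.finrank_eq_nat_card_basis b, Nat.card_congr ε, Nat.card_fin]

/-- A commutative square over a monomorphism is cartesian when the closed subscheme is cut out by the equations. -/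
theorem isPullback_of_closed {P U M N : Scheme.{u}} [IsAffine U] (ci : P ⟶ U) [IsClosedImmersion ci]
    (ρ : P ⟶ M) (z : M ⟶ N) [Mono z] (π : U ⟶ N) (w : ρ ≫ z = ci ≫ π) (c : Set Γ(N, ⊤))
    (hc : ∀ a ∈ c, z.appTop a = 0)
    (hker : RingHom.ker ci.appTop.hom ≤ Ideal.span (π.appTop.hom '' c)) : IsPullback ρ ci z π := by
  haveI : IsAffine P := isAffine_of_isAffineHom ci
  have hs : Function.Surjective ci.appTop.hom := ci.app_surjective ⊤ (isAffineOpen_top U)
  refine ⟨⟨w⟩, ⟨PullbackCone.IsLimit.mk _ (fun s => s.pt.toSpecΓ ≫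
    Spec.map (CommRingCat.ofHom (ci.appTop.hom.liftOfSurjective hs ⟨s.snd.appTop.hom, ?_⟩)) ≫ P.isoSpec.inv)
    (fun s => ?_) (fun s => ?_) (fun s l _ h₂ => ?_)⟩⟩
  · refine hker.trans (Ideal.span_le.2 ?_)
    rintro _ ⟨a, ha, rfl⟩
    show s.snd.appTop (π.appTop a) = 0
    rw [← CommRingCat.comp_apply, ← Scheme.Hom.comp_appTop, ← s.condition, Scheme.Hom.comp_appTop,
      CommRingCat.comp_apply, hc a ha, map_zero]
  all_goals
    set ψ := ci.appTop.hom.liftOfSurjective hs ⟨s.snd.appTop.hom, _⟩ with hψdef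
    have hψ : ∀ b, ψ (ci.appTop b) = s.snd.appTop b := fun b =>
      RingHom.liftOfRightInverse_comp_apply _ _ (Function.rightInverse_surjInv hs) _ b
    have key : (s.pt.toSpecΓ ≫ Spec.map (CommRingCat.ofHom ψ) ≫ P.isoSpec.inv) ≫ ci = s.snd := by
      refine ext_of_isAffine ?_
      ext b
      simp only [Category.assoc, Scheme.Hom.comp_appTop, CommRingCat.comp_apply]
      rw [Scheme.toSpecΓ_appTop, ← CommRingCat.comp_apply (Spec.map _).appTop, Scheme.ΓSpecIso_naturality,
        CommRingCat.comp_apply]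
      refine (congrArg ψ ?_).trans (hψ b)
      show (Scheme.ΓSpecIso Γ(P, ⊤)).hom (P.isoSpec.inv.appTop (ci.appTop b)) = ci.appTop b
      rw [← Scheme.toSpecΓ_appTop P, ← CommRingCat.comp_apply P.isoSpec.inv.appTop, ← Scheme.Hom.comp_appTop,
        Scheme.toSpecΓ_isoSpec_inv]
      rfl
  · rw [← cancel_mono z, Category.assoc, w, ← Category.assoc, key, s.condition]
  · exact key
  · rw [← cancel_mono ci, h₂, key]

theorem appTop_restrict_zero_iff {X Y : Scheme.{u}} (i : Y ⟶ X) (U : X.Opens) (b : Γ(X, U)) :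
    (i ∣_ U).appTop (U.topIso.inv b) = 0 ↔ i.app U b = 0 := by
  have h : U.topIso.inv ≫ (i ∣_ U).appTop = i.app U ≫ (i ⁻¹ᵁ U).topIso.inv := by
    simp [Scheme.Opens.topIso, morphismRestrict_app, Scheme.Hom.app_eq_appLE, Scheme.Hom.appTop,
      Scheme.Hom.map_appLE, Scheme.Hom.appLE_map]
  rw [← CommRingCat.comp_apply, h, CommRingCat.comp_apply,
    map_eq_zero_iff _ (ConcreteCategory.bijective_of_isIso (i ⁻¹ᵁ U).topIso.inv).1]

theorem etale_structure {S X Y : Scheme.{u}} (pX : X ⟶ S) (pY : Y ⟶ S) [Smooth pX] [Smooth pY]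
    (i : Y ⟶ X) [IsClosedImmersion i] (w : i ≫ pX = pY) (y : Y) :
    ∃ (U : X.Opens) (m n : ℕ) (π : (U : Scheme.{u}) ⟶ 𝔸(ULift.{u} (Fin m ⊕ Fin n); S))
      (ρ : (↑(i ⁻¹ᵁ U) : Scheme.{u}) ⟶ 𝔸(ULift.{u} (Fin m); S)),
      i y ∈ U ∧ Etale π ∧ π ≫ (𝔸(ULift.{u} (Fin m ⊕ Fin n); S) ↘ S) = U.ι ≫ pX ∧
      IsPullback ρ (i ∣_ U)
        (AffineSpace.homOfVector (𝔸(ULift.{u} (Fin m); S) ↘ S)
          (fun j : ULift.{u} (Fin m ⊕ Fin n) => Sum.elim (fun a => AffineSpace.coord S (ULift.up a)) (fun _ => 0) j.down))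
        π := by
  obtain ⟨V, hV, hyV, -⟩ := exists_isAffineOpen_mem_and_subset (x := pX (i y)) (U := ⊤) trivial
  obtain ⟨U₀, hU₀, hyU₀, hU₀V⟩ := exists_isAffineOpen_mem_and_subset (x := i y) (U := pX ⁻¹ᵁ V) hyV
  have hle : U₀ ≤ pX ⁻¹ᵁ V := hU₀V
  let A := Γ(S, V)
  let B := Γ(X, U₀)
  let C := Γ(Y, i ⁻¹ᵁ U₀)
  have hleY : i ⁻¹ᵁ U₀ ≤ pY ⁻¹ᵁ V := fun z hz => by
    show pY z ∈ V
    rw [← w]
    exact hle hz
  letI : Algebra A B := (pX.appLE V U₀ hle).hom.toAlgebra
  letI : Algebra A C := (pY.appLE V (i ⁻¹ᵁ U₀) hleY).hom.toAlgebra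
  haveI : Algebra.Smooth A B := pX.smooth_appLE hV hU₀ hle
  haveI : Algebra.Smooth A C := pY.smooth_appLE hV (hU₀.preimage i) hleY
  let φ : B →ₐ[A] C :=
    { (i.app U₀).hom with
      commutes' := fun a => by
        show (pX.appLE V U₀ hle ≫ i.app U₀) a = pY.appLE V (i ⁻¹ᵁ U₀) hleY a
        subst w
        rw [Scheme.Hom.app_eq_appLE, Scheme.Hom.appLE_comp_appLE] }
  have hφ : Function.Surjective φ := i.app_surjective U₀ hU₀
  let J : Ideal B := RingHom.ker φ
  have hJ : J.FG := Algebra.FinitePresentation.ker_fG_of_surjective φ hφ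
  let e : (B ⧸ J) ≃ₐ[A] C := Ideal.quotientKerAlgEquivOfSurjective hφ
  haveI : Algebra.Smooth A (B ⧸ J) := Algebra.Smooth.of_equiv e.symm
  let q : Ideal B := (hU₀.primeIdealOf ⟨i y, hyU₀⟩).asIdeal
  haveI : q.IsPrime := (hU₀.primeIdealOf ⟨i y, hyU₀⟩).2
  have hJq : J ≤ q := by
    intro b hb
    by_contra hn
    have hm : i y ∈ X.basicOpen b := by
      rw [X.mem_basicOpen b _ hyU₀]
      letI : Algebra Γ(X, U₀) (X.presheaf.stalk (i y)) := (X.presheaf.germ U₀ (i y) hyU₀).hom.toAlgebra
      haveI := hU₀.isLocalization_stalk ⟨i y, hyU₀⟩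
      exact IsLocalization.map_units (M := q.primeCompl) _ ⟨b, hn⟩
    have : y ∈ i ⁻¹ᵁ X.basicOpen b := hm
    rw [Scheme.preimage_basicOpen, show i.app U₀ b = 0 from hb, Scheme.basicOpen_zero] at this
    exact this
  let Q : Ideal (B ⧸ J) := q.map (Ideal.Quotient.mk J)
  have hQc : Q.comap (Ideal.Quotient.mk J) = q := by
    rw [Ideal.comap_map_of_surjective _ Ideal.Quotient.mk_surjective, ← RingHom.ker_eq_comap_bot,
      Ideal.mk_ker, sup_eq_left]
    exact hJq
  haveI : Q.IsPrime := Ideal.map_isPrime_of_surjective Ideal.Quotient.mk_surjective (by rwa [Ideal.mk_ker])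
  obtain ⟨r, g, hg, hgen, hmin⟩ := exists_minimal_generators J hJ q
  obtain ⟨f, hf, m, g', het, hJf⟩ := AdaptedCoord.exists_coord A B J hJ q hJq Q hQc r g hg hgen hmin
  let U : X.Opens := X.basicOpen f
  have hU : IsAffineOpen U := hU₀.basicOpen f
  have hUV : U ≤ pX ⁻¹ᵁ V := (X.basicOpen_le f).trans hle
  have hyU : i y ∈ U := by
    rw [X.mem_basicOpen f _ hyU₀]
    letI : Algebra Γ(X, U₀) (X.presheaf.stalk (i y)) := (X.presheaf.germ U₀ (i y) hyU₀).hom.toAlgebra
    haveI := hU₀.isLocalization_stalk ⟨i y, hyU₀⟩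
    exact IsLocalization.map_units (M := q.primeCompl) _ ⟨f, hf⟩
  let B' := Γ(X, U)
  haveI := hU₀.isLocalization_basicOpen f
  letI : Algebra A B' := (pX.appLE V U hUV).hom.toAlgebra
  haveI : IsScalarTower A B B' := IsScalarTower.of_algebraMap_eq fun a =>
    (ConcreteCategory.congr_hom (pX.appLE_map hle (homOfLE (X.basicOpen_le f)).op) a).symm
  let E : Localization.Away f ≃ₐ[B] B' := IsLocalization.algEquiv (Submonoid.powers f) _ _
  let v : Fin m ⊕ Fin r → B' := Sum.elim (fun a => E (g' a)) (fun l => algebraMap B B' (g l))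
  let ι := ULift.{u} (Fin m ⊕ Fin r)
  let φv : MvPolynomial ι A →ₐ[A] B' := MvPolynomial.aeval fun j : ι => v j.down
  have hφv : φv.toRingHom.Etale := by
    let eι : ι ≃ Fin r ⊕ Fin m := Equiv.ulift.trans (Equiv.sumComm _ _)
    have : φv = ((E.restrictScalars A).toAlgHom.comp (MvPolynomial.aeval
        (Sum.elim (fun i => algebraMap B (Localization.Away f) (g i)) g'))).comp
          (MvPolynomial.renameEquiv A eι).toAlgHom := by
      refine MvPolynomial.algHom_ext fun j => ?_
      obtain ⟨j | j⟩ := j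
      · simp [φv, v, eι]; rfl
      · simp [φv, v, eι]
        rfl
    rw [this]
    exact RingHom.Etale.stableUnderComposition _ _
      (RingHom.Etale.of_bijective (MvPolynomial.renameEquiv A eι).bijective)
      (RingHom.Etale.stableUnderComposition _ _ het (RingHom.Etale.of_bijective E.bijective))
  haveI : IsAffine U.toScheme := hU
  let π : U.toScheme ⟶ 𝔸(ι; S) := AffineSpace.homOfVector (U.ι ≫ pX) fun j => U.topIso.inv (v j.down)
  have hπ : π = hU.isoSpec.hom ≫ Spec.map (CommRingCat.ofHom φv.toRingHom) ≫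
      (AffineSpace.SpecIso ι A).inv ≫ AffineSpace.map ι hV.fromSpec := by
    apply AffineSpace.hom_ext
    · simp only [π, AffineSpace.homOfVector_over, Category.assoc, AffineSpace.map_over,
        AffineSpace.SpecIso_inv_over_assoc]
      rw [← Spec.map_comp_assoc, show CommRingCat.ofHom MvPolynomial.C ≫ CommRingCat.ofHom φv.toRingHom =
          pX.appLE V U hUV from CommRingCat.hom_ext (RingHom.ext fun a => φv.commutes a)]
      rw [hV.SpecMap_appLE_fromSpec pX hU hUV, ← Category.assoc, hU.isoSpec_hom_fromSpec]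
    · intro j
      rw [AffineSpace.homOfVector_appTop_coord]
      simp only [Scheme.Hom.comp_appTop, CommRingCat.comp_apply]
      rw [AffineSpace.map_appTop_coord, AffineSpace.SpecIso_inv_appTop_coord,
        ← CommRingCat.comp_apply (Scheme.ΓSpecIso _).inv, ← Scheme.ΓSpecIso_inv_naturality,
        CommRingCat.comp_apply, hU.isoSpec_hom_appTop]
      simp [φv]
      exact congrArg _ (MvPolynomial.aeval_X (fun j : ι => v j.down) j).symm
  have hπe : Etale π := by
    haveI : Etale (Spec.map (CommRingCat.ofHom φv.toRingHom)) :=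
      (HasRingHomProperty.Spec_iff (P := @Etale)).2 hφv
    haveI : IsOpenImmersion (AffineSpace.map ι hV.fromSpec) :=
      MorphismProperty.of_isPullback (P := @IsOpenImmersion) (AffineSpace.isPullback_map hV.fromSpec).flip
        inferInstance
    rw [hπ]
    infer_instance
  let z : 𝔸(ULift.{u} (Fin m); S) ⟶ 𝔸(ι; S) := AffineSpace.homOfVector (𝔸(ULift.{u} (Fin m); S) ↘ S)
    (fun j : ι => Sum.elim (fun a => AffineSpace.coord S (ULift.up a)) (fun _ => 0) j.down)
  haveI : Mono z := by
    have : z ≫ AffineSpace.reindex (fun a : ULift.{u} (Fin m) => (ULift.up (Sum.inl a.down) : ι)) S = 𝟙 _ := by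
      apply AffineSpace.hom_ext
      · rw [Category.assoc, AffineSpace.reindex_over, Category.id_comp]
        exact AffineSpace.homOfVector_over _ _
      · intro a
        rw [Scheme.Hom.comp_appTop, CommRingCat.comp_apply, AffineSpace.reindex_appTop_coord,
          AffineSpace.homOfVector_appTop_coord, Scheme.Hom.id_appTop]
        rfl
    exact (SplitMono.mk _ this).mono
  let ρ : (i ⁻¹ᵁ U).toScheme ⟶ 𝔸(ULift.{u} (Fin m); S) := AffineSpace.homOfVector ((i ⁻¹ᵁ U).ι ≫ pY)
    fun a => (i ∣_ U).appTop (U.topIso.inv (v (Sum.inl a.down)))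
  have hzero : ∀ l, (i ∣_ U).appTop (U.topIso.inv (v (Sum.inr l))) = 0 := fun l => by
    rw [appTop_restrict_zero_iff]
    show i.app U (X.presheaf.map (homOfLE (X.basicOpen_le f)).op (g l)) = 0
    rw [← CommRingCat.comp_apply, i.naturality, CommRingCat.comp_apply, show i.app U₀ (g l) = 0 from hg l, map_zero]
  have hsq : ρ ≫ z = (i ∣_ U) ≫ π := by
    apply AffineSpace.hom_ext
    · simp [ρ, z, π, ← w]
    · intro j
      obtain ⟨j | j⟩ := j
      · simp [ρ, z, π]
      · rw [Scheme.Hom.comp_appTop, Scheme.Hom.comp_appTop, CommRingCat.comp_apply, CommRingCat.comp_apply,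
          AffineSpace.homOfVector_appTop_coord, AffineSpace.homOfVector_appTop_coord]
        exact (map_zero _).trans (hzero j).symm
  refine ⟨U, m, r, π, ρ, hyU, hπe, AffineSpace.homOfVector_over _ _, ?_⟩
  refine isPullback_of_closed (i ∣_ U) ρ z π hsq
    (Set.range fun l : Fin r => AffineSpace.coord S (ULift.up (Sum.inr l) : ι)) ?_ ?_
  · rintro _ ⟨l, rfl⟩
    exact AffineSpace.homOfVector_appTop_coord _ _ _
  · intro b hb
    obtain ⟨b', rfl⟩ := (ConcreteCategory.bijective_of_isIso U.topIso.inv).2 b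
    rw [RingHom.mem_ker, appTop_restrict_zero_iff] at hb
    have hk : RingHom.ker (i.app U).hom = J.map (algebraMap B B') := by
      rw [← Scheme.Hom.ker_apply i ⟨U, hU⟩]
      exact (i.ker.map_ideal_basicOpen ⟨U₀, hU₀⟩ f).symm.trans (by rw [Scheme.Hom.ker_apply]; rfl)
    have h1 : b' ∈ J.map (algebraMap B B') := hk ▸ hb
    rw [show algebraMap B B' = (E : _ →+* B').comp (algebraMap B (Localization.Away f)) from
      E.toAlgHom.comp_algebraMap.symm, ← Ideal.map_map, hJf, Ideal.map_span, ← Set.range_comp] at h1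
    have h2 := Ideal.mem_map_of_mem U.topIso.inv.hom h1
    rw [Ideal.map_span, ← Set.range_comp] at h2
    refine Ideal.span_mono ?_ h2
    rintro _ ⟨l, rfl⟩
    refine ⟨_, ⟨l, rfl⟩, ?_⟩
    show π.appTop _ = _
    rw [AffineSpace.homOfVector_appTop_coord]
    simp [v]

end Groth.Agent.H4CI.AdaptedScheme
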