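import Groth.Agent.AssPtX.Basic
import Groth.Agent.AssLib.OpenRestrict
import Groth.Agent.ArtFunLib.FamilyHom
import Groth.Agent.QCoh.Qcqs
import Groth.Agent.QCoh.Pullback
import Groth.Agent.QCoh.VanIdeal
import Groth.Prelude.Def_FDesc

/-!
# Associated points and monomorphisms from reduced closures
-/

set_option autoImplicit false
set_option linter.style.haveILetI false
set_option linter.unusedSectionVars false
set_option backward.isDefEq.respectTransparency false
set_option backward.isDefEq.respectTransparency.types false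
set_option maxHeartbeats 1000000

universe u

open CategoryTheory CategoryTheory.Limits AlgebraicGeometry TopologicalSpace Opposite

noncomputable section

namespace Groth.Agent.H4CI.AssMono

open Groth.Agent

variable {X : Scheme.{u}} (x : X)

/-- The reduced closure of a point. -/
abbrev Zc : X.IdealSheafData := Scheme.IdealSheafData.vanishingIdeal ⟨closure {x}, isClosed_closure⟩

/-- Its structure sheaf on the scheme. -/
abbrev OZ : X.Modules := (Scheme.Modules.pushforward (Zc x).subschemeι).obj (Coh.structureModule (Zc x).subscheme)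

theorem ideal_Zc {W : X.Opens} (hW : IsAffineOpen W) (hx : x ∈ W) :
    (Zc x).ideal ⟨W, hW⟩ = (hW.primeIdealOf ⟨x, hx⟩).asIdeal := by
  rw [Scheme.IdealSheafData.vanishingIdeal_ideal]
  ext f
  rw [PrimeSpectrum.mem_vanishingIdeal]
  refine ⟨fun h => h _ ?_, fun h q hq => ?_⟩
  · show hW.fromSpec (hW.primeIdealOf ⟨x, hx⟩) ∈ closure {x}
    rw [hW.fromSpec_primeIdealOf]
    exact subset_closure rfl
  · obtain ⟨y, hy, hyq⟩ := QCoh.exists_point hW q
    have hxy : x ⤳ y := by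
      rw [specializes_iff_mem_closure]
      have : hW.fromSpec q ∈ closure {x} := hq
      rwa [← hyq, hW.fromSpec_primeIdealOf] at this
    exact hyq ▸ (AssPtX.primeIdealOf_le_iff hW hx hy).2 hxy h

theorem ideal_Zc_of_notMem {W : X.Opens} (hW : IsAffineOpen W) (hx : x ∉ W) :
    (Zc x).ideal ⟨W, hW⟩ = ⊤ := by
  rw [Scheme.IdealSheafData.vanishingIdeal_ideal, eq_top_iff]
  intro f _
  rw [PrimeSpectrum.mem_vanishingIdeal]
  intro q hq
  obtain ⟨y, hy, hyq⟩ := QCoh.exists_point hW q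
  have : hW.fromSpec q ∈ closure {x} := hq
  rw [← hyq, hW.fromSpec_primeIdealOf] at this
  exact absurd ((specializes_iff_mem_closure.2 this).mem_open W.2 hy) hx

theorem isQCoh_OZ : Coh.IsQCoh (OZ x) :=
  QCoh.isQCoh_pushforward _ (QCoh.isQCoh_structureModule)

theorem app_eq_zero_iff (W : X.affineOpens) (r : Γ(X, W.1)) :
    (Zc x).subschemeι.app W.1 r = 0 ↔ r ∈ (Zc x).ideal W := by
  rw [← (Zc x).ker_subschemeι_app, RingHom.mem_ker]

theorem isWeakAssPoint_OZ : Curv2.IsWeakAssPoint (OZ x) x := by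
  obtain ⟨W, hW, hxW, -⟩ := exists_isAffineOpen_mem_and_subset (x := x) (U := ⊤) trivial
  rw [AssPtX.isWeakAssPoint_iff_sections (isQCoh_OZ x) hW hxW, WeakAss.mem_weakAss_iff]
  let m : Γ(OZ x, W) := (show Γ((Zc x).subscheme, (Zc x).subschemeι ⁻¹ᵁ W) from 1)
  refine ⟨m, ?_⟩
  have h : WeakAss.annEl Γ(X, W) m = (hW.primeIdealOf ⟨x, hxW⟩).asIdeal := by
    ext r
    rw [WeakAss.mem_annEl, ← ideal_Zc x hW hxW, ← app_eq_zero_iff x ⟨W, hW⟩]
    show (Zc x).subschemeι.app W r * 1 = 0 ↔ _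
    rw [mul_one]
  rw [h, Ideal.minimalPrimes_eq_subsingleton_self]
  exact rfl

theorem mem_ass_of_mono [IsLocallyNoetherian X] {F : X.Modules} (hF : Coh.IsQCoh F) {U : X.Opens} (hxU : x ∈ U)
    (φ : (Scheme.Modules.pullback U.ι).obj (OZ x) ⟶ (Scheme.Modules.pullback U.ι).obj F) [Mono φ] :
    x ∈ AssSch.Ass F := by
  let z : (U : Scheme.{u}) := ⟨x, hxU⟩
  refine (AssLib.mem_ass_pullback_iff U.ι F z).1 ?_
  have h1 : z ∈ AssSch.Ass ((Scheme.Modules.pullback U.ι).obj (OZ x)) :=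
    (AssLib.mem_ass_pullback_iff U.ι (OZ x) z).2 (AssPtX.isAssPoint_iff.2 (isWeakAssPoint_OZ x))
  obtain ⟨W, hW, hzW, -⟩ := exists_isAffineOpen_mem_and_subset (x := z) (U := ⊤) trivial
  refine AssPtX.isAssPoint_iff.2 ((AssPtX.isWeakAssPoint_iff_sections (QCoh.isQCoh_pullback U.ι hF) hW hzW).2
    (WeakAss.weakAss_subset_of_injective
      ({ toFun := φ.app W, map_add' := map_add _, map_smul' := fun a b => Scheme.Modules.Hom.app_smul φ a b } :
        Γ((Scheme.Modules.pullback U.ι).obj (OZ x), W) →ₗ[Γ((U : Scheme.{u}), W)]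
          Γ((Scheme.Modules.pullback U.ι).obj F, W)) (QCoh.app_injective φ W)
      ((AssPtX.isWeakAssPoint_iff_sections (QCoh.isQCoh_pullback U.ι (isQCoh_OZ x)) hW hzW).1
        (AssPtX.isAssPoint_iff.1 h1))))

theorem key_iff {F : X.Modules} {V : X.Opens} (hV : IsAffineOpen V) (hxV : x ∈ V) (m : Γ(F, V))
    (hm : (hV.primeIdealOf ⟨x, hxV⟩).asIdeal = WeakAss.annEl Γ(X, V) m)
    (hgne : F.presheaf.germ V x hxV m ≠ 0) (W : X.affineOpens) (hWV : W.1 ≤ V) (r : Γ(X, W.1)) :
    (Zc x).subschemeι.app W.1 r = 0 ↔ r • F.presheaf.map (homOfLE hWV).op m = 0 := by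
  rw [app_eq_zero_iff x W r]
  constructor
  · intro hr
    rw [← (Zc x).map_ideal (U := W) (V := ⟨V, hV⟩) hWV, ideal_Zc x hV hxV, hm] at hr
    induction hr using Submodule.span_induction with
    | mem r hr =>
      obtain ⟨a, ha, rfl⟩ := hr
      refine (QCoh.map_smul' (M := F) (homOfLE hWV) a m).symm.trans ?_
      rw [WeakAss.mem_annEl.1 ha, map_zero]
    | zero => exact zero_smul _ _
    | add a b _ _ ha hb => rw [add_smul, ha, hb, add_zero]
    | smul c a _ ha => rw [smul_eq_mul, mul_smul, ha, smul_zero]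
  · intro hr
    by_cases hxW : x ∈ W.1
    · show r ∈ (Zc x).ideal ⟨W.1, W.2⟩
      rw [ideal_Zc x W.2 hxW]
      by_contra hrx
      have h1 := congrArg (F.presheaf.germ W.1 x hxW) hr
      rw [map_zero, QCoh.germ_smul' F hxW, F.presheaf.germ_res_apply] at h1
      have hu : IsUnit (X.presheaf.germ W.1 x hxW r) :=
        (X.mem_basicOpen r x hxW).1 ((QCoh.mem_basicOpen_iff_notMem W.2 hxW r).2 hrx)
      exact hgne (hu.smul_eq_zero.1 h1)
    · show r ∈ (Zc x).ideal ⟨W.1, W.2⟩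
      rw [ideal_Zc_of_notMem x W.2 hxW]
      trivial

/-- A section with the right annihilator gives a monomorphism from the closure. -/
theorem exists_hom_restrict (F : X.Modules) (V : X.Opens) (m : Γ(F, V))
    (key : ∀ (W : X.affineOpens) (hWV : W.1 ≤ V) (r : Γ(X, W.1)),
      (Zc x).subschemeι.app W.1 r = 0 ↔ r • F.presheaf.map (homOfLE hWV).op m = 0) :
    ∃ φ : (OZ x).restrict V.ι ⟶ F.restrict V.ι, Mono φ := by
  let im : (V : Scheme.{u}).affineOpens → X.affineOpens := fun U =>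
    ⟨V.ι ''ᵁ U.1, U.2.image_of_isOpenImmersion V.ι⟩
  have himV : ∀ U, (im U).1 ≤ V := fun U => by rintro _ ⟨z, -, rfl⟩; exact z.2
  have hsurj : ∀ (W : X.affineOpens) (y : Γ((Zc x).subscheme, (Zc x).subschemeι ⁻¹ᵁ W.1)), ∃ r : Γ(X, W.1),
      (Zc x).subschemeι.app W.1 r = y := fun W y => (Zc x).subschemeι_app_surjective W y
  choose l hl using hsurj
  let g : ∀ (W : X.affineOpens), W.1 ≤ V → Γ(OZ x, W.1) → Γ(F, W.1) := fun W hW y =>
    l W y • F.presheaf.map (homOfLE hW).op m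
  have wd : ∀ (W : X.affineOpens) (hW : W.1 ≤ V) (y : Γ(OZ x, W.1)) (r : Γ(X, W.1)),
      (Zc x).subschemeι.app W.1 r = (show Γ((Zc x).subscheme, (Zc x).subschemeι ⁻¹ᵁ W.1) from y) →
        g W hW y = r • F.presheaf.map (homOfLE hW).op m := fun W hW y r hr => by
    refine sub_eq_zero.1 ((sub_smul _ _ _).symm.trans ((key W hW _).1 ?_))
    rw [map_sub, hl, hr, sub_self]
  have hadd : ∀ (W : X.affineOpens) (hW : W.1 ≤ V) (a b : Γ(OZ x, W.1)), g W hW (a + b) = g W hW a + g W hW b :=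
    fun W hW a b => by
      rw [wd W hW (a + b) (l W a + l W b) (by rw [map_add, hl, hl])]
      exact add_smul _ _ _
  have hnat : ∀ (U W : X.affineOpens) (hU : U.1 ≤ V) (hW : W.1 ≤ V) (h : W.1 ≤ U.1) (y : Γ(OZ x, U.1)),
      F.presheaf.map (homOfLE h).op (g U hU y) = g W hW ((OZ x).presheaf.map (homOfLE h).op y) :=
    fun U W hU hW h y => by
      rw [wd W hW _ (X.presheaf.map (homOfLE h).op (l U y)) ?_]
      · refine (QCoh.map_smul' (M := F) (homOfLE h) _ _).trans ?_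
        congr 1
        exact QCoh.map_map (M := F) _ _ _
      · refine (ConcreteCategory.congr_hom ((Zc x).subschemeι.naturality (homOfLE h).op) (l U y)).trans ?_
        exact congrArg _ (hl U y)
  have hlin : ∀ (W : X.affineOpens) (hW : W.1 ≤ V) (r : Γ(X, W.1)) (y : Γ(OZ x, W.1)),
      g W hW (r • y) = r • g W hW y := fun W hW r y => by
    rw [wd W hW (r • y) (r * l W y) (by rw [map_mul, hl]; rfl)]
    exact mul_smul _ _ _
  have hzero : ∀ (W : X.affineOpens) (hW : W.1 ≤ V) (y : Γ(OZ x, W.1)), g W hW y = 0 → y = 0 := fun W hW y h => by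
    have h2 := (key W hW (l W y)).2 h
    rw [hl] at h2
    exact h2
  obtain ⟨φ, hφ⟩ := ArtFunLib.FamilyHom.exists_hom_of_family (M := (OZ x).restrict V.ι) (N := F.restrict V.ι)
    (fun U => (AddMonoidHom.mk' (g (im U) (himV U)) (hadd (im U) (himV U)) :
      Γ(OZ x, (im U).1) →+ Γ(F, (im U).1)))
    (fun U W h y => hnat (im U) (im W) (himV U) (himV W) (Scheme.Hom.image_mono V.ι h) y)
    (fun U r y => hlin (im U) (himV U) ((V.ι.appIso U.1).inv r) y)
  refine ⟨φ, QCoh.mono_of_app_injective φ fun U => ?_⟩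
  refine (injective_iff_map_eq_zero (φ.app U).hom).2 fun y hy => ?_
  refine ArtFunLib.FamilyHom.ext_affine ((OZ x).restrict V.ι) U y 0 fun W hW => ?_
  rw [map_zero]
  refine hzero (im W) (himV W) _ ((hφ W _).symm.trans ?_)
  rw [QCoh.map_app_comm φ (homOfLE hW) y]
  exact (congrArg _ hy).trans (map_zero _)

theorem exists_mono_of_mem_ass [IsLocallyNoetherian X] {F : X.Modules} (hF : Coh.IsQCoh F)
    (hx : x ∈ AssSch.Ass F) :
    ∃ (U : X.Opens), x ∈ U ∧
      ∃ φ : (Scheme.Modules.pullback U.ι).obj (OZ x) ⟶ (Scheme.Modules.pullback U.ι).obj F, Mono φ := by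
  obtain ⟨V, hV, hxV, -⟩ := exists_isAffineOpen_mem_and_subset (x := x) (U := ⊤) trivial
  haveI := QCoh.noetherian_sections (X := X) ⟨V, hV⟩
  obtain ⟨-, m, hm⟩ := WeakAss.mem_ass_of_mem_weakAss_of_fg (IsNoetherian.noetherian _)
    ((AssPtX.isWeakAssPoint_iff_sections hF hV hxV).1 (AssPtX.isAssPoint_iff.1 hx))
  have hgne : F.presheaf.germ V x hxV m ≠ 0 := fun h0 => by
    obtain ⟨f, hxf, hf⟩ := (QCoh.germ_eq_zero_iff hF hV hxV _).1 h0
    exact (QCoh.mem_basicOpen_iff_notMem hV hxV f).1 hxf (hm ▸ WeakAss.mem_annEl.2 hf)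
  have key := key_iff x hV hxV m hm hgne
  obtain ⟨φ, hφ⟩ := exists_hom_restrict x F V m key
  haveI := hφ
  exact ⟨V, hxV, ((Scheme.Modules.restrictFunctorIsoPullback V.ι).app (OZ x)).inv ≫ φ ≫
    ((Scheme.Modules.restrictFunctorIsoPullback V.ι).app F).hom, mono_comp _ _⟩

end Groth.Agent.H4CI.AssMono
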