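import Groth.Agent.LC.LiaisonLC
import Groth.Agent.LC.LiaisonLocal
import Groth.Agent.FlatLoc6.SerreNormal
import Mathlib.RingTheory.LocalProperties.IntegrallyClosed

/-!
# Cones over complete intersections
-/

set_option autoImplicit false
set_option linter.style.haveILetI false

universe u

namespace Groth.Agent.H4CI

open IsLocalRing MvPolynomial

theorem eq_zero_of_mul {R : Type u} [CommRing R] (P Q : Polynomial R) (hP : IsUnit (P.coeff 0)) (h : P * Q = 0) :
    Q = 0 := by
  refine Polynomial.ext fun n => ?_
  induction n using Nat.strong_induction_on with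
  | _ n ih =>
    have h1 := congrArg (fun F => Polynomial.coeff F n) h
    simp only [Polynomial.coeff_mul, Polynomial.coeff_zero] at h1
    rw [Finset.sum_eq_single (0, n)] at h1
    · rw [Polynomial.coeff_zero]
      exact hP.mul_right_eq_zero.1 h1
    · rintro ⟨i, j⟩ hij hne
      have hj : j < n := by
        simp only [Finset.HasAntidiagonal.mem_antidiagonal] at hij
        rcases Nat.eq_zero_or_pos i with rfl | hi
        · exact absurd (by simpa using hij) (fun e : j = n => hne (by rw [e]))
        · omega
      rw [ih j hj, Polynomial.coeff_zero, mul_zero]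
    · intro hn
      simp at hn

theorem prod_mul_pow {R : Type u} [CommRing R] {ι : Type} [Fintype ι] (a : ι → R) (x : R) (v : ι → ℕ) :
    ∏ i, (a i * x) ^ v i = (∏ i, a i ^ v i) * x ^ ∑ i, v i := by
  simp [mul_pow, Finset.prod_mul_distrib, Finset.prod_pow_eq_pow_sum]

variable {k : Type u} [Field k] {n r : ℕ} (f : Fin r → MvPolynomial (Fin (n + 1)) k) (d : Fin r → ℕ)

/-- The grading of the cone, as a map to polynomials. -/
noncomputable def scale : MvPolynomial (Fin (n + 1)) k →ₐ[k]
    Polynomial (MvPolynomial (Fin (n + 1)) k ⧸ Ideal.span (Set.range f)) :=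
  aeval fun i => Polynomial.C (Ideal.Quotient.mk (Ideal.span (Set.range f))
    (X i : MvPolynomial (Fin (n + 1)) k)) * Polynomial.X

theorem scale_homogeneous {p : MvPolynomial (Fin (n + 1)) k} {e : ℕ} (hp : p.IsHomogeneous e) :
    scale f p = Polynomial.C (Ideal.Quotient.mk _ p) * Polynomial.X ^ e := by
  classical
  conv_lhs => rw [← p.support_sum_monomial_coeff]
  conv_rhs => rw [← p.support_sum_monomial_coeff]
  rw [map_sum, map_sum, map_sum, Finset.sum_mul]
  refine Finset.sum_congr rfl fun v hv => ?_
  have hv' : ∑ i, v i = e := by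
    have := hp (mem_support_iff.1 hv)
    simpa [Finsupp.weight_apply, Finsupp.sum_fintype] using this
  rw [scale, aeval_monomial, monomial_eq, map_mul, map_mul, Finsupp.prod_fintype _ _ (fun i => pow_zero _),
    Finsupp.prod_fintype _ _ (fun i => pow_zero _), map_prod, map_prod]
  simp only [map_pow]
  rw [mul_assoc]
  congr 1
  rw [← hv']
  exact prod_mul_pow (fun i : Fin (n + 1) => Polynomial.C (Ideal.Quotient.mk (Ideal.span (Set.range f)) (X i))) _
    (fun i => v i)

theorem vertex_max : (RingHom.ker (constantCoeff (σ := Fin (n + 1)) (R := k))).IsMaximal :=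
  RingHom.ker_isMaximal_of_surjective _ fun a => ⟨C a, constantCoeff_C _ a⟩

theorem vertex_le_of_X_mem {P : Ideal (MvPolynomial (Fin (n + 1)) k)} (h : ∀ i, X i ∈ P) :
    RingHom.ker (constantCoeff (σ := Fin (n + 1)) (R := k)) ≤ P := by
  intro p hp
  have hz : p ∈ Ideal.span (Set.range (X : Fin (n + 1) → MvPolynomial (Fin (n + 1)) k)) := by
    rw [← idealOfVars, ← pow_one (idealOfVars (Fin (n + 1)) k), mem_pow_idealOfVars_iff]
    intro v hv
    by_contra hlt
    have hv0 : v = 0 := (Finsupp.degree_eq_zero_iff v).1 (by omega)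
    subst hv0
    exact mem_support_iff.1 hv (by simpa [constantCoeff_eq] using hp)
  exact Ideal.span_le.2 (Set.range_subset_iff.2 h) hz

variable (hf : ∀ i, (f i).IsHomogeneous (d i)) (hd : ∀ i, 0 < d i)

include hf in
theorem ker_le_scale : Ideal.span (Set.range f) ≤ RingHom.ker (scale f).toRingHom := by
  rw [Ideal.span_le]
  rintro _ ⟨i, rfl⟩
  show scale f (f i) = 0
  rw [scale_homogeneous f (hf i), Ideal.Quotient.eq_zero_iff_mem.2 (Ideal.subset_span (Set.mem_range_self i)), map_zero, zero_mul]

include hf in
/-- Off the cone, nothing with non-zero constant coefficient is a zero divisor. -/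
theorem mem_of_mul_mem {s a : MvPolynomial (Fin (n + 1)) k} (hs : constantCoeff s ≠ 0)
    (h : s * a ∈ Ideal.span (Set.range f)) : a ∈ Ideal.span (Set.range f) := by
  have h0 : scale f (s * a) = 0 := ker_le_scale f d hf h
  rw [map_mul] at h0
  have hc : (Polynomial.constantCoeff).comp (scale f).toRingHom =
      (Ideal.Quotient.mk (Ideal.span (Set.range f))).comp (C.comp constantCoeff) := by
    apply MvPolynomial.ringHom_ext
    · intro c
      show Polynomial.coeff (scale f (C c)) 0 = _
      rw [scale_homogeneous f (isHomogeneous_C _ c)]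
      simp
    · intro i
      show Polynomial.coeff (scale f (X i)) 0 = _
      simp [scale]
  have hu : IsUnit ((scale f s).coeff 0) := by
    rw [show (scale f s).coeff 0 = _ from RingHom.congr_fun hc s]
    exact ((isUnit_iff_ne_zero.2 hs).map (C : k →+* MvPolynomial (Fin (n + 1)) k)).map (Ideal.Quotient.mk (Ideal.span (Set.range f)))
  have ha := eq_zero_of_mul _ _ hu h0
  have hev : (Polynomial.evalRingHom 1).comp (scale f).toRingHom = Ideal.Quotient.mk (Ideal.span (Set.range f)) := by
    apply MvPolynomial.ringHom_ext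
    · intro c
      show Polynomial.eval 1 (scale f (C c)) = _
      rw [scale_homogeneous f (isHomogeneous_C _ c)]
      simp
    · intro i
      show Polynomial.eval 1 (scale f (X i)) = _
      simp [scale]
  refine Ideal.Quotient.eq_zero_iff_mem.1 ?_
  rw [← RingHom.congr_fun hev a]
  show Polynomial.eval 1 (scale f a) = 0
  rw [ha, Polynomial.eval_zero]

include hf hd in
theorem span_le_vertex : Ideal.span (Set.range f) ≤ RingHom.ker (constantCoeff (σ := Fin (n + 1)) (R := k)) := by
  rw [Ideal.span_le]
  rintro _ ⟨i, rfl⟩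
  show constantCoeff (f i) = 0
  rw [constantCoeff_eq]
  exact (hf i).coeff_eq_zero (by simpa using (hd i).ne)

include hf hd in
/-- The cone over a normal complete intersection of positive dimension is a normal domain. -/
theorem normal_cone (hr : r < n) (hJ : (Ideal.span (Set.range f)).height = r)
    (hnorm : ∀ (Q : Ideal (MvPolynomial (Fin (n + 1)) k ⧸ Ideal.span (Set.range f))) [Q.IsPrime],
      (∃ i, Ideal.Quotient.mk (Ideal.span (Set.range f)) (X i) ∉ Q) →
        IsDomain (Localization.AtPrime Q) ∧ IsIntegrallyClosed (Localization.AtPrime Q)) :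
    IsDomain (MvPolynomial (Fin (n + 1)) k ⧸ Ideal.span (Set.range f)) ∧
      IsIntegrallyClosed (MvPolynomial (Fin (n + 1)) k ⧸ Ideal.span (Set.range f)) := by
  let J := Ideal.span (Set.range f)
  let A := MvPolynomial (Fin (n + 1)) k ⧸ J
  let π := Ideal.Quotient.mk J
  let V := RingHom.ker (constantCoeff (σ := Fin (n + 1)) (R := k))
  haveI hVmax : V.IsMaximal := vertex_max
  have hJV : J ≤ V := span_le_vertex f d hf hd
  haveI hG : LocCoh.IsGorensteinRing A := LC.Liaison.gorensteinRing_ci f rfl hJ
  haveI := LC.Liaison.isCohenMacaulayRing_of_gorenstein A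
  have hV2 : ∀ Q : Ideal A, Q.IsPrime → (∀ i, π (X i) ∈ Q) → Q = V.map π ∧ 2 ≤ Q.height := by
    intro Q hQ hX
    have h1 : V ≤ Q.comap π := vertex_le_of_X_mem hX
    have h2 : V = Q.comap π := hVmax.eq_of_le (Ideal.IsPrime.ne_top (Ideal.comap_isPrime π Q)) h1
    have h3 : Q = V.map π := by
      rw [h2, Ideal.map_comap_of_surjective π Ideal.Quotient.mk_surjective]
    refine ⟨h3, ?_⟩
    have h4 := (LC.Liaison.le_height_vertex (K := k) (n + 1)).trans
      (Ideal.height_le_height_add_spanFinrank_of_le hJV)
    rw [← h3] at h4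
    have h5 : J.spanFinrank ≤ r := by
      refine (Submodule.spanFinrank_span_le_ncard_of_finite (Set.finite_range f)).trans ?_
      rw [← Set.image_univ]
      exact (Set.ncard_image_le Set.finite_univ).trans (by simp)
    generalize Q.height = x at h4 ⊢
    induction x using ENat.recTopCoe with
    | top => exact le_top
    | coe x =>
      have h6 : n + 1 ≤ x + J.spanFinrank := by exact_mod_cast h4
      exact_mod_cast (by omega : 2 ≤ x)
  have hR : LocCoh.HasRk 1 A := by
    intro Q _ hQ
    by_cases hX : ∀ i, π (X i) ∈ Q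
    · exact absurd ((hV2 Q ‹_› hX).2.trans hQ) (by norm_num)
    · push Not at hX
      obtain ⟨_, _⟩ := hnorm Q hX
      refine FlatLoc6.regular_of_normal _ ?_
      rw [IsLocalization.AtPrime.ringKrullDim_eq_height Q]
      exact_mod_cast hQ
  have hS : LocCoh.HasSk 2 A A := by
    refine (FlatLoc6.hasSk_self_iff 2).2 fun p _ => ?_
    have h := (LocCoh.IsCohenMacaulayRing.isCohenMacaulayLocalRing_localization (R := A) p).supportDim_eq_depth
    rw [Module.supportDim_self_eq_ringKrullDim, IsLocalization.AtPrime.ringKrullDim_eq_height p,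
      WithBot.coe_eq_coe] at h
    rw [← h]
    exact min_le_right _ _
  have hVA : (V.map π).IsPrime :=
    Ideal.map_isPrime_of_surjective Ideal.Quotient.mk_surjective (by rw [Ideal.mk_ker]; exact hJV)
  haveI := (FlatLoc6.normal_atPrime_of_R1_S2 hR hS (V.map π)).1
  haveI : IsDomain A := by
    refine Function.Injective.isDomain (algebraMap A (Localization.AtPrime (V.map π))) ?_
    refine (injective_iff_map_eq_zero _).2 fun a ha => ?_
    obtain ⟨⟨s, hs⟩, hsa⟩ := (IsLocalization.map_eq_zero_iff (V.map π).primeCompl _ a).1 ha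
    obtain ⟨a, rfl⟩ := Ideal.Quotient.mk_surjective a
    obtain ⟨s, rfl⟩ := Ideal.Quotient.mk_surjective s
    refine Ideal.Quotient.eq_zero_iff_mem.2 (mem_of_mul_mem f d hf (s := s) (fun h0 => hs ?_) ?_)
    · exact Ideal.mem_map_of_mem π (show s ∈ V from h0)
    · rw [← Ideal.Quotient.eq_zero_iff_mem, map_mul]
      exact hsa
  refine ⟨inferInstance, IsIntegrallyClosed.of_localization_maximal fun P _ _ => ?_⟩
  exact (FlatLoc6.normal_atPrime_of_R1_S2 hR hS P).2

end Groth.Agent.H4CI
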