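import Groth.Agent.BertiniSec.Affine
import Groth.Agent.CotTLib.SmoothField
import Groth.Agent.H4CI.Cone
import Mathlib.RingTheory.Smooth.StandardSmoothOfFree
import Mathlib.RingTheory.Derivation.Basic
import Mathlib.Algebra.MvPolynomial.PDeriv

/-!
# Bertini for complete intersections in projective space, chart by chart
-/

set_option autoImplicit false
set_option linter.style.haveILetI false

universe u

open MvPolynomial KaehlerDifferential

namespace Groth.Agent.H4CI

variable (k : Type u) [Field k] (n : ℕ)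

/-- The ideal of the chart `x_j = 1` of the projective scheme cut out by `I`. -/
noncomputable def chartIdeal (I : Ideal (MvPolynomial (Fin (n + 1)) k)) (j : Fin (n + 1)) :
    Ideal (MvPolynomial (Fin (n + 1)) k) :=
  I ⊔ Ideal.span {X j - 1}

/-- The chart `x_j = 1` of the projective scheme cut out by `I`. -/
abbrev Chart (I : Ideal (MvPolynomial (Fin (n + 1)) k)) (j : Fin (n + 1)) : Type u :=
  MvPolynomial (Fin (n + 1)) k ⧸ chartIdeal k n I j

variable {k n}

theorem smooth_chart_bot (j : Fin (n + 1)) : Algebra.Smooth k (Chart k n ⊥ j) := by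
  let S := MvPolynomial (Fin (n + 1)) k
  haveI : Algebra.Smooth k S := ⟨inferInstance, inferInstance⟩
  haveI := BertiniSec.smooth_quotient (k := k) (X j - 1 : S) fun v hv _ =>
    ⟨(pderiv j).liftKaehlerDifferential, by
      rw [Derivation.liftKaehlerDifferential_comp_D, map_sub, pderiv_X_self, Derivation.map_one_eq_zero, sub_zero]
      exact fun h => hv.ne_top ((Ideal.eq_top_iff_one v).2 h)⟩
  refine Algebra.Smooth.of_equiv (Ideal.quotientEquivAlgOfEq k (?_ : Ideal.span {X j - 1} = chartIdeal k n ⊥ j))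
  rw [chartIdeal, bot_sup_eq]

/-- Constants plus linear functions fill out the first order jets at a rational point. -/
theorem jet_of_generators [IsAlgClosed k] {B : Type u} [CommRing B] [Algebra k B] [Algebra.FiniteType k B]
    {N : ℕ} (x : Fin N → B) (hx : Algebra.adjoin k (Set.range x) = ⊤) (nB : Ideal B) [nB.IsMaximal] (y : B) :
    y ∈ Submodule.span k (insert 1 (Set.range x)) ⊔ (nB ^ 2).restrictScalars k := by
  set W := Submodule.span k (insert 1 (Set.range x)) ⊔ (nB ^ 2).restrictScalars k with hW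
  have h1 : (1 : B) ∈ W := Submodule.mem_sup_left (Submodule.subset_span (Set.mem_insert _ _))
  have hx1 : ∀ i, x i ∈ W := fun i => Submodule.mem_sup_left (Submodule.subset_span (Set.mem_insert_of_mem _ ⟨i, rfl⟩))
  have hc : ∀ t : k, algebraMap k B t ∈ W := fun t => by
    rw [Algebra.algebraMap_eq_smul_one]
    exact W.smul_mem t h1
  have hconst : ∀ w : B, ∃ t : k, w - algebraMap k B t ∈ nB := fun w => by
    letI := Ideal.Quotient.field nB
    haveI : Module.Finite k (B ⧸ nB) := finite_of_finite_type_of_isJacobsonRing k (B ⧸ nB)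
    haveI : Algebra.IsIntegral k (B ⧸ nB) := Algebra.IsIntegral.of_finite k _
    obtain ⟨t, ht⟩ := (IsAlgClosed.algebraMap_bijective_of_isIntegral (k := k) (K := B ⧸ nB)).2
      (Ideal.Quotient.mk nB w)
    exact ⟨t, Ideal.Quotient.eq.1 (by rw [← ht]; rfl)⟩
  have hmul : ∀ l, ∀ w ∈ W, x l * w ∈ W := by
    intro l w hw
    obtain ⟨a, ha, b, hb, rfl⟩ := Submodule.mem_sup.1 hw
    clear hw
    rw [mul_add]
    refine W.add_mem ?_ (Submodule.mem_sup_right (Ideal.mul_mem_left _ _ hb))
    induction ha using Submodule.span_induction with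
    | mem z hz =>
      rcases hz with rfl | ⟨i, rfl⟩
      · rw [mul_one]; exact hx1 l
      · obtain ⟨s, hs⟩ := hconst (x l)
        obtain ⟨t, ht⟩ := hconst (x i)
        have e : x l * x i = (x l - algebraMap k B s) * (x i - algebraMap k B t) + (s • x i + t • x l
            - algebraMap k B (s * t)) := by
          simp only [Algebra.smul_def, map_mul]; ring
        rw [e]
        exact W.add_mem (Submodule.mem_sup_right (by rw [pow_two]; exact Ideal.mul_mem_mul hs ht))
          (W.sub_mem (W.add_mem (W.smul_mem _ (hx1 i)) (W.smul_mem _ (hx1 l))) (hc _))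
    | zero => simp
    | add p q _ _ hp hq => rw [mul_add]; exact W.add_mem hp hq
    | smul c p _ hp => rw [mul_smul_comm]; exact W.smul_mem c hp
  suffices H : ∀ z ∈ Algebra.adjoin k (Set.range x), ∀ w ∈ W, z * w ∈ W by
    simpa using H y (by rw [hx]; exact Algebra.mem_top) 1 h1
  intro z hz
  induction hz using Algebra.adjoin_induction with
  | mem z hz => obtain ⟨i, rfl⟩ := hz; exact hmul i
  | algebraMap t => intro w hw; rw [← Algebra.smul_def]; exact W.smul_mem t hw
  | add p q _ _ hp hq => intro w hw; rw [add_mul]; exact W.add_mem (hp w hw) (hq w hw)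
  | mul p q _ _ hp hq => intro w hw; rw [mul_assoc]; exact hp _ (hq w hw)

theorem generates_chart (I : Ideal (MvPolynomial (Fin (n + 1)) k)) (j : Fin (n + 1)) :
    Algebra.adjoin k (Set.range fun i => Ideal.Quotient.mk (chartIdeal k n I j) (X i)) = ⊤ := by
  rw [← Function.comp_def, Set.range_comp,
    show (Ideal.Quotient.mk (chartIdeal k n I j) : MvPolynomial (Fin (n + 1)) k → _) =
      Ideal.Quotient.mkₐ k (chartIdeal k n I j) from rfl, Algebra.adjoin_image, adjoin_range_X,
    Algebra.map_top, AlgHom.range_eq_top]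
  exact Ideal.Quotient.mkₐ_surjective k _

theorem mk_X_eq_one (I : Ideal (MvPolynomial (Fin (n + 1)) k)) (j : Fin (n + 1)) :
    Ideal.Quotient.mk (chartIdeal k n I j) (X j) = 1 := by
  rw [← map_one (Ideal.Quotient.mk (chartIdeal k n I j)), Ideal.Quotient.eq]
  exact Submodule.mem_sup_right (Ideal.mem_span_singleton_self _)

variable (k n) in
/-- A family of forms of degree `d` separating first order jets on every chart. -/
noncomputable def jetForms (d : ℕ) (p : Fin ((n + 1) * (n + 1))) : MvPolynomial (Fin (n + 1)) k :=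
  X p.divNat * X p.modNat ^ (d - 1)

variable (k n) in
/-- The member of the family with the given coefficients. -/
noncomputable def form (d : ℕ) (c : Fin ((n + 1) * (n + 1)) → k) : MvPolynomial (Fin (n + 1)) k :=
  ∑ p, C (c p) * jetForms k n d p

theorem isHomogeneous_form {d : ℕ} (hd : 0 < d) (c : Fin ((n + 1) * (n + 1)) → k) :
    (form k n d c).IsHomogeneous d := by
  refine IsHomogeneous.sum _ _ _ fun p _ => ?_
  have h := (isHomogeneous_C (Fin (n + 1)) (c p)).mul ((isHomogeneous_X k p.divNat).mul ((isHomogeneous_X k p.modNat).pow (d - 1)))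
  convert h using 1 <;> first | rfl | omega

theorem jetForms_pair {d : ℕ} (i j : Fin (n + 1)) :
    ∃ p, jetForms k n d p = X i * X j ^ (d - 1) := by
  refine ⟨finProdFinEquiv (i, j), ?_⟩
  have h := finProdFinEquiv.symm_apply_apply (i, j)
  rw [finProdFinEquiv_symm_apply] at h
  have h1 := congrArg Prod.fst h
  have h2 := congrArg Prod.snd h
  simp only at h1 h2
  rw [jetForms, h1, h2]

theorem jets_chart [IsAlgClosed k] (I : Ideal (MvPolynomial (Fin (n + 1)) k)) (j : Fin (n + 1)) {d : ℕ} (hd : 0 < d)
    (nB : Ideal (Chart k n I j)) [nB.IsMaximal] (y : Chart k n I j) :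
    ∃ c : Fin ((n + 1) * (n + 1)) → k,
      ∑ p, algebraMap k (Chart k n I j) (c p) * Ideal.Quotient.mk _ (jetForms k n d p) - y ∈ nB ^ 2 := by
  let a : Fin ((n + 1) * (n + 1)) → Chart k n I j := fun p => Ideal.Quotient.mk _ (jetForms k n d p)
  have hmem : ∀ i, Ideal.Quotient.mk (chartIdeal k n I j) (X i) ∈ Submodule.span k (Set.range a) := fun i => by
    obtain ⟨p, hp⟩ := jetForms_pair (k := k) (d := d) i j
    refine Submodule.subset_span ⟨p, ?_⟩
    simp only [a, hp, map_mul, map_pow, mk_X_eq_one, one_pow, mul_one]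
  have hle : Submodule.span k (insert 1 (Set.range fun i => Ideal.Quotient.mk (chartIdeal k n I j) (X i))) ≤
      Submodule.span k (Set.range a) := by
    rw [Submodule.span_le]
    rintro _ (rfl | ⟨i, rfl⟩)
    · rw [← mk_X_eq_one I j]; exact hmem j
    · exact hmem i
  obtain ⟨u, hu, v, hv, huv⟩ := Submodule.mem_sup.1 (jet_of_generators _ (generates_chart I j) nB y)
  obtain ⟨c, hc⟩ := (Submodule.mem_span_range_iff_exists_fun k).1 (hle hu)
  refine ⟨c, ?_⟩
  simp only [← Algebra.smul_def]
  rw [hc, ← huv, sub_add_cancel_left]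
  exact neg_mem hv

/-- Jets separated on an algebra are separated on its basic opens. -/
theorem jets_away [IsAlgClosed k] {B : Type u} [CommRing B] [Algebra k B] [Algebra.FiniteType k B] (g : B)
    {m : ℕ} (a : Fin m → B)
    (hjet : ∀ nB : Ideal B, nB.IsMaximal → ∀ y : B, ∃ c : Fin m → k, ∑ i, algebraMap k B (c i) * a i - y ∈ nB ^ 2)
    (nG : Ideal (Localization.Away g)) [nG.IsMaximal] (y : Localization.Away g) :
    ∃ c : Fin m → k, ∑ i, algebraMap k (Localization.Away g) (c i) * algebraMap B (Localization.Away g) (a i) - y ∈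
      nG ^ 2 := by
  haveI : IsJacobsonRing B := isJacobsonRing_of_finiteType (A := k)
  obtain ⟨hm, hg⟩ := (IsLocalization.isMaximal_iff_isMaximal_disjoint (Localization.Away g) g nG).1 ‹_›
  let n₀ := nG.comap (algebraMap B (Localization.Away g))
  haveI : n₀.IsMaximal := hm
  obtain ⟨b, ⟨s, hs⟩, hy⟩ := IsLocalization.exists_mk'_eq (Submonoid.powers g) y
  obtain ⟨e, rfl⟩ := hs
  -- invert `g ^ e` modulo `n₀ ^ 2`
  obtain ⟨u, t, ht, hut⟩ : ∃ u t, t ∈ n₀ ^ 2 ∧ u * g ^ e + t = 1 := by
    have h : Ideal.span {g ^ e} ⊔ n₀ ^ 2 = ⊤ := by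
      by_contra hne
      obtain ⟨M, hM, hle⟩ := Ideal.exists_le_maximal _ hne
      have hge : g ^ e ∈ M := hle (Ideal.mem_sup_left (Ideal.mem_span_singleton_self _))
      have hn : n₀ = M := ‹n₀.IsMaximal›.eq_of_le hM.ne_top
        ((le_sup_right.trans hle).trans' le_rfl |> fun h' => hM.isPrime.le_of_pow_le h')
      exact hg (show g ∈ n₀ from hn.symm ▸ hM.isPrime.mem_of_pow_mem e hge)
    obtain ⟨z, hz, t, ht, hzt⟩ := Submodule.mem_sup.1 ((Ideal.eq_top_iff_one _).1 h)
    obtain ⟨u, rfl⟩ := Ideal.mem_span_singleton'.1 hz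
    exact ⟨u, t, ht, hzt⟩
  obtain ⟨c, hc⟩ := hjet n₀ inferInstance (u * b)
  refine ⟨c, ?_⟩
  have hmap : ∀ z ∈ n₀ ^ 2, algebraMap B (Localization.Away g) z ∈ nG ^ 2 := fun z hz => by
    have := Ideal.mem_map_of_mem (algebraMap B (Localization.Away g)) hz
    rw [Ideal.map_pow] at this
    exact Ideal.pow_right_mono Ideal.map_comap_le 2 this
  have h1 : algebraMap B (Localization.Away g) (u * b) - y ∈ nG ^ 2 := by
    have h2 : algebraMap B (Localization.Away g) (u * b) - y = -(algebraMap B (Localization.Away g) t * y) := by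
      have h3 : y * algebraMap B (Localization.Away g) (g ^ e) = algebraMap B (Localization.Away g) b := by
        rw [← hy]; exact IsLocalization.mk'_spec _ _ _
      have h4 : algebraMap B (Localization.Away g) (u * g ^ e) + algebraMap B (Localization.Away g) t = 1 := by
        rw [← map_add, hut, map_one]
      rw [map_mul] at h4 ⊢
      rw [← h3]
      linear_combination y * h4
    rw [h2]
    exact neg_mem (Ideal.mul_mem_right _ _ (hmap t ht))
  have h5 : ∑ i, algebraMap k (Localization.Away g) (c i) * algebraMap B (Localization.Away g) (a i) - y =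
      algebraMap B (Localization.Away g) (∑ i, algebraMap k B (c i) * a i - u * b) +
        (algebraMap B (Localization.Away g) (u * b) - y) := by
    rw [map_sub, map_sum]
    simp only [map_mul, ← IsScalarTower.algebraMap_apply]
    ring
  rw [h5]
  exact add_mem (hmap _ hc) h1

/-- A derivation condition on a basic open descends. -/
theorem exists_functional {B : Type u} [CommRing B] [Algebra k B] [Algebra.Smooth k B] (g h : B) (v : Ideal B)
    [v.IsPrime] (hg : g ∉ v)
    (φ : Ω[Localization.Away g⁄k] →ₗ[Localization.Away g] Localization.Away g)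
    (hφ : φ (D k (Localization.Away g) (algebraMap B (Localization.Away g) h)) ∉
      v.map (algebraMap B (Localization.Away g))) :
    ∃ ψ : Ω[B⁄k] →ₗ[B] B, ψ (D k B h) ∉ v := by
  haveI : Module.FinitePresentation B Ω[B⁄k] := Module.finitePresentation_of_projective B _
  let G : Ω[B⁄k] →ₗ[B] Localization.Away g :=
    (φ.restrictScalars B).comp (KaehlerDifferential.map k k B (Localization.Away g))
  obtain ⟨ψ, ⟨s, hs⟩, hψ⟩ := Module.FinitePresentation.exists_lift_of_isLocalizedModule
    (Submonoid.powers g) (Algebra.linearMap B (Localization.Away g)) G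
  refine ⟨ψ, fun hmem => hφ ?_⟩
  have h1 : algebraMap B (Localization.Away g) (ψ (D k B h)) =
      s • φ (D k (Localization.Away g) (algebraMap B (Localization.Away g) h)) := by
    have := LinearMap.congr_fun hψ (D k B h)
    simp only [LinearMap.comp_apply, LinearMap.smul_apply, Algebra.linearMap_apply, G,
      LinearMap.restrictScalars_apply, KaehlerDifferential.map_D, Submonoid.smul_def] at this
    exact this
  have hdisj : Disjoint (Submonoid.powers g : Set B) v :=
    Set.disjoint_left.2 fun z hz hzv => by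
      obtain ⟨e, rfl⟩ := hz
      exact hg (‹v.IsPrime›.mem_of_pow_mem e hzv)
  haveI := IsLocalization.isPrime_of_isPrime_disjoint (Submonoid.powers g) (Localization.Away g) v ‹_› hdisj
  have h2 := Ideal.mem_map_of_mem (algebraMap B (Localization.Away g)) hmem
  rw [h1, Algebra.smul_def] at h2
  refine (Ideal.IsPrime.mem_or_mem inferInstance h2).resolve_left fun h3 => ?_
  have hu : IsUnit (algebraMap B (Localization.Away g) s) := IsLocalization.map_units _ (⟨s, hs⟩ : Submonoid.powers g)
  exact Ideal.IsPrime.ne_top inferInstance (Ideal.eq_top_of_isUnit_mem _ h3 hu)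

/-- Bad coefficients on a smooth algebra where the family separates jets. -/
theorem smooth_bad [IsAlgClosed k] {B : Type u} [CommRing B] [Algebra k B] [Algebra.Smooth k B] {m : ℕ}
    (a : Fin m → B)
    (hjet : ∀ nB : Ideal B, nB.IsMaximal → ∀ y : B, ∃ c : Fin m → k, ∑ i, algebraMap k B (c i) * a i - y ∈ nB ^ 2) :
    ∃ G : MvPolynomial (Fin m) k, G ≠ 0 ∧ ∀ c : Fin m → k, MvPolynomial.eval c G ≠ 0 →
      Algebra.Smooth k (B ⧸ Ideal.span {∑ i, algebraMap k B (c i) * a i}) := by
  classical
  obtain ⟨s, hs, hstd⟩ := Algebra.Smooth.exists_span_eq_top_isStandardSmooth k B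
  obtain ⟨t, hts, ht⟩ : ∃ t : Finset B, (t : Set B) ⊆ s ∧ Ideal.span (t : Set B) = ⊤ := by
    obtain ⟨t, hts, h1⟩ := Submodule.mem_span_finite_of_mem_span (show (1 : B) ∈ Submodule.span B s from
      ((Ideal.eq_top_iff_one _).1 hs))
    exact ⟨t, hts, (Ideal.eq_top_iff_one _).2 h1⟩
  have key : ∀ g ∈ t, ∃ G : MvPolynomial (Fin m) k, G ≠ 0 ∧ ∀ c : Fin m → k, MvPolynomial.eval c G ≠ 0 →
      ∀ v : Ideal B, v.IsPrime → g ∉ v → ∑ i, algebraMap k B (c i) * a i ∈ v →
        ∃ ψ : Ω[B⁄k] →ₗ[B] B, ψ (D k B (∑ i, algebraMap k B (c i) * a i)) ∉ v := by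
    intro g hg
    rcases subsingleton_or_nontrivial (Localization.Away g) with h0 | h0
    · refine ⟨1, one_ne_zero, fun c _ v hv hgv _ => False.elim ?_⟩
      obtain ⟨⟨_, e, rfl⟩, he⟩ := (IsLocalization.map_eq_zero_iff (Submonoid.powers g) (Localization.Away g) 1).1
        (Subsingleton.elim _ _)
      exact hgv (hv.mem_of_pow_mem e (by simp only [mul_one] at he; rw [he]; exact v.zero_mem))
    · obtain ⟨ι, σ, _, _, ⟨P⟩⟩ := (hstd g (hts hg)).out
      haveI := P.isStandardSmoothOfRelativeDimension (n := P.dimension) rfl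
      obtain ⟨G, hG0, hG⟩ := BertiniSec.jets_bad (k := k) P.dimension
        (fun i => algebraMap B (Localization.Away g) (a i)) 0 (fun nG hnG y => jets_away g a hjet nG y)
      refine ⟨G, hG0, fun c hc v hv hgv hmem => ?_⟩
      have hdisj : Disjoint (Submonoid.powers g : Set B) v :=
        Set.disjoint_left.2 fun z hz hzv => by
          obtain ⟨e, rfl⟩ := hz
          exact hgv (hv.mem_of_pow_mem e hzv)
      have hprime := IsLocalization.isPrime_of_isPrime_disjoint (Submonoid.powers g) (Localization.Away g) v hv hdisj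
      have he : (0 : Localization.Away g) + ∑ i, algebraMap k (Localization.Away g) (c i) *
          algebraMap B (Localization.Away g) (a i) =
          algebraMap B (Localization.Away g) (∑ i, algebraMap k B (c i) * a i) := by
        rw [zero_add, map_sum]
        simp only [map_mul, ← IsScalarTower.algebraMap_apply]
      obtain ⟨φ, hφ⟩ := hG c hc _ hprime (he ▸ Ideal.mem_map_of_mem _ hmem)
      rw [he] at hφ
      exact exists_functional g _ v hgv φ hφ
  choose G hG0 hG using key
  refine ⟨∏ g ∈ t.attach, G g.1 g.2, Finset.prod_ne_zero_iff.2 fun g _ => hG0 g.1 g.2, fun c hc => ?_⟩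
  rw [map_prod, Finset.prod_ne_zero_iff] at hc
  refine BertiniSec.smooth_quotient _ fun v hv hmem => ?_
  obtain ⟨g, hgt, hgv⟩ : ∃ g ∈ t, g ∉ v := by
    by_contra! hall
    exact hv.ne_top (top_le_iff.1 (ht ▸ Ideal.span_le.2 hall))
  exact hG g hgt c (hc ⟨g, hgt⟩ (Finset.mem_attach _ _)) v hv hgv hmem

/-- Bad coefficients for a chart. -/
theorem chart_bad [IsAlgClosed k] (I : Ideal (MvPolynomial (Fin (n + 1)) k)) (j : Fin (n + 1))
    (hs : Algebra.Smooth k (Chart k n I j)) {d : ℕ} (hd : 0 < d) :
    ∃ G : MvPolynomial (Fin ((n + 1) * (n + 1))) k, G ≠ 0 ∧ ∀ c, MvPolynomial.eval c G ≠ 0 →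
      Algebra.Smooth k (Chart k n (I ⊔ Ideal.span {form k n d c}) j) := by
  haveI := hs
  obtain ⟨G, hG0, hG⟩ := smooth_bad (fun p => Ideal.Quotient.mk (chartIdeal k n I j) (jetForms k n d p))
    (fun nB hnB y => jets_chart I j hd nB y)
  refine ⟨G, hG0, fun c hc => ?_⟩
  haveI := hG c hc
  have he : ∑ p, algebraMap k (Chart k n I j) (c p) * Ideal.Quotient.mk _ (jetForms k n d p) =
      Ideal.Quotient.mk (chartIdeal k n I j) (form k n d c) := by
    simp only [form, map_sum, map_mul]
    rfl
  haveI : Algebra.Smooth k (Chart k n I j ⧸ (Ideal.span {form k n d c}).map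
      (Ideal.Quotient.mkₐ k (chartIdeal k n I j))) :=
    Algebra.Smooth.of_equiv (A := Chart k n I j ⧸ Ideal.span {∑ p, algebraMap k (Chart k n I j) (c p) *
        Ideal.Quotient.mk _ (jetForms k n d p)})
      (Ideal.quotientEquivAlgOfEq k (by rw [Ideal.map_span, Set.image_singleton, he]; rfl))
  refine Algebra.Smooth.of_equiv (A := Chart k n I j ⧸ (Ideal.span {form k n d c}).map
    (Ideal.Quotient.mkₐ k (chartIdeal k n I j))) ((DoubleQuot.quotQuotEquivQuotSupₐ k _ _).trans
      (Ideal.quotientEquivAlgOfEq k (?_ : chartIdeal k n I j ⊔ Ideal.span {form k n d c} =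
        chartIdeal k n (I ⊔ Ideal.span {form k n d c}) j)))
  rw [chartIdeal, chartIdeal, sup_assoc, sup_comm (Ideal.span {X j - 1}), ← sup_assoc]

end Groth.Agent.H4CI
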