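import Groth.Agent.BlowExc.Main
import Groth.Agent.LinType.Basic

/-!
# A blowing up in a regular centre is locally of finite presentation
-/

set_option autoImplicit false
set_option linter.style.haveILetI false

universe u

open MvPolynomial CategoryTheory CategoryTheory.Limits AlgebraicGeometry

namespace Groth.Agent.H4CI.BlowLfp

open Groth.Agent.BlowExc Groth.Agent.BlowUpLib

section ring

variable {A : Type u} [CommRing A] {n : ℕ} (a : Fin n → A) (j : Fin n)

local notation "Sub" j => {i : Fin n // i ≠ j}

/-- The kernel of the map onto a chart is generated by the linear equations. -/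
theorem ker_aeval_frc (ha : RingTheory.Sequence.IsWeaklyRegular A (List.ofFn a)) :
    RingHom.ker (aeval (R := A) (frc a j)) =
      Ideal.span (Set.range fun i : Sub j => C (a j) * X i - C (a i.1)) := by
  classical
  set I := Ideal.span (Set.range a)
  set B := BlowUp.affineAlgebra A I (a j)
  set L := Localization.Away (a j)
  refine le_antisymm (fun f hf => ?_) ?_
  · rw [RingHom.mem_ker] at hf
    let d := f.totalDegree
    let F : MvPolynomial (Fin n) A := ∑ e ∈ f.support, monomial (ext j d e) (f.coeff e)
    have hdeg : ∀ e ∈ f.support, (ext j d e).degree = d := fun e he =>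
      degree_ext j d e (le_totalDegree he)
    have hF : F.IsHomogeneous d :=
      IsHomogeneous.sum _ _ _ fun e he => isHomogeneous_monomial _ (hdeg e he)
    let t : Fin n → L := fun i => IsLocalization.mk' L (a i) ⟨a j, Submonoid.mem_powers _⟩
    have ht : ∀ i, algebraMap A L (a j) * t i = algebraMap A L (a i) := fun i =>
      IsLocalization.mk'_spec' L (a i) _
    have htj : t j = 1 := IsLocalization.mk'_self L (Submonoid.mem_powers (a j))
    have hev : algebraMap A L (eval a F) =
        algebraMap A L (a j) ^ d * ((aeval (R := A) (frc a j) f : B) : L) := by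
      conv_rhs => rw [f.as_sum]
      rw [map_sum, map_sum, map_sum, AddSubmonoidClass.coe_finsetSum, Finset.mul_sum]
      refine Finset.sum_congr rfl fun e he => ?_
      rw [eval_monomial, aeval_monomial, Finsupp.prod_fintype _ _ (by simp),
        Finsupp.prod_fintype _ _ (by simp), map_mul, map_prod, MulMemClass.coe_mul,
        SubmonoidClass.coe_finsetProd]
      have h1 : ∀ i, algebraMap A L (a i ^ ext j d e i) =
          algebraMap A L (a j) ^ ext j d e i * t i ^ ext j d e i := fun i => by
        rw [← mul_pow, ht, map_pow]
      simp only [h1, Finset.prod_mul_distrib, Finset.prod_pow_eq_pow_sum]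
      rw [← Finsupp.degree_eq_sum, hdeg e he]
      have h2 : ∏ i, t i ^ ext j d e i = ∏ i : Sub j, ((frc a j i ^ e i : B) : L) := by
        rw [← Finset.prod_subset (Finset.subset_univ (Finset.univ.erase j)) (fun i _ hi => by
            rw [show i = j by simpa using hi, htj, one_pow]),
          Finset.prod_subtype (Finset.univ.erase j) (p := fun i => i ≠ j) (fun i => by simp)]
        refine Finset.prod_congr rfl fun i _ => ?_
        rw [ext_apply_val, SubmonoidClass.coe_pow]
        rfl
      rw [h2, mul_left_comm]
      rfl
    rw [hf, ZeroMemClass.coe_zero, mul_zero] at hev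
    obtain ⟨⟨_, N, rfl⟩, hN⟩ := (IsLocalization.map_eq_zero_iff (Submonoid.powers (a j)) L _).mp hev
    have hP : ((X j : MvPolynomial (Fin n) A) ^ N * F).IsHomogeneous (N + d) := by
      simpa using ((isHomogeneous_X A j).pow N).mul hF
    have h0 : aeval a ((X j : MvPolynomial (Fin n) A) ^ N * F) = 0 := by
      rw [map_mul, map_pow, aeval_X, aeval_eq_eval]
      exact hN
    have hmem := LinType.mem_rel_of_homogeneous a ha hP h0
    let π : MvPolynomial (Fin n) A →ₐ[A] MvPolynomial (Sub j) A :=
      aeval fun i => if h : i = j then 1 else X ⟨i, h⟩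
    have hπj : π (X j) = 1 := by simp [π]
    have hπne : ∀ i : Sub j, π (X i.1) = X i := fun i => by simp [π, i.2]
    have hπF : π F = f := by
      conv_rhs => rw [f.as_sum]
      rw [map_sum]
      refine Finset.sum_congr rfl fun e _ => ?_
      rw [show monomial (ext j d e) (coeff e f) =
          C (coeff e f) * ∏ i, X i ^ ext j d e i by
        rw [monomial_eq, Finsupp.prod_fintype _ _ (by simp)]]
      rw [map_mul, map_prod, monomial_eq, Finsupp.prod_fintype _ _ (by simp)]
      congr 1
      · simp [π]
      · rw [← Finset.prod_subset (Finset.subset_univ (Finset.univ.erase j)) (fun i _ hi => by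
            rw [show i = j by simpa using hi, map_pow, hπj, one_pow]),
          Finset.prod_subtype (Finset.univ.erase j) (p := fun i => i ≠ j) (fun i => by simp)]
        refine Finset.prod_congr rfl fun i _ => ?_
        rw [map_pow, hπne, ext_apply_val]
    set K := Ideal.span (Set.range fun i : Sub j => C (a j) * X i - C (a i.1))
    have hu : ∀ i : Fin n, C (a j) * π (X i) - C (a i) ∈ K := fun i => by
      by_cases hi : i = j
      · subst hi
        rw [hπj, mul_one, sub_self]
        exact zero_mem _
      · rw [hπne ⟨i, hi⟩]
        exact Ideal.subset_span ⟨⟨i, hi⟩, rfl⟩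
    have hle : LinType.rel a ≤ K.comap π := by
      rw [LinType.rel, Ideal.span_le]
      rintro q ⟨i, k, rfl⟩
      rw [SetLike.mem_coe, Ideal.mem_comap]
      convert sub_mem (K.mul_mem_left (π (X i)) (hu k)) (K.mul_mem_left (π (X k)) (hu i)) using 1
      rw [map_sub, map_mul, map_mul, show π (C (a i)) = C (a i) by simp [π],
        show π (C (a k)) = C (a k) by simp [π]]
      ring
    have h2 := hle hmem
    rw [Ideal.mem_comap, map_mul, map_pow, hπj, one_pow, one_mul, hπF] at h2
    exact h2
  · rw [Ideal.span_le]
    rintro q ⟨i, rfl⟩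
    simp only [SetLike.mem_coe, RingHom.mem_ker, map_sub, map_mul, aeval_C, aeval_X]
    rw [frc_mul, sub_self]

theorem chart_finitePresentation (ha : RingTheory.Sequence.IsWeaklyRegular A (List.ofFn a)) :
    Algebra.FinitePresentation A (BlowUp.affineAlgebra A (Ideal.span (Set.range a)) (a j)) := by
  classical
  refine Algebra.FinitePresentation.of_surjective (aeval_surjective a j) ?_
  show (RingHom.ker (aeval (R := A) (frc a j))).FG
  rw [ker_aeval_frc a j ha]
  exact Submodule.fg_span (Set.finite_range _)

end ring

/-- A blowing up in a regular centre is locally of finite presentation. -/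
theorem lfp_of_isBlowUp {X X' Y : Scheme.{u}} (i : Y ⟶ X) (hi : Mor2.IsRegularClosedImmersion i)
    (b : X' ⟶ X) (hb : BlowUp.IsBlowUp b i.ker) : LocallyOfFinitePresentation b := by
  haveI := hi.1
  have main : ∀ x : X', ∃ (P : Scheme.{u}) (t : P ⟶ X') (_ : IsOpenImmersion t), x ∈ Set.range t ∧
      LocallyOfFinitePresentation (t ≫ b) := by
    intro x
    by_cases hx : b x ∈ i.ker.support
    · obtain ⟨y, hy⟩ : b x ∈ Set.range i := by
        rw [← SetLike.mem_coe, Scheme.Hom.support_ker, IsClosed.closure_eq i.isClosedEmbedding.isClosed_range] at hx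
        exact hx
      obtain ⟨U, hU, hyU, rs, hrs, hI⟩ := hi.2 y
      let A := Γ(X, U)
      let a : Fin rs.length → A := rs.get
      let I : Ideal A := Ideal.span (Set.range a)
      have hIU : i.ker.ideal ⟨U, hU⟩ = I := by
        rw [hI, Ideal.ofList]
        congr 1
        ext z
        exact List.mem_iff_get
      have ha : RingTheory.Sequence.IsWeaklyRegular A (List.ofFn a) := by
        rw [List.ofFn_get]; exact hrs.toIsWeaklyRegular
      have h1 := isBlowUp_of_isPullback (IsPullback.of_hasPullback hU.fromSpec b) hb
      rw [show i.ker.comap hU.fromSpec = centre I by rw [← hIU]; exact comap_fromSpec i.ker ⟨U, hU⟩] at h1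
      obtain ⟨ε, hε⟩ := exists_iso (isBlowUp_local I) h1
      let j : localBlowUp I ⟶ X' := ε.hom ≫ pullback.snd hU.fromSpec b
      have hjb : j ≫ b = toBase I ≫ hU.fromSpec := by
        rw [Category.assoc, ← pullback.condition, ← Category.assoc, hε]
      obtain ⟨v, hv⟩ : b x ∈ Set.range hU.fromSpec := by
        rw [hU.range_fromSpec, ← hy]; exact hyU
      obtain ⟨p, -, hp⟩ := Scheme.Pullback.exists_preimage_pullback v x hv
      obtain ⟨z, rfl⟩ := ε.hom.homeomorph.surjective p
      have hjz : j z = x := hp
      obtain ⟨k, hk⟩ : ∃ k : Fin rs.length, z ∈ (chart I ⟨a k, Ideal.subset_span ⟨k, rfl⟩⟩).opensRange := by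
        obtain ⟨a', ha'⟩ := chart_covers I z
        rw [opensRange_chart] at ha'
        by_contra hno
        push Not at hno
        apply ha'
        have hle : ∀ r (hr : r ∈ I), gen I ⟨r, hr⟩ ∈ z.asHomogeneousIdeal := by
          intro r hr
          refine Submodule.span_induction (p := fun r hr => gen I ⟨r, hr⟩ ∈ z.asHomogeneousIdeal) ?_ ?_ ?_ ?_ hr
          · rintro _ ⟨k, rfl⟩
            by_contra h
            exact hno k (by rw [opensRange_chart]; exact h)
          · show _ ∈ z.asHomogeneousIdeal.toIdeal
            convert zero_mem z.asHomogeneousIdeal.toIdeal using 1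
            refine Subtype.ext ?_
            show Polynomial.monomial 1 (0 : A) = 0
            exact map_zero _
          · intro r s _ _ h h'
            convert add_mem h h' using 1
            exact Subtype.ext (by simp [gen])
          · intro c r _ h
            show _ ∈ z.asHomogeneousIdeal.toIdeal
            convert Ideal.mul_mem_left z.asHomogeneousIdeal.toIdeal (algebraMap A _ c) h using 1
            refine Subtype.ext ?_
            show Polynomial.monomial 1 (c * r) = Polynomial.C c * Polynomial.monomial 1 r
            rw [Polynomial.C_mul_monomial]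
        exact hle a'.1 a'.2
      obtain ⟨w, rfl⟩ := hk
      haveI : IsOpenImmersion j := inferInstance
      let c : Spec (CommRingCat.of (BlowUp.affineAlgebra A I (a k))) ⟶ X' :=
        chart I ⟨a k, Ideal.subset_span ⟨k, rfl⟩⟩ ≫ j
      have hcb : c ≫ b = Spec.map (CommRingCat.ofHom (algebraMap A (BlowUp.affineAlgebra A I (a k)))) ≫
          hU.fromSpec := by
        rw [Category.assoc, hjb, ← Category.assoc, chart_toBase]
      refine ⟨_, c, inferInstance, ⟨w, hjz⟩, ?_⟩
      haveI : LocallyOfFinitePresentation
          (Spec.map (CommRingCat.ofHom (algebraMap A (BlowUp.affineAlgebra A I (a k))))) :=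
        (HasRingHomProperty.Spec_iff (P := @LocallyOfFinitePresentation)).2
          (RingHom.finitePresentation_algebraMap.2 (chart_finitePresentation a k ha))
      rw [hcb]
      infer_instance
    · let U : X.Opens := ⟨(i.ker.support : Set X)ᶜ, i.ker.support.isClosed.isOpen_compl⟩
      haveI := isIso_restrict hb U (fun z hz => hz)
      refine ⟨_, (b ⁻¹ᵁ U).ι, inferInstance, ⟨⟨x, hx⟩, rfl⟩, ?_⟩
      rw [← morphismRestrict_ι]
      infer_instance
  choose P t ht hmem hsm using main
  exact IsZariskiLocalAtSource.of_openCover (P := @LocallyOfFinitePresentation.{u})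
    (Scheme.Cover.mkOfCovers (P := @IsOpenImmersion) _ P t (fun e => ⟨e, hmem e⟩) ht) hsm

end Groth.Agent.H4CI.BlowLfp
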