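import Groth.Agent.H4CI.Bertini
import Mathlib.RingTheory.Localization.LocalizationLocalization
import Mathlib.RingTheory.Smooth.Basic

/-!
# From smooth charts to regularity of the punctured cone
-/

set_option autoImplicit false
set_option linter.style.haveILetI false

universe u

open MvPolynomial

namespace Groth.Agent.H4CI

variable {k : Type u} [Field k] {n : ℕ}

theorem aeval_smul_homogeneous {T : Type u} [CommRing T] [Algebra k T] (x : Fin (n + 1) → T) (u : T)
    {p : MvPolynomial (Fin (n + 1)) k} {e : ℕ} (hp : p.IsHomogeneous e) :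
    aeval (fun i => x i * u) p = aeval x p * u ^ e := by
  classical
  conv_lhs => rw [← p.support_sum_monomial_coeff]
  conv_rhs => rw [← p.support_sum_monomial_coeff]
  rw [map_sum, map_sum, Finset.sum_mul]
  refine Finset.sum_congr rfl fun v hv => ?_
  have hv' : ∑ i, v i = e := by
    have := hp (mem_support_iff.1 hv)
    simpa [Finsupp.weight_apply, Finsupp.sum_fintype] using this
  rw [aeval_monomial, aeval_monomial, Finsupp.prod_fintype _ _ (fun i => pow_zero _),
    Finsupp.prod_fintype _ _ (fun i => pow_zero _), mul_assoc, ← hv']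
  exact congrArg _ (prod_mul_pow x u (fun i => v i))

theorem smooth_polynomial_away (B : Type u) [CommRing B] [Algebra k B] [Algebra.Smooth k B] :
    Algebra.Smooth k (Localization.Away (Polynomial.X : Polynomial B)) := by
  haveI : Algebra.Smooth B (MvPolynomial PUnit.{u + 1} B) := ⟨inferInstance, inferInstance⟩
  haveI : Algebra.Smooth B (Polynomial B) := Algebra.Smooth.of_equiv (MvPolynomial.pUnitAlgEquiv B)
  haveI : Algebra.Smooth k (Polynomial B) := Algebra.Smooth.comp k B (Polynomial B)
  haveI : Algebra.FinitePresentation (Polynomial B) (Localization.Away (Polynomial.X : Polynomial B)) :=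
    IsLocalization.Away.finitePresentation (Polynomial.X : Polynomial B)
  haveI : Algebra.FinitePresentation k (Localization.Away (Polynomial.X : Polynomial B)) :=
    Algebra.FinitePresentation.trans k (Polynomial B) _
  exact ⟨inferInstance, inferInstance⟩

/-- The punctured cone over a chart. -/
abbrev Punct (B : Type u) [CommRing B] : Type u := Localization.Away (Polynomial.X : Polynomial B)

variable {B : Type u} [CommRing B] [Algebra k B] (π : MvPolynomial (Fin (n + 1)) k →ₐ[k] B)

/-- The coordinates on the punctured cone. -/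
noncomputable def coneVar (i : Fin (n + 1)) : Punct B :=
  algebraMap (Polynomial B) (Punct B) (Polynomial.C (π (X i)) * Polynomial.X)

variable (F : Set (MvPolynomial (Fin (n + 1)) k)) (j : Fin (n + 1))
  (hπ : Function.Surjective π) (hπk : RingHom.ker π.toRingHom = chartIdeal k n (Ideal.span F) j)

variable {F} (hF : ∀ f ∈ F, ∃ e, f.IsHomogeneous e)

include hF hπk in
theorem span_le_ker_coneVar : Ideal.span F ≤
    RingHom.ker (aeval (coneVar π) : MvPolynomial (Fin (n + 1)) k →ₐ[k] Punct B).toRingHom := by
  rw [Ideal.span_le]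
  intro f hf
  obtain ⟨e, he⟩ := hF f hf
  show aeval (coneVar π) f = 0
  let ι : B →ₐ[k] Punct B :=
    (IsScalarTower.toAlgHom k (Polynomial B) (Punct B)).comp (Polynomial.CAlgHom (R := k))
  have hvar : coneVar π = fun i => ι (π (X i)) * algebraMap (Polynomial B) (Punct B) Polynomial.X := by
    funext i
    rw [coneVar, map_mul]
    rfl
  rw [hvar, aeval_smul_homogeneous _ _ he]
  have h2 : (aeval (fun i => ι (π (X i))) : MvPolynomial (Fin (n + 1)) k →ₐ[k] Punct B) = ι.comp π := by
    apply MvPolynomial.algHom_ext
    intro i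
    rw [aeval_X]
    rfl
  have h0 : π f = 0 := hπk.ge (Submodule.mem_sup_left (Ideal.subset_span hf))
  rw [h2, AlgHom.comp_apply, h0, map_zero, zero_mul]

include hπk in
theorem pi_X_self : π (X j) = 1 := by
  have h : π (X j - 1) = 0 := hπk.ge (Submodule.mem_sup_right (Ideal.mem_span_singleton_self _))
  rwa [map_sub, map_one, sub_eq_zero] at h

include hF hπ hπk in
/-- A smooth chart makes the cone regular where the coordinate does not vanish. -/
theorem regular_cone_of_smooth_chart [hs : Algebra.Smooth k B]
    (Q : Ideal (MvPolynomial (Fin (n + 1)) k ⧸ Ideal.span F)) [Q.IsPrime]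
    (hQ : Ideal.Quotient.mk (Ideal.span F) (X j) ∉ Q) : IsRegularLocalRing (Localization.AtPrime Q) := by
  let A := MvPolynomial (Fin (n + 1)) k ⧸ Ideal.span F
  let xj : A := Ideal.Quotient.mk (Ideal.span F) (X j)
  let L := Localization.Away xj
  haveI := smooth_polynomial_away (k := k) B
  let ψ : A →ₐ[k] Punct B := Ideal.Quotient.liftₐ (Ideal.span F) (aeval (coneVar π))
    (fun a ha => span_le_ker_coneVar π j hπk hF ha)
  have hψ : ∀ p, ψ (Ideal.Quotient.mk (Ideal.span F) p) = aeval (coneVar π) p := fun p => rfl
  letI := ψ.toRingHom.toAlgebra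
  haveI : IsScalarTower k A (Punct B) := IsScalarTower.of_algebraMap_eq fun t => (ψ.commutes t).symm
  -- the coordinate becomes a unit
  have hxj : ψ xj = algebraMap (Polynomial B) (Punct B) (Polynomial.X : Polynomial B) := by
    rw [hψ, aeval_X, coneVar, pi_X_self π j hπk, Polynomial.C_1, one_mul]
  have hunit : IsUnit (ψ xj) := hxj ▸ IsLocalization.Away.algebraMap_isUnit (Polynomial.X : Polynomial B)
  let Ψ : L →+* Punct B := IsLocalization.Away.lift xj (g := ψ.toRingHom) hunit
  -- the inverse
  let jx : L := algebraMap A L xj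
  let inv : L := IsLocalization.Away.invSelf xj
  have hinv : jx * inv = 1 := IsLocalization.Away.mul_invSelf xj
  have hker : chartIdeal k n (Ideal.span F) j ≤ RingHom.ker
      (aeval (fun i => algebraMap A L (Ideal.Quotient.mk (Ideal.span F) (X i : MvPolynomial (Fin (n + 1)) k)) * inv) : MvPolynomial (Fin (n + 1)) k →ₐ[k] L).toRingHom := by
    refine sup_le (Ideal.span_le.2 fun f hf => ?_) (Ideal.span_le.2 ?_)
    · obtain ⟨e, he⟩ := hF f hf
      show aeval _ f = 0
      rw [aeval_smul_homogeneous _ _ he]
      have h2 : (aeval (fun i => algebraMap A L (Ideal.Quotient.mk (Ideal.span F) (X i : MvPolynomial (Fin (n + 1)) k))) : MvPolynomial (Fin (n + 1)) k →ₐ[k] L) =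
          (IsScalarTower.toAlgHom k A L).comp (Ideal.Quotient.mkₐ k (Ideal.span F)) := by
        apply MvPolynomial.algHom_ext
        intro i
        rw [aeval_X]
        rfl
      have h0 : Ideal.Quotient.mkₐ k (Ideal.span F) f = 0 :=
        Ideal.Quotient.eq_zero_iff_mem.2 (Ideal.subset_span hf)
      rw [h2, AlgHom.comp_apply, h0, map_zero, zero_mul]
    · rintro _ rfl
      show aeval _ (X j - 1 : MvPolynomial (Fin (n + 1)) k) = 0
      rw [map_sub, aeval_X, map_one, sub_eq_zero]
      exact hinv
  let θ₀ : B →ₐ[k] L := AlgHom.liftOfSurjective π hπ _ (hπk.le.trans hker)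
  have hθ₀ : ∀ p, θ₀ (π p) = aeval (fun i => algebraMap A L (Ideal.Quotient.mk (Ideal.span F) (X i)) * inv) p :=
    fun p => AlgHom.liftOfSurjective_apply π hπ _ (hπk.le.trans hker) p
  let θ : Punct B →+* L := IsLocalization.Away.lift (Polynomial.X : Polynomial B)
    (g := Polynomial.eval₂RingHom θ₀.toRingHom jx) (by
      rw [Polynomial.coe_eval₂RingHom, Polynomial.eval₂_X]
      exact IsLocalization.Away.algebraMap_isUnit xj)
  have hθ : ∀ q : Polynomial B, θ (algebraMap (Polynomial B) (Punct B) q) =
      Polynomial.eval₂ θ₀.toRingHom jx q := fun q => IsLocalization.Away.lift_eq _ _ q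
  have hΨ : ∀ a : A, Ψ (algebraMap A L a) = ψ a := fun a => IsLocalization.Away.lift_eq _ _ a
  have hθψ : ∀ a : A, θ (ψ a) = algebraMap A L a := by
    have h : (θ.comp ψ.toRingHom).comp (Ideal.Quotient.mk (Ideal.span F)) =
        (algebraMap A L).comp (Ideal.Quotient.mk (Ideal.span F)) := by
      apply MvPolynomial.ringHom_ext
      · intro t
        show θ (ψ (algebraMap k A t)) = algebraMap A L (algebraMap k A t)
        rw [AlgHom.commutes, IsScalarTower.algebraMap_apply k (Polynomial B) (Punct B), hθ,
          Polynomial.algebraMap_apply, Polynomial.eval₂_C, ← IsScalarTower.algebraMap_apply k A L]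
        exact θ₀.commutes t
      · intro i
        show θ (ψ (Ideal.Quotient.mk _ (X i))) = algebraMap A L (Ideal.Quotient.mk (Ideal.span F) (X i : MvPolynomial (Fin (n + 1)) k))
        rw [hψ, aeval_X, coneVar, hθ, Polynomial.eval₂_mul, Polynomial.eval₂_C, Polynomial.eval₂_X]
        show θ₀ (π (X i)) * jx = _
        rw [hθ₀, aeval_X, mul_assoc, mul_comm inv, hinv, mul_one]
    intro a
    obtain ⟨p, rfl⟩ := Ideal.Quotient.mk_surjective a
    exact RingHom.congr_fun h p
  have h₁ : θ.comp Ψ = RingHom.id L := by
    refine IsLocalization.ringHom_ext (Submonoid.powers xj) (RingHom.ext fun a => ?_)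
    show θ (Ψ (algebraMap A L a)) = algebraMap A L a
    rw [hΨ, hθψ]
  have h₂ : Ψ.comp θ = RingHom.id (Punct B) := by
    refine IsLocalization.ringHom_ext (Submonoid.powers (Polynomial.X : Polynomial B)) ?_
    apply Polynomial.ringHom_ext
    · intro b
      show Ψ (θ (algebraMap (Polynomial B) (Punct B) (Polynomial.C b))) = _
      rw [hθ, Polynomial.eval₂_C]
      obtain ⟨p, rfl⟩ := hπ b
      have h : (Ψ.comp θ₀.toRingHom).comp π.toRingHom =
          ((algebraMap (Polynomial B) (Punct B)).comp Polynomial.C).comp π.toRingHom := by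
        apply MvPolynomial.ringHom_ext
        · intro t
          show Ψ (θ₀ (π (algebraMap k _ t))) = algebraMap (Polynomial B) (Punct B) (Polynomial.C (π (algebraMap k _ t)))
          rw [π.commutes, θ₀.commutes, IsScalarTower.algebraMap_apply k A L, hΨ, AlgHom.commutes,
            IsScalarTower.algebraMap_apply k (Polynomial B) (Punct B), Polynomial.algebraMap_apply]
        · intro i
          show Ψ (θ₀ (π (X i))) = algebraMap (Polynomial B) (Punct B) (Polynomial.C (π (X i)))
          rw [hθ₀, aeval_X, map_mul, hΨ, hψ, aeval_X, coneVar, map_mul, mul_assoc, ← hxj, ← hΨ, ← map_mul]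
          show _ * Ψ (jx * inv) = _
          rw [hinv, map_one, mul_one]
      exact RingHom.congr_fun h p
    · show Ψ (θ (algebraMap (Polynomial B) (Punct B) Polynomial.X)) = _
      rw [hθ, Polynomial.eval₂_X]
      show Ψ (algebraMap A L xj) = _
      rw [hΨ, hxj]
      rfl
  let e : L ≃ₐ[A] Punct B := AlgEquiv.ofRingEquiv
    (f := RingEquiv.ofRingHom Ψ θ h₂ h₁) hΨ
  haveI : IsLocalization.Away xj (Punct B) := IsLocalization.isLocalization_of_algEquiv (Submonoid.powers xj) e
  have hdisj : Disjoint (Submonoid.powers xj : Set A) Q :=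
    Set.disjoint_left.2 fun z hz hzv => by
      obtain ⟨e, rfl⟩ := hz
      exact hQ (‹Q.IsPrime›.mem_of_pow_mem e hzv)
  haveI hQ' := IsLocalization.isPrime_of_isPrime_disjoint (Submonoid.powers xj) (Punct B) Q ‹_› hdisj
  haveI : Algebra.IsSmoothAt k (Q.map (algebraMap A (Punct B))) :=
    inferInstanceAs (Algebra.FormallySmooth k (Localization _))
  haveI := CotTLib.isRegularLocalRing_of_isSmoothAt (k := k) (Q.map (algebraMap A (Punct B)))
  have hc : (Q.map (algebraMap A (Punct B))).comap (algebraMap A (Punct B)) = Q :=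
    IsLocalization.under_map_of_isPrime_disjoint (Submonoid.powers xj) (Punct B) ‹_› hdisj
  have key : ∀ (Q₀ : Ideal A) [Q₀.IsPrime], (Q.map (algebraMap A (Punct B))).comap (algebraMap A (Punct B)) = Q₀ →
      IsRegularLocalRing (Localization.AtPrime Q₀) := by
    intro Q₀ _ e0
    subst e0
    haveI := IsLocalization.isLocalization_isLocalization_atPrime_isLocalization (Submonoid.powers xj)
      (Localization.AtPrime (Q.map (algebraMap A (Punct B)))) (Q.map (algebraMap A (Punct B)))
    exact IsRegularLocalRing.of_ringEquiv (IsLocalization.algEquiv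
      ((Q.map (algebraMap A (Punct B))).comap (algebraMap A (Punct B))).primeCompl
      (Localization.AtPrime ((Q.map (algebraMap A (Punct B))).comap (algebraMap A (Punct B))))
      (Localization.AtPrime (Q.map (algebraMap A (Punct B))))).toRingEquiv.symm
  exact key Q hc

end Groth.Agent.H4CI
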