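import Groth.Agent.LC.LiaisonLink
import Groth.Agent.LC.GorQuot
import Groth.Agent.CMPointLib.Basic
import Groth.Agent.FlatLoc6.Miracle

/-!
# Residual intersections in Gorenstein local rings
-/

set_option autoImplicit false
set_option linter.style.haveILetI false

universe u

open IsLocalRing RingTheory.Sequence CategoryTheory CategoryTheory.Limits
open scoped Pointwise

namespace Groth.Agent.H4CI.GorLink

/-- A Cohen–Macaulay local ring modulo a regular element. -/
theorem isCMLocal_quot {R : Type u} [CommRing R] [LocCoh.IsCohenMacaulayLocalRing R] {x : R}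
    (hx : x ∈ maximalIdeal R) (hreg : IsSMulRegular R x) [IsLocalRing (R ⧸ Ideal.span {x})] :
    LocCoh.IsCohenMacaulayLocalRing (R ⧸ Ideal.span {x}) := by
  refine { supportDim_eq_depth := ?_ }
  have hmax : (maximalIdeal R).map (Ideal.Quotient.mk (Ideal.span {x})) = maximalIdeal (R ⧸ Ideal.span {x}) :=
    map_maximalIdeal_of_surjective _ Ideal.Quotient.mk_surjective
  have hspan : Ideal.span {x} = x • (⊤ : Ideal R) := by simp [← Submodule.ideal_span_singleton_smul]
  have h2 : LocCoh.idealDepth (maximalIdeal R) (QuotSMulTop x R) =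
      LocCoh.depth (R ⧸ Ideal.span {x}) (R ⧸ Ideal.span {x}) := by
    rw [LocCoh.depth, ← hmax, ← LC.idealDepth_quot_self_le]
    exact LC.idealDepth_congr _ (Submodule.quotEquivOfEq _ _ hspan.symm)
  have h3 := LocCoh.IsCohenMacaulayLocalRing.supportDim_eq_depth (R := R)
  rw [Module.supportDim_self_eq_ringKrullDim,
    ← ringKrullDim_quotient_span_singleton_succ_eq_ringKrullDim hreg hx,
    show LocCoh.depth R R = LocCoh.idealDepth (maximalIdeal R) R from rfl,
    ← LC.idealDepth_quotSMulTop_add_one (maximalIdeal R) (M := R) hx hreg, h2] at h3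
  rw [Module.supportDim_self_eq_ringKrullDim]
  obtain ⟨D, hD⟩ := LC.exists_supportDim_eq_nat (R := R ⧸ Ideal.span {x}) (R ⧸ Ideal.span {x})
  rw [Module.supportDim_self_eq_ringKrullDim] at hD
  rw [hD] at h3 ⊢
  generalize LocCoh.depth (R ⧸ Ideal.span {x}) (R ⧸ Ideal.span {x}) = e at h3 ⊢
  induction e using ENat.recTopCoe with
  | top => exact absurd (WithBot.coe_inj.1 (show (((D + 1 : ℕ) : ℕ∞) : WithBot ℕ∞) = ((⊤ : ℕ∞) : WithBot ℕ∞) by
      simpa using h3)) (by simp)
  | coe e =>
    have : D + 1 = e + 1 := by exact_mod_cast h3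
    exact_mod_cast (by omega : D = e)

/-- In a Cohen–Macaulay local ring a sequence cutting the dimension by its length is regular. -/
theorem isWeaklyRegular_of_dim_le {B : Type u} [CommRing B] [LocCoh.IsCohenMacaulayLocalRing B] (rs : List B)
    (hmem : ∀ r ∈ rs, r ∈ maximalIdeal B)
    (hdim : ringKrullDim (B ⧸ Ideal.ofList rs) + ((rs.length : ℕ) : WithBot ℕ∞) ≤ ringKrullDim B) :
    IsWeaklyRegular B rs := by
  have hCM : LocCoh.IsCohenMacaulayModule B B := LocCoh.IsCohenMacaulayLocalRing.supportDim_eq_depth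
  have hle : Ideal.ofList rs ≤ maximalIdeal B := LC.ofList_le _ hmem
  have hne : Ideal.ofList rs ≠ ⊤ := fun h => (maximalIdeal.isMaximal B).ne_top (top_le_iff.1 (h ▸ hle))
  have h := LC.supportDim_eq_add_idealDepth B hCM hne
  rw [Module.supportDim_eq_of_equiv (Submodule.quotEquivOfEq (Ideal.ofList rs • ⊤ : Submodule B B) (Ideal.ofList rs)
    (by rw [Ideal.smul_eq_mul, Ideal.mul_top])), Module.supportDim_quotient_eq_ringKrullDim,
    Module.supportDim_self_eq_ringKrullDim] at h
  haveI : Nontrivial (B ⧸ Ideal.ofList rs) := Ideal.Quotient.nontrivial_iff.2 hne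
  obtain ⟨b, hb⟩ := LC.exists_supportDim_eq_nat (R := B) (B ⧸ Ideal.ofList rs)
  rw [Module.supportDim_quotient_eq_ringKrullDim] at hb
  obtain ⟨e, he⟩ := ENat.ne_top_iff_exists.mp
    (ne_top_of_le_ne_top (ENat.natCast_ne_top _) (LC.idealDepth_ofList_le_length (M := B) rs hmem))
  refine (LC.idealDepth_ofList_eq_length_iff rs hmem).1 (le_antisymm (LC.idealDepth_ofList_le_length rs hmem) ?_)
  rw [h, hb, ← he] at hdim
  rw [← he]
  have : b + rs.length ≤ b + e := by exact_mod_cast hdim
  exact_mod_cast (by omega : rs.length ≤ e)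

variable {A : Type u} [CommRing A]

theorem isLocalRing_quot' [IsLocalRing A] {J : Ideal A} (hJ : J ≠ ⊤) : IsLocalRing (A ⧸ J) := by
  haveI := Ideal.Quotient.nontrivial_iff.2 hJ
  exact .of_surjective' _ Ideal.Quotient.mk_surjective

theorem ne_top_of_dim [IsLocalRing A] {I : Ideal A} (hI : ringKrullDim (A ⧸ I) = ringKrullDim A) : I ≠ ⊤ := by
  rintro rfl
  haveI := Ideal.Quotient.subsingleton_iff.2 (rfl : (⊤ : Ideal A) = ⊤)
  rw [ringKrullDim_eq_bot_of_subsingleton] at hI
  have h0 := ringKrullDim_nonneg_of_nontrivial (R := A)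
  rw [← hI] at h0
  simp at h0

/-- A regular sequence of the ring stays regular on a maximal Cohen–Macaulay quotient. -/
theorem isWeaklyRegular_quot [IsLocalRing A] [IsNoetherianRing A] (I : Ideal A)
    (hI : ringKrullDim (A ⧸ I) = ringKrullDim A) [LocCoh.IsCohenMacaulayLocalRing (A ⧸ I)] (rs : List A)
    (hmem : ∀ r ∈ rs, r ∈ maximalIdeal A) (hreg : IsWeaklyRegular A rs) : IsWeaklyRegular (A ⧸ I) rs := by
  refine (isWeaklyRegular_map_algebraMap_iff (A ⧸ I) (A ⧸ I) rs).1 ?_
  refine isWeaklyRegular_of_dim_le _ (fun r hr => ?_) ?_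
  · obtain ⟨a, ha, rfl⟩ := List.mem_map.1 hr
    haveI : IsLocalHom (algebraMap A (A ⧸ I)) :=
      IsLocalHom.of_surjective (Ideal.Quotient.mk I) Ideal.Quotient.mk_surjective
    exact map_nonunit (algebraMap A (A ⧸ I)) a (hmem a ha)
  · rw [List.length_map]
    have h1 := Module.supportDim_add_length_eq_supportDim_of_isRegular rs
      (IsRegular.of_isWeaklyRegular_of_mem_maximalIdeal A hmem hreg)
    rw [Module.supportDim_eq_of_equiv (Submodule.quotEquivOfEq (Ideal.ofList rs • ⊤ : Submodule A A) (Ideal.ofList rs)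
      (by rw [Ideal.smul_eq_mul, Ideal.mul_top])), Module.supportDim_quotient_eq_ringKrullDim,
      Module.supportDim_self_eq_ringKrullDim, ← hI] at h1
    refine le_trans (add_le_add ?_ le_rfl) h1.le
    refine ringKrullDim_le_of_surjective
      (Ideal.quotientMap (Ideal.ofList (rs.map (algebraMap A (A ⧸ I)))) (Ideal.Quotient.mk I) ?_) ?_
    · refine (Ideal.map_le_iff_le_comap).1 ?_
      rw [Ideal.map_ofList]
      exact le_rfl
    · exact Ideal.quotientMap_surjective Ideal.Quotient.mk_surjective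

/-- Homomorphisms from a maximal Cohen–Macaulay ideal extend. -/
theorem exists_mul_eq_hom [IsLocalRing A] [LocCoh.IsGorensteinLocalRing A] (a : Ideal A)
    (hd : ringKrullDim (A ⧸ a) = ringKrullDim A) [LocCoh.IsCohenMacaulayLocalRing (A ⧸ a)] (g : a →ₗ[A] A) :
    ∃ y : A, ∀ z : a, g z = y * (z : A) := by
  obtain ⟨d, hd', -, -⟩ := LC.gorenstein_basic (R := A)
  have hM := LC.Liaison.ext_zero_of_H_low hd' (A ⧸ a) (fun j hj =>
    LC.Liaison.subsingleton_H_of_CM_quot a (e := d) (hd.trans hd') j hj)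
  let T : ShortComplex (ModuleCat.{u} A) := ShortComplex.mk (ModuleCat.ofHom a.subtype) (ModuleCat.ofHom a.mkQ)
    (ModuleCat.hom_ext (LinearMap.ext fun z => (Submodule.Quotient.mk_eq_zero _).2 z.2))
  have hT : T.ShortExact :=
    { exact := (ShortComplex.ShortExact.moduleCat_exact_iff_function_exact _).2 (LinearMap.exact_subtype_mkQ a)
      mono_f := (ModuleCat.mono_iff_injective _).2 Subtype.val_injective
      epi_g := (ModuleCat.epi_iff_surjective _).2 (Submodule.mkQ_surjective _) }
  obtain ⟨x₂, hx₂⟩ := Abelian.Ext.contravariant_sequence_exact₁ hT (ModuleCat.of A A)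
    (Abelian.Ext.mk₀ (ModuleCat.ofHom g)) (n₁ := 1) (add_comm 1 0) (@Subsingleton.elim _ (hM 1 one_pos) _ _)
  obtain ⟨f₂, rfl⟩ := (Abelian.Ext.mk₀_bijective _ _).2 x₂
  rw [Abelian.Ext.mk₀_comp_mk₀] at hx₂
  have h := congrArg ModuleCat.Hom.hom ((Abelian.Ext.mk₀_bijective _ _).1 hx₂)
  refine ⟨f₂.hom (1 : A), fun z => ?_⟩
  rw [show g z = f₂.hom (z : A) from (LinearMap.congr_fun h z).symm, mul_comm, ← smul_eq_mul,
    ← map_smul, smul_eq_mul, mul_one]

/-- The colon of a regular element. -/
theorem mem_annihilator_sup_of_mul_mem [IsLocalRing A] [LocCoh.IsGorensteinLocalRing A] (I : Ideal A)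
    (hI : ringKrullDim (A ⧸ I) = ringKrullDim A) [LocCoh.IsCohenMacaulayLocalRing (A ⧸ I)] {r : A}
    (hr : IsSMulRegular A r) {y : A} (hy : ∀ z ∈ I, y * z ∈ Ideal.span {r}) :
    y ∈ Submodule.annihilator I ⊔ Ideal.span {r} := by
  choose q hq using fun z : I => Ideal.mem_span_singleton'.1 (hy z.1 z.2)
  let g : I →ₗ[A] A :=
    { toFun := q
      map_add' := fun z w => hr (show r * q (z + w) = r * (q z + q w) by
        rw [mul_comm r, hq, mul_comm r, add_mul, hq, hq, Submodule.coe_add, mul_add])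
      map_smul' := fun c z => hr (show r * q (c • z) = r * (c • q z) by
        rw [mul_comm r, hq, smul_eq_mul, mul_left_comm r, mul_comm r, hq, SetLike.val_smul, smul_eq_mul]
        ring) }
  obtain ⟨w, hw⟩ := exists_mul_eq_hom I hI g
  rw [show y = (y - r * w) + r * w by ring]
  refine Submodule.add_mem_sup ?_ (Ideal.mem_span_singleton'.2 ⟨w, mul_comm _ _⟩)
  refine Submodule.mem_annihilator.2 fun z hz => ?_
  rw [smul_eq_mul, sub_mul, ← hq ⟨z, hz⟩, show q ⟨z, hz⟩ = w * z from hw ⟨z, hz⟩]
  ring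

theorem colon_ofList : ∀ (n : ℕ) (A : Type u) [CommRing A] [IsLocalRing A] [LocCoh.IsGorensteinLocalRing A]
    (I : Ideal A) (_ : ringKrullDim (A ⧸ I) = ringKrullDim A) [LocCoh.IsCohenMacaulayLocalRing (A ⧸ I)]
    (rs : List A), rs.length = n → (∀ r ∈ rs, r ∈ maximalIdeal A) → IsWeaklyRegular A rs →
      Submodule.colon (Ideal.ofList rs) (I : Set A) ≤ Submodule.annihilator I ⊔ Ideal.ofList rs ∧
        Submodule.annihilator I ⊓ Ideal.ofList rs ≤ Ideal.ofList rs * Submodule.annihilator I := by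
  intro n
  induction n with
  | zero =>
    intro A _ _ _ I _ _ rs hn _ _
    obtain rfl := List.length_eq_zero_iff.1 hn
    rw [Ideal.ofList_nil]
    refine ⟨fun y hy => Submodule.mem_sup_left (Submodule.mem_annihilator.2 fun z hz => ?_), by simp⟩
    have := Submodule.mem_colon.1 hy z hz
    simpa using this
  | succ n ih =>
    intro A _ _ _ I hI _ rs hn hmem hreg
    obtain ⟨r, s, rfl⟩ : ∃ r s, rs = r :: s := by
      cases rs with
      | nil => simp at hn
      | cons r s => exact ⟨r, s, rfl⟩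
    have hrm : r ∈ maximalIdeal A := hmem r List.mem_cons_self
    obtain ⟨hr, hs⟩ := (isWeaklyRegular_cons_iff A r s).1 hreg
    have hne : Ideal.span {r} ≠ ⊤ := fun h => (maximalIdeal.isMaximal A).ne_top
      (top_le_iff.1 (h ▸ (Ideal.span_singleton_le_iff_mem _).2 hrm))
    let A' := A ⧸ Ideal.span {r}
    let π : A →+* A' := Ideal.Quotient.mk (Ideal.span {r})
    haveI : IsLocalRing A' := isLocalRing_quot' hne
    have hr1 : IsWeaklyRegular A [r] := (isWeaklyRegular_singleton_iff A r).2 hr
    haveI : LocCoh.IsGorensteinLocalRing A' := by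
      have h := LC.gorenstein_quotient_ofList [r] (by simpa using hrm) hr1
      rwa [Ideal.ofList_singleton] at h
    haveI : IsLocalHom π := IsLocalHom.of_surjective _ Ideal.Quotient.mk_surjective
    let I' : Ideal A' := I.map π
    let B := A ⧸ I
    let rb : B := Ideal.Quotient.mk I r
    haveI : IsLocalHom (Ideal.Quotient.mk I) := IsLocalHom.of_surjective _ Ideal.Quotient.mk_surjective
    have hrb : rb ∈ maximalIdeal B := map_nonunit (Ideal.Quotient.mk I) r hrm
    have hrB : IsSMulRegular B rb := (isWeaklyRegular_singleton_iff B rb).1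
      ((isWeaklyRegular_map_algebraMap_iff B B [r]).2 (isWeaklyRegular_quot I hI [r] (by simpa using hrm) hr1))
    haveI : IsLocalRing (B ⧸ Ideal.span {rb}) := isLocalRing_quot' fun h =>
      (maximalIdeal.isMaximal B).ne_top (top_le_iff.1 (h ▸ (Ideal.span_singleton_le_iff_mem _).2 hrb))
    haveI := isCMLocal_quot hrb hrB
    let e : (B ⧸ Ideal.span {rb}) ≃+* (A' ⧸ I') :=
      (Ideal.quotEquivOfEq (by rw [Ideal.map_span, Set.image_singleton] :
        Ideal.span {rb} = (Ideal.span {r}).map (Ideal.Quotient.mk I))).trans (DoubleQuot.quotQuotEquivComm I (Ideal.span {r}))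
    haveI : IsLocalRing (A' ⧸ I') := e.isLocalRing
    haveI : LocCoh.IsCohenMacaulayLocalRing (A' ⧸ I') := LC.Liaison.isCMLocal_of_ringEquiv e
    have hI' : ringKrullDim (A' ⧸ I') = ringKrullDim A' := by
      obtain ⟨p, hp⟩ := LC.exists_supportDim_eq_nat (R := A') (A' ⧸ I')
      obtain ⟨q, hq⟩ := LC.exists_supportDim_eq_nat (R := A') A'
      rw [Module.supportDim_quotient_eq_ringKrullDim] at hp
      rw [Module.supportDim_self_eq_ringKrullDim] at hq
      have h1 := ringKrullDim_quotient_span_singleton_succ_eq_ringKrullDim hr hrm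
      have h2 := ringKrullDim_quotient_span_singleton_succ_eq_ringKrullDim hrB hrb
      rw [show ringKrullDim (B ⧸ Ideal.span {rb}) = ringKrullDim (A' ⧸ I') from ringKrullDim_eq_of_ringEquiv e,
        show ringKrullDim B = ringKrullDim A from hI, ← h1, hp] at h2
      rw [hp, hq]
      rw [show ringKrullDim (A ⧸ Ideal.span {r}) = (q : WithBot ℕ∞) from hq] at h2
      have : p + 1 = q + 1 := by exact_mod_cast h2
      exact_mod_cast (by omega : p = q)
    have hs' : IsWeaklyRegular A' (s.map π) := by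
      refine (isWeaklyRegular_map_algebraMap_iff A' A' s).2 ?_
      exact (LinearEquiv.isWeaklyRegular_congr (Submodule.quotEquivOfEq (r • ⊤ : Submodule A A) (Ideal.span {r})
        (by simp [← Submodule.ideal_span_singleton_smul])) s).1 hs
    obtain ⟨hc, hi⟩ := ih A' I' hI' (s.map π) (by simpa using hn) (fun x hx => by
      obtain ⟨a, ha, rfl⟩ := List.mem_map.1 hx
      exact map_nonunit π a (hmem a (List.mem_cons_of_mem _ ha))) hs'
    set J : Ideal A := Submodule.annihilator I with hJ
    have hπ : Function.Surjective π := Ideal.Quotient.mk_surjective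
    have hsl : Ideal.ofList (s.map π) = (Ideal.ofList s).map π := (Ideal.map_ofList π s).symm
    have hann : Submodule.annihilator I' ≤ J.map π := by
      intro y hy
      obtain ⟨y, rfl⟩ := hπ y
      have h1 : y ∈ J ⊔ Ideal.span {r} := mem_annihilator_sup_of_mul_mem I hI hr fun z hz => by
        rw [← Ideal.Quotient.eq_zero_iff_mem]
        show π (y * z) = 0
        rw [map_mul]
        exact Submodule.mem_annihilator.1 hy (π z) (Ideal.mem_map_of_mem π hz)
      have h2 := Ideal.mem_map_of_mem π h1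
      rwa [Ideal.map_sup, Ideal.map_quotient_self, sup_bot_eq] at h2
    rw [Ideal.ofList_cons]
    refine ⟨fun x hx => ?_, fun x hx => ?_⟩
    · have h1 : π x ∈ Submodule.colon (Ideal.ofList (s.map π)) (I' : Set A') := by
        refine Submodule.mem_colon.2 fun z hz => ?_
        obtain ⟨z, hz', rfl⟩ := (Ideal.mem_map_iff_of_surjective π hπ).1 hz
        have h2 := Ideal.mem_map_of_mem π (Submodule.mem_colon.1 hx z hz')
        rw [Ideal.map_sup, Ideal.map_quotient_self, bot_sup_eq, ← hsl, smul_eq_mul, map_mul] at h2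
        exact h2
      have h3 : π x ∈ (J ⊔ Ideal.ofList s).map π := by
        rw [Ideal.map_sup, ← hsl]
        exact sup_le_sup hann le_rfl (hc h1)
      have h4 : x ∈ ((J ⊔ Ideal.ofList s).map π).comap π := h3
      rw [Ideal.comap_map_of_surjective π hπ, ← RingHom.ker_eq_comap_bot, Ideal.mk_ker, sup_assoc,
        sup_comm (Ideal.ofList s)] at h4
      exact h4
    · obtain ⟨hxJ, hxs⟩ := Submodule.mem_inf.1 hx
      have h1 : π x ∈ Submodule.annihilator I' ⊓ Ideal.ofList (s.map π) := by
        refine ⟨Submodule.mem_annihilator.2 fun z hz => ?_, ?_⟩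
        · obtain ⟨z, hz', rfl⟩ := (Ideal.mem_map_iff_of_surjective π hπ).1 hz
          rw [smul_eq_mul, ← map_mul, show x * z = 0 from Submodule.mem_annihilator.1 hxJ z hz', map_zero]
        · have h2 := Ideal.mem_map_of_mem π hxs
          rwa [Ideal.map_sup, Ideal.map_quotient_self, bot_sup_eq, ← hsl] at h2
      have h3 : π x ∈ (Ideal.ofList s * J).map π := by
        rw [Ideal.map_mul, ← hsl]
        exact Ideal.mul_mono le_rfl hann (hi h1)
      have h4 : x ∈ ((Ideal.ofList s * J).map π).comap π := h3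
      rw [Ideal.comap_map_of_surjective π hπ, ← RingHom.ker_eq_comap_bot, Ideal.mk_ker] at h4
      obtain ⟨p, hp, t, ht, rfl⟩ := Submodule.mem_sup.1 h4
      obtain ⟨b, rfl⟩ := Ideal.mem_span_singleton'.1 ht
      have hb : b ∈ J := by
        have h5 : b * r ∈ J := by simpa using J.sub_mem hxJ (Ideal.mul_le_right hp)
        refine Submodule.mem_annihilator.2 fun z hz => hr ?_
        show r * (b • z) = r * 0
        rw [mul_zero, smul_eq_mul, ← mul_assoc, mul_comm r b]
        exact Submodule.mem_annihilator.1 h5 z hz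
      rw [Ideal.sup_mul]
      refine Submodule.add_mem _ (Submodule.mem_sup_right hp) (Submodule.mem_sup_left ?_)
      rw [mul_comm b r]
      exact Ideal.mul_mem_mul (Ideal.mem_span_singleton_self r) hb

theorem colon_eq [IsLocalRing A] [LocCoh.IsGorensteinLocalRing A] (I : Ideal A)
    (hI : ringKrullDim (A ⧸ I) = ringKrullDim A) [LocCoh.IsCohenMacaulayLocalRing (A ⧸ I)] (rs : List A)
    (hmem : ∀ r ∈ rs, r ∈ maximalIdeal A) (hreg : IsWeaklyRegular A rs) :
    Submodule.annihilator I ⊔ Ideal.ofList rs = Submodule.colon (Ideal.ofList rs) (I : Set A) ∧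
      Submodule.annihilator I ⊓ Ideal.ofList rs = Ideal.ofList rs * Submodule.annihilator I := by
  obtain ⟨h1, h2⟩ := colon_ofList rs.length A I hI rs rfl hmem hreg
  refine ⟨le_antisymm (sup_le (fun x hx => Submodule.mem_colon.2 fun z hz => ?_)
    fun x hx => Submodule.mem_colon.2 fun z _ => Ideal.mul_mem_right z _ hx) h1,
    le_antisymm h2 (le_inf Ideal.mul_le_right Ideal.mul_le_left)⟩
  rw [Submodule.mem_annihilator.1 hx z hz]
  exact Submodule.zero_mem _

/-- Flatness of maximal Cohen–Macaulay quotients over a regular base. -/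
theorem flat_quot {R : Type u} [CommRing R] [IsRegularLocalRing R] [Algebra R A] [IsLocalRing A] [IsNoetherianRing A]
    [IsLocalHom (algebraMap R A)] [Module.Flat R A] (I : Ideal A)
    (hI : ringKrullDim (A ⧸ I) = ringKrullDim A) [LocCoh.IsCohenMacaulayLocalRing (A ⧸ I)] :
    Module.Flat R (A ⧸ I) := by
  obtain ⟨rs, hreg, hm⟩ := RegLoc6.exists_regularSequence_maximalIdeal R
  have hmem : ∀ r ∈ rs, r ∈ maximalIdeal R := fun r hr => hm ▸ Ideal.subset_span hr
  have hA : IsWeaklyRegular A (rs.map (algebraMap R A)) :=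
    (isWeaklyRegular_map_algebraMap_iff A A rs).2 (hreg.toIsWeaklyRegular.of_flat_of_isBaseChange
      (S := A) (IsBaseChange.linearMap R A) |> fun h => (isWeaklyRegular_map_algebraMap_iff A A rs).1 h)
  have hmem' : ∀ r ∈ rs.map (algebraMap R A), r ∈ maximalIdeal A := fun r hr => by
    obtain ⟨a, ha, rfl⟩ := List.mem_map.1 hr
    exact map_nonunit (algebraMap R A) a (hmem a ha)
  have hw : IsWeaklyRegular (A ⧸ I) rs :=
    (isWeaklyRegular_map_algebraMap_iff A (A ⧸ I) rs).1 (isWeaklyRegular_quot I hI _ hmem' hA)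
  refine LocalCrit.flat_of_le_jacobson (B := A) (maximalIdeal R)
    ((IsLocalRing.map_maximalIdeal_le (algebraMap R A)).trans (IsLocalRing.maximalIdeal_le_jacobson ⊥)) ?_
    (LocalCrit.keepsInjective_of_isMaximal _ _)
  rw [← hm]
  exact FlatLoc6.rTensor_ofList_injective rs hw

/-- The residual quotient is maximal Cohen–Macaulay. -/
theorem residual [IsLocalRing A] [LocCoh.IsGorensteinLocalRing A] (I : Ideal A)
    (hI : ringKrullDim (A ⧸ I) = ringKrullDim A) [LocCoh.IsCohenMacaulayLocalRing (A ⧸ I)]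
    (hJ : Submodule.annihilator I ≠ ⊤) :
    ringKrullDim (A ⧸ Submodule.annihilator I) = ringKrullDim A ∧
      LocCoh.IsCohenMacaulayLocalRing (A ⧸ Submodule.annihilator I) := by
  obtain ⟨d, hd, -, -⟩ := LC.gorenstein_basic (R := A)
  haveI := isLocalRing_quot' hJ
  have hlow := LC.Liaison.subsingleton_H_linked hd I _ rfl
    (fun j hj => LC.Liaison.subsingleton_H_of_CM_quot I (e := d) (hI.trans hd) j hj)
  have hCM := LC.Liaison.isCMLocal_quot_of_H_low hd _ hlow
  refine ⟨le_antisymm (ringKrullDim_quotient_le _) ?_, hCM⟩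
  set b := Submodule.annihilator I
  have hσ : Function.Surjective (algebraMap A (A ⧸ b)) := Ideal.Quotient.mk_surjective
  have hdep : (d : ℕ∞) ≤ LocCoh.depth (A ⧸ b) (A ⧸ b) := by
    refine (LC.le_idealDepth_iff_H (maximalIdeal (A ⧸ b)) (A ⧸ b) d).2 fun i hi => ?_
    have h := LC.exists_indep (R := A) (R' := A ⧸ b) (maximalIdeal A) i (A ⧸ b)
    rw [LC.map_maximalIdeal_of_surjective (algebraMap A (A ⧸ b)) hσ] at h
    obtain ⟨φ, -⟩ := h
    exact @Function.Injective.subsingleton _ _ φ φ.injective (hlow i hi)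
  have h := LC.depth_le_supportDim (R := A ⧸ b) (A ⧸ b)
  rw [Module.supportDim_self_eq_ringKrullDim] at h
  rw [hd]
  exact le_trans (WithBot.coe_le_coe.2 hdep) h

end Groth.Agent.H4CI.GorLink
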