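import Groth.Agent.BertiniSec.Affine
import Groth.Agent.BertiniAff.Chart
import Groth.Agent.BertiniSec.Scheme
import Groth.Agent.H23.PnChart
import Groth.Agent.LinHyp.Basic
import Groth.Agent.HTopCov.AlmostBlowUp
import Groth.Agent.QCoh.Devissage
import Mathlib.Algebra.MvPolynomial.Funext

/-!
# Smooth hyperplane sections over an infinite field
-/

set_option autoImplicit false
set_option linter.style.haveILetI false
set_option linter.unusedSectionVars false
set_option backward.isDefEq.respectTransparency false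
set_option backward.isDefEq.respectTransparency.types false
set_option maxHeartbeats 1000000

universe u

open CategoryTheory CategoryTheory.Limits AlgebraicGeometry TopologicalSpace Opposite KaehlerDifferential
open HomogeneousLocalization (Away)

noncomputable section

namespace Groth.Agent.H4CI

open Groth.Agent

variable {k : Type u} [Field k]

/-- A derivation condition on a basic open descends. -/
theorem exists_functional_of_away {B : Type u} [CommRing B] [Algebra k B] [Algebra.Smooth k B] (g h : B) (v : Ideal B)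
    [v.IsPrime] (hg : g ∉ v)
    (φ : Ω[Localization.Away g⁄k] →ₗ[Localization.Away g] Localization.Away g)
    (hφ : φ (D k (Localization.Away g) (algebraMap B (Localization.Away g) h)) ∉
      v.map (algebraMap B (Localization.Away g))) :
    ∃ ψ : Ω[B⁄k] →ₗ[B] B, ψ (D k B h) ∉ v := by
  haveI : Module.FinitePresentation B Ω[B⁄k] := Module.finitePresentation_of_projective B _
  let G : Ω[B⁄k] →ₗ[B] Localization.Away g :=
    (φ.restrictScalars B).comp (KaehlerDifferential.map k k B (Localization.Away g))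
  obtain ⟨ψ, ⟨s, hs⟩, hψ⟩ := Module.FinitePresentation.exists_lift_of_isLocalizedModule
    (Submonoid.powers g) (Algebra.linearMap B (Localization.Away g)) G
  refine ⟨ψ, fun hmem => hφ ?_⟩
  have h1 : algebraMap B (Localization.Away g) (ψ (D k B h)) =
      s • φ (D k (Localization.Away g) (algebraMap B (Localization.Away g) h)) := by
    have := LinearMap.congr_fun hψ (D k B h)
    simp only [LinearMap.comp_apply, LinearMap.smul_apply, Algebra.linearMap_apply, G,
      LinearMap.restrictScalars_apply, KaehlerDifferential.map_D, Submonoid.smul_def] at this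
    exact this
  have hdisj : Disjoint (Submonoid.powers g : Set B) v :=
    Set.disjoint_left.2 fun z hz hzv => by
      obtain ⟨e, rfl⟩ := hz
      exact hg (‹v.IsPrime›.mem_of_pow_mem e hzv)
  haveI := IsLocalization.isPrime_of_isPrime_disjoint (Submonoid.powers g) (Localization.Away g) v ‹_› hdisj
  have h2 := Ideal.mem_map_of_mem (algebraMap B (Localization.Away g)) hmem
  rw [h1, Algebra.smul_def] at h2
  refine (Ideal.IsPrime.mem_or_mem inferInstance h2).resolve_left fun h3 => ?_
  have hu : IsUnit (algebraMap B (Localization.Away g) s) := IsLocalization.map_units _ (⟨s, hs⟩ : Submonoid.powers g)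
  exact Ideal.IsPrime.ne_top inferInstance (Ideal.eq_top_of_isUnit_mem _ h3 hu)

/-- Bad hyperplanes for a smooth algebra with given generators. -/
theorem smooth_bad_gen {B : Type u} [CommRing B] [Algebra k B] [Algebra.Smooth k B] {N : ℕ} (x : Fin N → B)
    (hx : Function.Surjective (MvPolynomial.aeval x : MvPolynomial (Fin N) k →ₐ[k] B)) :
    ∃ G : MvPolynomial (Fin (N + 1)) k, G ≠ 0 ∧ ∀ a : Fin (N + 1) → k, MvPolynomial.eval a G ≠ 0 →
      Algebra.Smooth k (B ⧸ Ideal.span {algebraMap k B (a 0) + ∑ i, algebraMap k B (a i.succ) * x i}) := by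
  classical
  obtain ⟨s, hs, hstd⟩ := Algebra.Smooth.exists_span_eq_top_isStandardSmooth k B
  obtain ⟨t, hts, ht⟩ : ∃ t : Finset B, (t : Set B) ⊆ s ∧ Ideal.span (t : Set B) = ⊤ := by
    obtain ⟨t, hts, h1⟩ := Submodule.mem_span_finite_of_mem_span (show (1 : B) ∈ Submodule.span B s from
      ((Ideal.eq_top_iff_one _).1 hs))
    exact ⟨t, hts, (Ideal.eq_top_iff_one _).2 h1⟩
  have key : ∀ g ∈ t, ∃ G : MvPolynomial (Fin (N + 1)) k, G ≠ 0 ∧ ∀ a : Fin (N + 1) → k,
      MvPolynomial.eval a G ≠ 0 → ∀ v : Ideal B, v.IsPrime → g ∉ v →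
        algebraMap k B (a 0) + ∑ i, algebraMap k B (a i.succ) * x i ∈ v →
        ∃ ψ : Ω[B⁄k] →ₗ[B] B, ψ (D k B (algebraMap k B (a 0) + ∑ i, algebraMap k B (a i.succ) * x i)) ∉ v := by
    intro g hg
    rcases subsingleton_or_nontrivial (Localization.Away g) with h0 | h0
    · refine ⟨1, one_ne_zero, fun c _ v hv hgv _ => False.elim ?_⟩
      obtain ⟨⟨_, e, rfl⟩, he⟩ := (IsLocalization.map_eq_zero_iff (Submonoid.powers g) (Localization.Away g) 1).1
        (Subsingleton.elim _ _)
      exact hgv (hv.mem_of_pow_mem e (by simp only [mul_one] at he; rw [he]; exact v.zero_mem))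
    · obtain ⟨ι, σ, _, _, ⟨P⟩⟩ := (hstd g (hts hg)).out
      haveI := P.isStandardSmoothOfRelativeDimension (n := P.dimension) rfl
      obtain ⟨G, hG0, hG⟩ := BertiniAff.exists_bad (k := k) P.dimension x hx g
      refine ⟨G, hG0, fun c hc v hv hgv hmem => ?_⟩
      have hdisj : Disjoint (Submonoid.powers g : Set B) v :=
        Set.disjoint_left.2 fun z hz hzv => by
          obtain ⟨e, rfl⟩ := hz
          exact hgv (hv.mem_of_pow_mem e hzv)
      have hprime := IsLocalization.isPrime_of_isPrime_disjoint (Submonoid.powers g) (Localization.Away g) v hv hdisj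
      obtain ⟨φ, hφ⟩ := hG c hc _ hprime (Ideal.mem_map_of_mem _ hmem)
      exact exists_functional_of_away g _ v hgv φ hφ
  choose G hG0 hG using key
  refine ⟨∏ g ∈ t.attach, G g.1 g.2, Finset.prod_ne_zero_iff.2 fun g _ => hG0 g.1 g.2, fun c hc => ?_⟩
  rw [map_prod, Finset.prod_ne_zero_iff] at hc
  refine BertiniSec.smooth_quotient _ fun v hv hmem => ?_
  obtain ⟨g, hgt, hgv⟩ : ∃ g ∈ t, g ∉ v := by
    by_contra! hall
    exact hv.ne_top (top_le_iff.1 (ht ▸ Ideal.span_le.2 hall))
  exact hG g hgt c (hc ⟨g, hgt⟩ (Finset.mem_attach _ _)) v hv hgv hmem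

/-- Bad hyperplanes for a smooth algebra with homogeneous generators, one of them `1`. -/
theorem smooth_bad_hom {B : Type u} [CommRing B] [Algebra k B] [Algebra.Smooth k B] {N : ℕ}
    (y : Fin (N + 1) → B) (j : Fin (N + 1)) (hj : y j = 1) (S : Subalgebra k B) (hS : S = ⊤)
    (hgen : S = Algebra.adjoin k (Set.range y)) :
    ∃ G : MvPolynomial (Fin (N + 1)) k, G ≠ 0 ∧ ∀ c : Fin (N + 1) → k, MvPolynomial.eval c G ≠ 0 →
      Algebra.Smooth k (B ⧸ Ideal.span {∑ l, algebraMap k B (c l) * y l}) := by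
  have hx : Function.Surjective
      (MvPolynomial.aeval (fun i => y (j.succAbove i)) : MvPolynomial (Fin N) k →ₐ[k] B) := by
    rw [← AlgHom.range_eq_top, eq_top_iff, ← hS, hgen, Algebra.adjoin_le_iff]
    rintro _ ⟨l, rfl⟩
    rcases Fin.eq_self_or_eq_succAbove j l with rfl | ⟨i, rfl⟩
    · exact ⟨1, by rw [map_one, hj]⟩
    · exact ⟨MvPolynomial.X i, by simp⟩
  obtain ⟨G, hG0, hG⟩ := smooth_bad_gen _ hx
  let e : Fin (N + 1) → Fin (N + 1) := Fin.cases j j.succAbove
  have he : Function.Injective e := fun a b h => by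
    induction a using Fin.cases with
    | zero =>
      induction b using Fin.cases with
      | zero => rfl
      | succ b => exact absurd h.symm (Fin.succAbove_ne j b)
    | succ a =>
      induction b using Fin.cases with
      | zero => exact absurd h (Fin.succAbove_ne j a)
      | succ b => exact congrArg _ (Fin.succAbove_right_injective h)
  refine ⟨MvPolynomial.rename e G, (map_ne_zero_iff _ (MvPolynomial.rename_injective e he)).2 hG0, fun c hc => ?_⟩
  rw [MvPolynomial.eval_rename] at hc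
  have := hG (c ∘ e) hc
  have h1 : algebraMap k B ((c ∘ e) 0) + ∑ i : Fin N, algebraMap k B ((c ∘ e) i.succ) * y (j.succAbove i) =
      ∑ l, algebraMap k B (c l) * y l := by
    rw [Fin.sum_univ_succAbove _ j, hj, mul_one]
    simp [e]
  rwa [h1] at this

section proj

variable (n : ℕ) (k : Type u) [Field k]

local notation "𝒜" => CohB1.polyGrading n k
local notation "T" => (MvPolynomial.X : Fin (n + 1) → MvPolynomial (Fin (n + 1)) k)

/-- The structure map on a chart. -/
theorem toSpec_appLE_chart' (j : Fin (n + 1)) (c : k) :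
    (CohB1.ProjSpace.toSpec n k).appLE ⊤ (Proj.basicOpen 𝒜 (T j)) le_top
        ((Scheme.ΓSpecIso (CommRingCat.of k)).inv c) =
      (Proj.awayToSection 𝒜 (T j)).hom (ZetaLib.base n k j c) := by
  let D : (Proj 𝒜).Opens := Proj.basicOpen 𝒜 (T j)
  have h : D.ι ≫ CohB1.ProjSpace.toSpec n k =
      Proj.basicOpenToSpec 𝒜 (T j) ≫ Spec.map (CommRingCat.ofHom (ZetaLib.base n k j)) := by
    rw [← ZetaLib.chart_toSpec, ← Proj.basicOpenIsoSpec_hom 𝒜 (T j) (ZetaLib.X_mem_one n k j) Nat.one_pos]
    simp [ZetaLib.chart, Proj.awayι]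
    rfl
  apply (ConcreteCategory.bijective_of_isIso D.topIso.inv).1
  have h2 := ConcreteCategory.congr_hom (congrArg Scheme.Hom.appTop h) ((Scheme.ΓSpecIso (CommRingCat.of k)).inv c)
  have e1 : Scheme.Hom.appTop (D.ι ≫ CohB1.ProjSpace.toSpec n k) =
      (CohB1.ProjSpace.toSpec n k).appLE ⊤ D le_top ≫ D.topIso.inv := by
    simp [Scheme.Hom.appLE, Scheme.Hom.comp_app, Scheme.Opens.topIso, D, ← Functor.map_comp]
    rfl
  have e2 : Scheme.Hom.appTop (Proj.basicOpenToSpec 𝒜 (T j) ≫ Spec.map (CommRingCat.ofHom (ZetaLib.base n k j))) =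
      (Scheme.ΓSpecIso (CommRingCat.of k)).hom ≫ CommRingCat.ofHom (ZetaLib.base n k j) ≫
        Proj.awayToSection 𝒜 (T j) ≫ D.topIso.inv := by
    rw [Scheme.Hom.comp_appTop, show (Proj.basicOpenToSpec 𝒜 (T j)).appTop = _ from Proj.basicOpenToSpec_app_top 𝒜 (T j)]
    simp [D]
  rw [e1, e2] at h2
  simp at h2 ⊢
  exact h2

/-- The functions on a chart are generated by constants and ratios of coordinates. -/
theorem subring_chart_eq_top' (j : Fin (n + 1)) (S : Subring Γ(CohB1.ProjSpace n k, Proj.basicOpen 𝒜 (T j)))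
    (hc : ∀ c : k, (CohB1.ProjSpace.toSpec n k).appLE ⊤ (Proj.basicOpen 𝒜 (T j)) le_top
        ((Scheme.ΓSpecIso (CommRingCat.of k)).inv c) ∈ S)
    (hl : ∀ l, (Proj.awayToSection 𝒜 (T j)).hom (ZetaLib.coord n k j l) ∈ S) : S = ⊤ := by
  haveI : IsIso (Proj.awayToSection 𝒜 (T j)) :=
    inferInstanceAs (IsIso (Proj.basicOpenIsoAway 𝒜 (T j) (ZetaLib.X_mem_one n k j) Nat.one_pos).hom)
  refine top_le_iff.1 fun x hx => ?_
  clear hx
  obtain ⟨y, rfl⟩ := (ConcreteCategory.bijective_of_isIso (Proj.awayToSection 𝒜 (T j))).2 x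
  obtain ⟨p, rfl⟩ := H23.PnChart.fromChart_surjective.{u, u} n k j y
  show p ∈ S.comap ((Proj.awayToSection 𝒜 (T j)).hom.comp (H23.PnChart.fromChart n k j))
  induction p using MvPolynomial.induction_on with
  | C c =>
    show (Proj.awayToSection 𝒜 (T j)).hom (H23.PnChart.fromChart n k j (MvPolynomial.C c)) ∈ S
    rw [H23.PnChart.fromChart, MvPolynomial.eval₂Hom_C, ← toSpec_appLE_chart']
    exact hc c
  | add p q hp hq => exact add_mem hp hq
  | mul_X p l hp =>
    refine mul_mem hp ?_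
    show (Proj.awayToSection 𝒜 (T j)).hom (H23.PnChart.fromChart n k j (MvPolynomial.X l)) ∈ S
    rw [H23.PnChart.fromChart, MvPolynomial.eval₂Hom_X']
    exact hl _

end proj

section chart

variable {n : ℕ} {X : Scheme.{u}} (ι : X ⟶ CohB1.ProjSpace n k)

local notation "𝒜" => CohB1.polyGrading n k
local notation "T" => (MvPolynomial.X : Fin (n + 1) → MvPolynomial (Fin (n + 1)) k)

/-- A standard chart. -/
abbrev chartOpen (j : Fin (n + 1)) : (CohB1.ProjSpace n k).Opens := Proj.basicOpen 𝒜 (T j)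

theorem isAffine_chartOpen (j : Fin (n + 1)) : IsAffineOpen (chartOpen (k := k) j) :=
  Proj.isAffineOpen_basicOpen 𝒜 _ (ZetaLib.X_mem_one n k j) one_pos

/-- A coordinate on a chart of `X`. -/
def hypCoord (j l : Fin (n + 1)) : Γ(X, ι ⁻¹ᵁ chartOpen j) :=
  ι.app (chartOpen j) ((Proj.awayToSection 𝒜 (T j)).hom (ZetaLib.coord n k j l))

theorem hypCoord_self (j : Fin (n + 1)) : hypCoord ι j j = 1 := by
  have h : ZetaLib.coord n k j j = 1 := by
    refine HomogeneousLocalization.val_injective _ ?_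
    rw [ZetaLib.coord, HomogeneousLocalization.Away.val_mk, HomogeneousLocalization.val_one]
    exact (congrArg (Localization.mk (T j)) (Subtype.ext (pow_one _))).trans
      (Localization.mk_self (⟨T j, Submonoid.mem_powers _⟩ : Submonoid.powers (T j)))
  rw [hypCoord, h, map_one]
  exact map_one _

/-- The linear form with given coefficients. -/
def linForm (c : Fin (n + 1) → k) : MvPolynomial (Fin (n + 1)) k := ∑ l, MvPolynomial.C (c l) * T l

theorem linForm_mem (c : Fin (n + 1) → k) : linForm c ∈ 𝒜 1 :=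
  Submodule.sum_mem _ fun l _ => (MvPolynomial.isHomogeneous_X k l).C_mul (c l)

theorem away_linForm (j : Fin (n + 1)) (c : Fin (n + 1) → k) :
    Away.mk 𝒜 (ZetaLib.X_mem_one n k j) 1 (linForm c) (by rw [one_smul]; exact linForm_mem c) =
      ∑ l, ZetaLib.base n k j (c l) * ZetaLib.coord n k j l := by
  refine HomogeneousLocalization.val_injective _ ?_
  have hval : ∀ f : Fin (n + 1) → Away 𝒜 (T j), (∑ l, f l).val = ∑ l, (f l).val := fun f =>
    map_sum (algebraMap (Away 𝒜 (T j)) (Localization (Submonoid.powers (T j)))) f _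
  rw [hval, HomogeneousLocalization.Away.val_mk]
  have hsum : ∀ (b : Submonoid.powers (T j)) (t : Finset (Fin (n + 1)))
      (f : Fin (n + 1) → MvPolynomial (Fin (n + 1)) k),
      Localization.mk (∑ l ∈ t, f l) b = ∑ l ∈ t, Localization.mk (f l) b := fun b t f => by
    classical
    induction t using Finset.induction with
    | empty => rw [Finset.sum_empty, Finset.sum_empty, Localization.mk_zero]
    | insert a t ha ih => rw [Finset.sum_insert ha, Finset.sum_insert ha, ← Localization.add_mk_self, ih]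
  rw [linForm, hsum]
  refine Finset.sum_congr rfl fun l _ => ?_
  rw [HomogeneousLocalization.val_mul, ZetaLib.val_base, ZetaLib.coord, HomogeneousLocalization.Away.val_mk,
    ← Localization.mk_one_eq_algebraMap, Localization.mk_mul, one_mul]

/-- The structure of a `k`-scheme on `X`. -/
@[reducible] def hypOver : X.Over (Spec (CommRingCat.of k)) := ⟨ι ≫ CohB1.ProjSpace.toSpec n k⟩

theorem app_base (j : Fin (n + 1)) (c : k) :
    ι.app (chartOpen j) ((Proj.awayToSection 𝒜 (T j)).hom (ZetaLib.base n k j c)) =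
      @BertiniSec.cst k _ X (hypOver ι) (ι ⁻¹ᵁ chartOpen j) c := by
  rw [← toSpec_appLE_chart', ← Scheme.Hom.appLE_eq_app, ← CommRingCat.comp_apply,
    Scheme.Hom.appLE_comp_appLE]
  rfl

theorem app_linForm (j : Fin (n + 1)) (c : Fin (n + 1) → k) :
    ι.app (chartOpen j) ((Proj.awayToSection 𝒜 (T j)).hom
      (Away.mk 𝒜 (ZetaLib.X_mem_one n k j) 1 (linForm c) (by rw [one_smul]; exact linForm_mem c))) =
      ∑ l, @BertiniSec.cst k _ X (hypOver ι) (ι ⁻¹ᵁ chartOpen j) (c l) * hypCoord ι j l := by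
  rw [away_linForm, map_sum]
  refine (map_sum (ι.app (chartOpen j)).hom _ _).trans (Finset.sum_congr rfl fun l _ => ?_)
  rw [map_mul]
  refine (map_mul (ι.app (chartOpen j)).hom _ _).trans ?_
  exact congrArg (· * _) (app_base ι j (c l))

theorem adjoin_hypCoord [IsClosedImmersion ι] (j : Fin (n + 1)) :
    letI := (@BertiniSec.cst k _ X (hypOver ι) (ι ⁻¹ᵁ chartOpen j)).toAlgebra
    Algebra.adjoin k (Set.range (hypCoord ι j)) = ⊤ := by
  letI := (@BertiniSec.cst k _ X (hypOver ι) (ι ⁻¹ᵁ chartOpen j)).toAlgebra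
  refine top_le_iff.1 fun z hz => ?_
  obtain ⟨w, rfl⟩ := ι.app_surjective (chartOpen j) (isAffine_chartOpen j) z
  let S : Subring Γ(CohB1.ProjSpace n k, chartOpen j) :=
    (Algebra.adjoin k (Set.range (hypCoord ι j))).toSubring.comap (ι.app (chartOpen j)).hom
  have hS : S = ⊤ := subring_chart_eq_top' n k j S (fun c => by
    show ι.app (chartOpen j) _ ∈ Algebra.adjoin k (Set.range (hypCoord ι j))
    rw [toSpec_appLE_chart', app_base]
    exact Subalgebra.algebraMap_mem _ c) (fun l => Algebra.subset_adjoin ⟨l, rfl⟩)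
  exact (hS.ge (Subring.mem_top w) : w ∈ S)

theorem iSup_chartOpen : (⨆ j, chartOpen (k := k) (n := n) j) = ⊤ :=
  Proj.iSup_basicOpen_eq_top 𝒜 _ (by
    rw [LinHyp.irrelevant_eq_span_degOne, Ideal.span_le]
    intro p hp
    rw [LinHyp.linForm_eq_sum (show p.IsHomogeneous 1 from hp)]
    exact Ideal.sum_mem _ fun j _ => Ideal.mul_mem_left _ _ (Ideal.subset_span ⟨j, rfl⟩))

/-- The section of `O(1)` given by a linear form. -/
def linSection (c : Fin (n + 1) → k) :
    Coh.structureModule (CohB1.ProjSpace n k) ⟶ Twist.twistProjSpace n k 1 :=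
  QCoh.homOfTop (X := Proj 𝒜) (P := Twist.twist 𝒜 ((1 : ℕ) : ℤ)) (Twist.globalOf 𝒜 ⟨linForm c, linForm_mem c⟩)

theorem isInvertible_twist : PicF.IsInvertible (Twist.twist 𝒜 ((1 : ℕ) : ℤ)) :=
  InvX.isInvertible_of_frames fun z => by
    obtain ⟨j, hj⟩ := Opens.mem_iSup.1 ((iSup_chartOpen (k := k) (n := n)).ge (trivial : z ∈ (⊤ : (Proj 𝒜).Opens)))
    exact ⟨_, hj, _, TwistX.isFrame_res_globalOf (ZetaLib.X_mem_one n k j) (PnCoh.Chow.nonVan_basicOpen _)⟩

theorem ideal_linSection (j : Fin (n + 1)) (c : Fin (n + 1) → k) :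
    (PicF2.zeroScheme (Twist.twistProjSpace n k 1) (linSection c)).ideal ⟨chartOpen j, isAffine_chartOpen j⟩ =
      Ideal.span {(Proj.awayToSection 𝒜 (T j)).hom
        (Away.mk 𝒜 (ZetaLib.X_mem_one n k j) 1 (linForm c) (by rw [one_smul]; exact linForm_mem c))} := by
  let L : (Proj 𝒜).Modules := Twist.twist 𝒜 ((1 : ℕ) : ℤ)
  let s : Coh.structureModule (Proj 𝒜) ⟶ L := linSection c
  show (PicF2.zeroScheme L s).ideal _ = _
  rw [ZeroSchX.ideal_zeroScheme isInvertible_twist s]
  refine ZeroSchX.zeroIdealOn_eq_span s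
    (TwistX.isFrame_res_globalOf (ZetaLib.X_mem_one n k j) (PnCoh.Chow.nonVan_basicOpen _)) ?_
  refine (QCoh.homOfTop_app (X := Proj 𝒜) (P := L) (Twist.globalOf 𝒜 ⟨linForm c, linForm_mem c⟩) (1 : Γ(Proj 𝒜, chartOpen j))).trans ?_
  rw [one_smul]
  exact LinHyp.globalOf_eq_smul (linForm_mem c) (ZetaLib.X_mem_one n k j)

end chart

/-- The headline statement. -/
theorem exists_smooth_hyperplane_section [Infinite k] {n : ℕ} (X : Scheme.{u}) [IsIntegral X]
    (ι : X ⟶ CohB1.ProjSpace n k) [IsClosedImmersion ι] [Smooth (ι ≫ CohB1.ProjSpace.toSpec n k)] :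
    ∃ s : Coh.structureModule (CohB1.ProjSpace n k) ⟶ Twist.twistProjSpace n k 1,
      (∃ x : ↥X, ι.base x ∉ (PicF2.zeroScheme (Twist.twistProjSpace n k 1) s).support) ∧
      Smooth (pullback.fst ι (PicF2.zeroScheme (Twist.twistProjSpace n k 1) s).subschemeι ≫ ι ≫
        CohB1.ProjSpace.toSpec n k) := by
  classical
  letI : X.Over (Spec (CommRingCat.of k)) := hypOver ι
  haveI : Smooth (X ↘ Spec (CommRingCat.of k)) := ‹Smooth (ι ≫ CohB1.ProjSpace.toSpec n k)›
  let V : Fin (n + 1) → X.affineOpens := fun j => ⟨ι ⁻¹ᵁ chartOpen j, (isAffine_chartOpen j).preimage ι⟩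
  let I : (Fin (n + 1) → k) → X.IdealSheafData := fun c =>
    (PicF2.zeroScheme (Twist.twistProjSpace n k 1) (linSection c)).comap ι
  have hI : ∀ c j, (I c).ideal (V j) =
      Ideal.span {∑ l, BertiniSec.cst k (V j).1 (c l) * hypCoord ι j l} := fun c j => by
    rw [HTopCov.ideal_comap_appLE ι _ ⟨chartOpen j, isAffine_chartOpen j⟩ (V j) le_rfl, ideal_linSection,
      Ideal.map_span, Set.image_singleton, ← app_linForm ι j c, Scheme.Hom.app_eq_appLE]
  have key : ∀ j, ∃ G : MvPolynomial (Fin (n + 1)) k, G ≠ 0 ∧ ∀ c, MvPolynomial.eval c G ≠ 0 →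
      ((Ideal.Quotient.mk ((I c).ideal (V j))).comp (BertiniSec.cst k (V j).1)).Smooth := fun j => by
    letI := (BertiniSec.cst k (V j).1).toAlgebra
    haveI : Algebra.Smooth k Γ(X, (V j).1) := by
      have h : Smooth ((V j).2.fromSpec ≫ (X ↘ Spec (CommRingCat.of k))) := inferInstance
      rw [BertiniSec.fromSpec_comp _ (V j).2, HasRingHomProperty.Spec_iff (P := @Smooth), CommRingCat.hom_ofHom] at h
      exact h
    obtain ⟨G, hG0, hG⟩ := smooth_bad_hom (k := k) (B := Γ(X, (V j).1)) (hypCoord ι j) j (hypCoord_self ι j) _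
      (adjoin_hypCoord ι j) rfl
    refine ⟨G, hG0, fun c hc => ?_⟩
    rw [hI c j]
    haveI := hG c hc
    exact (RingHom.smooth_algebraMap (R := k)
      (S := Γ(X, (V j).1) ⧸ Ideal.span {∑ l, algebraMap k Γ(X, (V j).1) (c l) * hypCoord ι j l})).2 inferInstance
  choose G hG0 hG using key
  obtain ⟨x₀⟩ : Nonempty X := inferInstance
  obtain ⟨j₀, hj₀⟩ := Opens.mem_iSup.1 ((iSup_chartOpen (k := k) (n := n)).ge (trivial : ι x₀ ∈ _))
  haveI : Nonempty (Scheme.Opens.toScheme (V j₀).1) := ⟨⟨x₀, hj₀⟩⟩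
  letI := (BertiniSec.cst k (V j₀).1).toAlgebra
  obtain ⟨lam, hlam⟩ : ∃ lam : Module.Dual k Γ(X, (V j₀).1), lam 1 ≠ 0 := by
    by_contra! h
    exact one_ne_zero ((Module.forall_dual_apply_eq_zero_iff k (1 : Γ(X, (V j₀).1))).1 h)
  let G₄ : MvPolynomial (Fin (n + 1)) k := ∑ l, MvPolynomial.C (lam (hypCoord ι j₀ l)) * MvPolynomial.X l
  have hG₄0 : G₄ ≠ 0 := fun h => hlam <| by
    have h1 := congrArg (MvPolynomial.eval fun l => if l = j₀ then (1 : k) else 0) h
    simpa [G₄, hypCoord_self] using h1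
  obtain ⟨c, hc⟩ : ∃ c, MvPolynomial.eval c ((∏ j, G j) * G₄) ≠ 0 := by
    by_contra! h
    exact mul_ne_zero (Finset.prod_ne_zero_iff.2 fun j _ => hG0 j) hG₄0
      (MvPolynomial.funext fun c => by rw [h c, map_zero])
  rw [map_mul, map_prod, mul_ne_zero_iff, Finset.prod_ne_zero_iff] at hc
  refine ⟨linSection c, ?_, ?_⟩
  · let z := (Proj.awayToSection (CohB1.polyGrading n k) (MvPolynomial.X j₀)).hom
      (Away.mk (CohB1.polyGrading n k) (ZetaLib.X_mem_one n k j₀) 1 (linForm c) (by rw [one_smul]; exact linForm_mem c))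
    have hne : ι.app (chartOpen j₀) z ≠ 0 := fun h0 => hc.2 <| by
      have h1 : ∑ l, c l • hypCoord ι j₀ l = (0 : Γ(X, (V j₀).1)) := by
        rw [← h0, app_linForm]
        exact Finset.sum_congr rfl fun l _ => Algebra.smul_def _ _
      have h2 := congrArg lam h1
      rw [map_sum, map_zero] at h2
      simpa [G₄, map_smul, mul_comm] using h2
    obtain ⟨x, hx⟩ : ∃ x, x ∈ X.basicOpen (ι.app (chartOpen j₀) z) := by
      by_contra! h
      exact hne ((basicOpen_eq_bot_iff _).1 (eq_bot_iff.2 fun x hx => (h x hx).elim))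
    rw [← Scheme.preimage_basicOpen] at hx
    refine ⟨x, fun hs => ?_⟩
    rw [Scheme.IdealSheafData.mem_support_iff_of_mem (U := ⟨chartOpen j₀, isAffine_chartOpen j₀⟩)
      ((Scheme.basicOpen_le _ z) hx), ideal_linSection, Scheme.mem_zeroLocus_iff] at hs
    exact hs z (Ideal.mem_span_singleton_self _) hx
  · have h : Smooth ((I c).subschemeι ≫ (X ↘ Spec (CommRingCat.of k))) :=
      BertiniSec.smooth_subscheme (k := k) (I c) (fun j : ULift.{u} (Fin (n + 1)) => V j.down)
        (fun x => by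
          obtain ⟨j, hj⟩ := Opens.mem_iSup.1 ((iSup_chartOpen (k := k) (n := n)).ge (trivial : ι x ∈ _))
          exact ⟨⟨j⟩, hj⟩)
        fun j => hG j.down c (hc.1 j.down (Finset.mem_univ _))
    rw [← Scheme.IdealSheafData.comapIso_inv_subschemeι, Category.assoc]
    haveI := h
    exact (inferInstance : Smooth (((PicF2.zeroScheme (Twist.twistProjSpace n k 1) (linSection c)).comapIso ι).inv ≫
      (I c).subschemeι ≫ (X ↘ Spec (CommRingCat.of k))))

end Groth.Agent.H4CI
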