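import Groth.Agent.H4CI.Dehom
import Mathlib.Algebra.MvPolynomial.Funext
import Mathlib.FieldTheory.IsAlgClosed.Basic

/-!
# Nonsingular complete intersections of given degrees
-/

set_option autoImplicit false
set_option linter.style.haveILetI false

universe u

open MvPolynomial

namespace Groth.Agent.H4CI

variable {k : Type u} [Field k] [IsAlgClosed k] {n : ℕ}

/-- Off the vertex, generic forms avoid a given prime. -/
theorem prime_bad {d : ℕ} (hd : 0 < d) (P : Ideal (MvPolynomial (Fin (n + 1)) k)) [P.IsPrime] (j : Fin (n + 1))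
    (hj : X j ∉ P) :
    ∃ G : MvPolynomial (Fin ((n + 1) * (n + 1))) k, G ≠ 0 ∧ ∀ c, MvPolynomial.eval c G ≠ 0 → form k n d c ∉ P := by
  obtain ⟨p₀, hp₀⟩ := jetForms_pair (k := k) (d := d) j j
  let v : Fin ((n + 1) * (n + 1)) → MvPolynomial (Fin (n + 1)) k ⧸ P := fun p => Ideal.Quotient.mk P (jetForms k n d p)
  have hv : v p₀ ≠ 0 := by
    rw [Ne, Ideal.Quotient.eq_zero_iff_mem, hp₀]
    intro h
    rcases ‹P.IsPrime›.mem_or_mem h with h | h
    · exact hj h
    · exact hj (‹P.IsPrime›.mem_of_pow_mem _ h)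
  obtain ⟨l, hl⟩ : ∃ l : Module.Dual k (MvPolynomial (Fin (n + 1)) k ⧸ P), l (v p₀) ≠ 0 := by
    by_contra! h
    exact hv ((Module.forall_dual_apply_eq_zero_iff k _).1 h)
  refine ⟨∑ p, C (l (v p)) * X p, fun h => hl ?_, fun c hc hmem => hc ?_⟩
  · have h1 := congrArg (MvPolynomial.eval (fun p => if p = p₀ then (1 : k) else 0)) h
    simpa using h1
  · have h1 : ∑ p, c p • v p = 0 := by
      rw [← Ideal.Quotient.eq_zero_iff_mem.2 hmem, form, map_sum]
      refine Finset.sum_congr rfl fun p _ => ?_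
      show Ideal.Quotient.mk P (c p • jetForms k n d p) = _
      rw [MvPolynomial.smul_eq_C_mul]
    have h2 := congrArg l h1
    rw [map_sum, map_zero] at h2
    simpa [map_smul, mul_comm] using h2

theorem exists_forms (r : ℕ) : ∀ (d : Fin r → ℕ), r < n + 1 → (∀ i, 0 < d i) →
    ∃ f : Fin r → MvPolynomial (Fin (n + 1)) k, (∀ i, (f i).IsHomogeneous (d i)) ∧
      (∀ j, Algebra.Smooth k (Chart k n (Ideal.span (Set.range f)) j)) ∧
      (∀ i j, Algebra.Smooth k (Chart k n (Ideal.span {f i}) j)) ∧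
      (r : ℕ∞) ≤ (Ideal.span (Set.range f)).height := by
  induction r with
  | zero =>
    intro d _ _
    refine ⟨Fin.elim0, fun i => i.elim0, fun j => ?_, fun i => i.elim0, bot_le⟩
    rw [Set.range_eq_empty, Ideal.span_empty]
    exact smooth_chart_bot j
  | succ i ih =>
    intro d hi hd
    obtain ⟨f, hf, hfs, hfh, hfi⟩ := ih (fun t => d t.castSucc) (Nat.lt_of_succ_lt hi) fun t => hd _
    let I := Ideal.span (Set.range f)
    let e := d (Fin.last i)
    have he : 0 < e := hd _
    choose G₁ hG₁0 hG₁ using fun j => chart_bad I j (hfs j) he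
    choose G₂ hG₂0 hG₂ using fun j => chart_bad (k := k) (n := n) ⊥ j (smooth_chart_bot j) he
    have key : ∀ P ∈ I.minimalPrimes, ∃ G : MvPolynomial (Fin ((n + 1) * (n + 1))) k, G ≠ 0 ∧
        ∀ c, MvPolynomial.eval c G ≠ 0 → ∀ j, X j ∉ P → form k n e c ∉ P := by
      intro P hP
      haveI := hP.1.1
      by_cases h : ∃ j, X j ∉ P
      · obtain ⟨j, hj⟩ := h
        obtain ⟨G, hG0, hG⟩ := prime_bad he P j hj
        exact ⟨G, hG0, fun c hc _ _ => hG c hc⟩
      · exact ⟨1, one_ne_zero, fun c _ j hj => absurd ⟨j, hj⟩ h⟩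
    choose G₃ hG₃0 hG₃ using key
    classical
    haveI : Fintype I.minimalPrimes := (Ideal.finite_minimalPrimes_of_isNoetherianRing _ I).fintype
    let G := (∏ j, G₁ j * G₂ j) * ∏ P : I.minimalPrimes, G₃ P.1 P.2
    have hG0 : G ≠ 0 := mul_ne_zero (Finset.prod_ne_zero_iff.2 fun j _ => mul_ne_zero (hG₁0 j) (hG₂0 j))
      (Finset.prod_ne_zero_iff.2 fun P _ => hG₃0 _ _)
    obtain ⟨c, hc⟩ : ∃ c, MvPolynomial.eval c G ≠ 0 := by
      by_contra! h
      exact hG0 (MvPolynomial.funext fun c => by rw [h c, map_zero])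
    simp only [G, map_mul, map_prod, mul_ne_zero_iff, Finset.prod_ne_zero_iff, Finset.mem_univ, true_implies] at hc
    obtain ⟨hc12, hc3⟩ := hc
    have hrange : Ideal.span (Set.range (Fin.snoc (α := fun _ => MvPolynomial (Fin (n + 1)) k) f (form k n e c))) =
        I ⊔ Ideal.span {form k n e c} := by
      rw [Fin.range_snoc, Ideal.span_insert, sup_comm]
    refine ⟨Fin.snoc f (form k n e c), fun t => ?_, fun j => ?_, fun t j => ?_, ?_⟩
    · induction t using Fin.lastCases with
      | last => rw [Fin.snoc_last]; exact isHomogeneous_form he c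
      | cast t => rw [Fin.snoc_castSucc]; exact hf t
    · rw [hrange]; exact hG₁ j c (hc12 j).1
    · induction t using Fin.lastCases with
      | last =>
        rw [Fin.snoc_last, show Ideal.span {form k n e c} = ⊥ ⊔ Ideal.span {form k n e c} from bot_sup_eq _ |>.symm]
        exact hG₂ j c (hc12 j).2
      | cast t => rw [Fin.snoc_castSucc]; exact hfh t j
    · rw [hrange, Ideal.height_eq_inf_minimalPrimes]
      refine le_iInf₂ fun Q hQ => ?_
      haveI := hQ.1.1
      obtain ⟨P, hP, hPQ⟩ := Ideal.exists_minimalPrimes_le ((le_sup_left : I ≤ _).trans hQ.1.2)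
      haveI := hP.1.1
      by_cases h : ∃ j, X j ∉ P
      · obtain ⟨j, hj⟩ := h
        have hne : form k n e c ∉ P := hG₃ P hP c (hc3 ⟨P, hP⟩) j hj
        have hlt : P < Q := lt_of_le_of_ne hPQ fun e' =>
          hne (e'.symm ▸ hQ.1.2 (Submodule.mem_sup_right (Ideal.mem_span_singleton_self _)))
        refine le_trans ?_ (Ideal.height_add_one_le_of_lt_of_isPrime hlt)
        push_cast
        exact add_le_add (hfi.trans (Ideal.height_mono hP.1.2)) le_rfl
      · push Not at h
        refine le_trans ?_ (Ideal.height_mono ((vertex_le_of_X_mem h).trans hPQ))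
        exact le_trans (by exact_mod_cast hi.le) (LC.Liaison.le_height_vertex (n + 1))

theorem exists_nonsingular (r : ℕ) (hr : r < n) (d : Fin r → ℕ) (hd : ∀ i, 0 < d i) :
    ∃ f : Fin r → MvPolynomial (Fin (n + 1)) k,
      (∀ i, (f i).IsHomogeneous (d i)) ∧
      (∀ (i : Fin r) (Q : Ideal (MvPolynomial (Fin (n + 1)) k ⧸ Ideal.span {f i})) [Q.IsPrime],
        (∃ j, Ideal.Quotient.mk (Ideal.span {f i}) (MvPolynomial.X j) ∉ Q) →
          IsRegularLocalRing (Localization.AtPrime Q)) ∧
      IsDomain (MvPolynomial (Fin (n + 1)) k ⧸ Ideal.span (Set.range f)) ∧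
      (Ideal.span (Set.range f)).height = r ∧
      ∀ (Q : Ideal (MvPolynomial (Fin (n + 1)) k ⧸ Ideal.span (Set.range f))) [Q.IsPrime],
        (∃ j, Ideal.Quotient.mk (Ideal.span (Set.range f)) (MvPolynomial.X j) ∉ Q) →
          IsRegularLocalRing (Localization.AtPrime Q) := by
  obtain ⟨f, hf, hfs, hfh, hfr⟩ := exists_forms (k := k) r d (hr.trans (Nat.lt_succ_self n)) hd
  have hreg : ∀ (Q : Ideal (MvPolynomial (Fin (n + 1)) k ⧸ Ideal.span (Set.range f))) [Q.IsPrime],
      (∃ j, Ideal.Quotient.mk (Ideal.span (Set.range f)) (MvPolynomial.X j) ∉ Q) →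
        IsRegularLocalRing (Localization.AtPrime Q) := by
    rintro Q _ ⟨j, hj⟩
    haveI := hfs j
    exact regular_cone_of_smooth_chart (Ideal.Quotient.mkₐ k (chartIdeal k n (Ideal.span (Set.range f)) j)) j
      (Ideal.Quotient.mkₐ_surjective k _) (Ideal.Quotient.mkₐ_ker k _)
      (by rintro _ ⟨i, rfl⟩; exact ⟨_, hf i⟩) Q hj
  have hJV := span_le_vertex f d hf hd
  have hne : Ideal.span (Set.range f) ≠ ⊤ := fun h => (vertex_max (k := k) (n := n)).ne_top (top_le_iff.1 (h ▸ hJV))
  have hht : (Ideal.span (Set.range f)).height = r := by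
    refine le_antisymm ((Ideal.height_le_spanFinrank _ hne).trans ?_) hfr
    norm_cast
    refine (Submodule.spanFinrank_span_le_ncard_of_finite (Set.finite_range f)).trans ?_
    rw [← Set.image_univ]
    exact (Set.ncard_image_le Set.finite_univ).trans (by simp)
  refine ⟨f, hf, fun i Q hQ ⟨j, hj⟩ => ?_, ?_, hht, hreg⟩
  · haveI := hfh i j
    exact regular_cone_of_smooth_chart (Ideal.Quotient.mkₐ k (chartIdeal k n (Ideal.span {f i}) j)) j
      (Ideal.Quotient.mkₐ_surjective k _) (Ideal.Quotient.mkₐ_ker k _)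
      (by rintro _ rfl; exact ⟨_, hf i⟩) Q hj
  · refine (normal_cone f d hf hd hr hht fun Q _ hQ => ?_).1
    haveI := hreg Q hQ
    have h1 := RegLoc6.isDomain_of_isRegularLocalRing (Localization.AtPrime Q)
    have h2 := RegLoc6.isIntegrallyClosed_of_isRegularLocalRing (Localization.AtPrime Q)
    exact ⟨h1, h2⟩

end Groth.Agent.H4CI
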