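import Groth.Agent.H4CI.SliceLocal
import Groth.Agent.QCoh.Stalk
import Groth.Agent.FibFlat.Stalk

/-!
# Smooth effective Cartier divisors through a point
-/

set_option autoImplicit false
set_option linter.style.haveILetI false
set_option backward.isDefEq.respectTransparency false
set_option backward.isDefEq.respectTransparency.types false
set_option maxHeartbeats 1000000

universe u

open CategoryTheory CategoryTheory.Limits AlgebraicGeometry TopologicalSpace TensorProduct KaehlerDifferential IsLocalRing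

namespace Groth.Agent.H4CI.Slice

variable {X S : Scheme.{u}} (f : X ⟶ S)

theorem smooth_appLE {W : X.Opens} (hW : Smooth (W.ι ≫ f)) {U : X.Opens} (hU : IsAffineOpen U) {V : S.Opens}
    (hV : IsAffineOpen V) (hle : U ≤ f ⁻¹ᵁ V) (hUW : U ≤ W) : (f.appLE V U hle).hom.Smooth := by
  have h1 : Smooth (hU.fromSpec ≫ f) := by
    have hr : Set.range hU.fromSpec ⊆ Set.range W.ι := by
      rw [hU.range_fromSpec, Scheme.Opens.range_ι]
      exact hUW
    rw [← IsOpenImmersion.lift_fac W.ι hU.fromSpec hr, Category.assoc]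
    haveI := hW
    infer_instance
  rw [← hV.SpecMap_appLE_fromSpec f hU hle] at h1
  have h2 : Smooth (Spec.map (f.appLE V U hle)) :=
    MorphismProperty.of_postcomp (W := @Smooth) (W' := @IsOpenImmersion) _ hV.fromSpec inferInstance h1
  exact HasRingHomProperty.Spec_iff.1 h2

variable {f}

theorem exists_chart {x : X} {W : X.Opens} (hxW : x ∈ W) (hW : Smooth (W.ι ≫ f)) (W₁ : X.Opens) (hxW₁ : x ∈ W₁) :
    ∃ (V : S.Opens) (U : X.Opens) (hle : U ≤ f ⁻¹ᵁ V), IsAffineOpen V ∧ IsAffineOpen U ∧ x ∈ U ∧ U ≤ W₁ ∧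
      (f.appLE V U hle).hom.Smooth := by
  obtain ⟨V, hV, hxV, -⟩ := exists_isAffineOpen_mem_and_subset (x := f x) (U := ⊤) trivial
  obtain ⟨U, hU, hxU, hUW⟩ := exists_isAffineOpen_mem_and_subset (x := x) (U := W ⊓ W₁ ⊓ f ⁻¹ᵁ V) ⟨⟨hxW, hxW₁⟩, hxV⟩
  have h1 : U ≤ W := fun z hz => (hUW hz).1.1
  have h2 : U ≤ W₁ := fun z hz => (hUW hz).1.2
  have h3 : U ≤ f ⁻¹ᵁ V := fun z hz => (hUW hz).2
  exact ⟨V, U, h3, hV, hU, hxU, h2, smooth_appLE f hW hU hV h3 h1⟩

theorem germ_appLE (x : X) {V : S.Opens} {U : X.Opens} (hle : U ≤ f ⁻¹ᵁ V) (hx : x ∈ U) (a : Γ(S, V)) :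
    X.presheaf.germ U x hx (f.appLE V U hle a) = f.stalkMap x (S.presheaf.germ V (f x) (hle hx) a) := by
  rw [Scheme.Hom.appLE, CommRingCat.comp_apply, X.presheaf.germ_res_apply]
  exact (Scheme.Hom.germ_stalkMap_apply f V x (hle hx) a).symm

/-- A germ with nonvanishing differential cuts out a smooth divisor nearby. -/
theorem exists_divisor (x : X) (W : X.Opens) (hxW : x ∈ W) (hW : Smooth (W.ι ≫ f))
    (h : X.presheaf.stalk x)
    (hd : letI := (f.stalkMap x).hom.toAlgebra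
      (1 : ResidueField (X.presheaf.stalk x)) ⊗ₜ[X.presheaf.stalk x]
          (D (S.presheaf.stalk (f x)) (X.presheaf.stalk x) h) ≠ 0) :
    ∃ (U : X.Opens) (hU : IsAffineOpen U) (hx : x ∈ U) (h' : Γ(X, U)), X.presheaf.germ U x hx h' = h ∧
      h' ∈ nonZeroDivisors Γ(X, U) ∧
      Smooth (Spec.map (CommRingCat.ofHom (Ideal.Quotient.mk (Ideal.span {h'}))) ≫ hU.fromSpec ≫ f) := by
  obtain ⟨W₁, hxW₁, t, rfl⟩ := X.presheaf.exists_germ_eq h
  obtain ⟨V, U, hle, hV, hU, hxU, hU₁, hsm⟩ := exists_chart hxW hW W₁ hxW₁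
  let h₀ : Γ(X, U) := X.presheaf.map (homOfLE hU₁).op t
  have hg : X.presheaf.germ U x hxU h₀ = X.presheaf.germ W₁ x hxW₁ t := X.presheaf.germ_res_apply _ x hxU t
  rw [← hg] at hd
  letI : Algebra Γ(S, V) Γ(X, U) := (f.appLE V U hle).hom.toAlgebra
  haveI : Algebra.Smooth Γ(S, V) Γ(X, U) := hsm
  letI := (f.stalkMap x).hom.toAlgebra
  letI : Algebra Γ(S, V) (S.presheaf.stalk (f x)) := (S.presheaf.germ V (f x) (hle hxU)).hom.toAlgebra
  letI := QCoh.stalkAlg (X := X) hxU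
  letI : Algebra Γ(S, V) (X.presheaf.stalk x) :=
    ((X.presheaf.germ U x hxU).hom.comp (f.appLE V U hle).hom).toAlgebra
  haveI : IsScalarTower Γ(S, V) Γ(X, U) (X.presheaf.stalk x) := IsScalarTower.of_algebraMap_eq fun a => rfl
  haveI : IsScalarTower Γ(S, V) (S.presheaf.stalk (f x)) (X.presheaf.stalk x) :=
    IsScalarTower.of_algebraMap_eq fun a => germ_appLE x hle hxU a
  obtain ⟨φ, hφ⟩ := exists_functional_of_ne_zero (A := Γ(S, V)) (As := S.presheaf.stalk (f x))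
    (O := X.presheaf.stalk x) h₀ hd
  haveI : ((maximalIdeal (X.presheaf.stalk x)).comap (algebraMap Γ(X, U) (X.presheaf.stalk x))).IsPrime :=
    Ideal.comap_isPrime _ _
  obtain ⟨u, hu, hslice⟩ := exists_slice h₀ _ φ hφ
  let U' : X.Opens := X.basicOpen u
  have hU' : IsAffineOpen U' := hU.basicOpen u
  have hxU' : x ∈ U' := by
    rw [X.mem_basicOpen u x hxU]
    by_contra hn
    exact hu hn
  letI : Algebra Γ(S, V) Γ(X, U') := (f.appLE V U' ((X.basicOpen_le u).trans hle)).hom.toAlgebra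
  haveI : IsScalarTower Γ(S, V) Γ(X, U) Γ(X, U') := IsScalarTower.of_algebraMap_eq fun a =>
    (ConcreteCategory.congr_hom (f.appLE_map hle (homOfLE (X.basicOpen_le u)).op) a).symm
  haveI := hU.isLocalization_basicOpen u
  obtain ⟨hnzd, hsm'⟩ := hslice Γ(X, U')
  refine ⟨U', hU', hxU', algebraMap Γ(X, U) Γ(X, U') h₀, ?_, hnzd, ?_⟩
  · rw [← hg]
    exact X.presheaf.germ_res_apply (homOfLE (X.basicOpen_le u)) x hxU' h₀
  · rw [← hV.SpecMap_appLE_fromSpec f hU' ((X.basicOpen_le u).trans hle), ← Category.assoc, ← Spec.map_comp]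
    have : Smooth (Spec.map (f.appLE V U' ((X.basicOpen_le u).trans hle) ≫
        CommRingCat.ofHom (Ideal.Quotient.mk (Ideal.span {algebraMap Γ(X, U) Γ(X, U') h₀})))) := by
      rw [HasRingHomProperty.Spec_iff (P := @Smooth)]
      exact (RingHom.smooth_algebraMap (R := Γ(S, V))).2 hsm'
    infer_instance

theorem exists_divisor' (x : X) (W : X.Opens) (hxW : x ∈ W) (hW : Smooth (W.ι ≫ f))
    (hex : letI := (f.stalkMap x).hom.toAlgebra
      ∃ h ∈ maximalIdeal (X.presheaf.stalk x), (1 : ResidueField (X.presheaf.stalk x)) ⊗ₜ[X.presheaf.stalk x]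
          (D (S.presheaf.stalk (f x)) (X.presheaf.stalk x) h) ≠ 0) :
    ∃ (U : X.Opens) (hU : IsAffineOpen U) (hx : x ∈ U) (h' : Γ(X, U)), h' ∈ nonZeroDivisors Γ(X, U) ∧
      X.presheaf.germ U x hx h' ∈ IsLocalRing.maximalIdeal (X.presheaf.stalk x) ∧
      Smooth (Spec.map (CommRingCat.ofHom (Ideal.Quotient.mk (Ideal.span {h'}))) ≫ hU.fromSpec ≫ f) := by
  obtain ⟨h, hm, hd⟩ := hex
  obtain ⟨U, hU, hx, h', hg, hn, hs⟩ := exists_divisor x W hxW hW h hd
  exact ⟨U, hU, hx, h', hn, hg ▸ hm, hs⟩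

theorem essFiniteType_stalk (x : X) (W : X.Opens) (hxW : x ∈ W) (hW : Smooth (W.ι ≫ f)) :
    letI := (f.stalkMap x).hom.toAlgebra
    Algebra.EssFiniteType (S.presheaf.stalk (f x)) (X.presheaf.stalk x) := by
  obtain ⟨V, U, hle, hV, hU, hxU, -, hsm⟩ := exists_chart hxW hW ⊤ trivial
  letI : Algebra Γ(S, V) Γ(X, U) := (f.appLE V U hle).hom.toAlgebra
  haveI : Algebra.Smooth Γ(S, V) Γ(X, U) := hsm
  letI := (f.stalkMap x).hom.toAlgebra
  letI : Algebra Γ(S, V) (S.presheaf.stalk (f x)) := (S.presheaf.germ V (f x) (hle hxU)).hom.toAlgebra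
  letI := QCoh.stalkAlg (X := X) hxU
  letI : Algebra Γ(S, V) (X.presheaf.stalk x) :=
    ((X.presheaf.germ U x hxU).hom.comp (f.appLE V U hle).hom).toAlgebra
  haveI : IsScalarTower Γ(S, V) Γ(X, U) (X.presheaf.stalk x) := IsScalarTower.of_algebraMap_eq fun a => rfl
  haveI : IsScalarTower Γ(S, V) (S.presheaf.stalk (f x)) (X.presheaf.stalk x) :=
    IsScalarTower.of_algebraMap_eq fun a => germ_appLE x hle hxU a
  haveI := QCoh.isLocalization_stalk' hU hxU
  haveI : Algebra.EssFiniteType Γ(X, U) (X.presheaf.stalk x) :=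
    Algebra.EssFiniteType.of_isLocalization _ (hU.primeIdealOf ⟨x, hxU⟩).asIdeal.primeCompl
  haveI : Algebra.EssFiniteType Γ(S, V) (X.presheaf.stalk x) := Algebra.EssFiniteType.comp _ Γ(X, U) _
  exact Algebra.EssFiniteType.of_comp Γ(S, V) _ _

theorem maximalIdeal_ne_map (x : X)
    (hgen : maximalIdeal ((f.fiber (f x)).presheaf.stalk (f.asFiber x)) ≠ ⊥) :
    maximalIdeal (X.presheaf.stalk x) ≠ (maximalIdeal (S.presheaf.stalk (f x))).map (f.stalkMap x).hom := by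
  intro he
  apply hgen
  have hsurj := FibFlat.surjective_sm (f := f.fiberι (f x)) (f.asFiber x) x (f.fiberι_asFiber x)
  refine eq_bot_iff.2 fun z hz => ?_
  obtain ⟨a, rfl⟩ := hsurj z
  have ha : a ∈ maximalIdeal (X.presheaf.stalk x) := fun hu => hz (hu.map _)
  rw [he, ← FibFlat.sm_self, ← FibFlat.ker_sm_fiberι f (f x) (f.asFiber x) x (f.fiberι_asFiber x)] at ha
  exact (Submodule.mem_bot _).2 ha

end Groth.Agent.H4CI.Slice
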