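import Groth.Agent.H4CI.RegSmoothRing
import Groth.Agent.H4CI.SliceScheme

/-!
# Smoothness from a regular closed immersion with smooth source
-/

set_option autoImplicit false
set_option linter.style.haveILetI false
set_option backward.isDefEq.respectTransparency false
set_option backward.isDefEq.respectTransparency.types false
set_option maxHeartbeats 1000000

universe u

open CategoryTheory CategoryTheory.Limits AlgebraicGeometry TopologicalSpace Opposite IsLocalRing

namespace Groth.Agent.H4CI.RegSmooth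

variable {Z X : Scheme.{u}} (i : Z ⟶ X)

/-- The kernel of the stalk map is generated by the kernel on an affine open. -/
theorem ker_stalkMap_eq_map' [IsClosedImmersion i] {U : X.Opens} (hU : IsAffineOpen U) (z : Z) (hz : i z ∈ U) :
    RingHom.ker (i.stalkMap z).hom = (RingHom.ker (i.app U).hom).map (X.presheaf.germ U (i z) hz).hom := by
  have hV : IsAffineOpen (i ⁻¹ᵁ U) := hU.preimage i
  have hs : Function.Surjective (i.app U).hom := i.app_surjective U hU
  let φ : Γ(X, U) →+* Γ(Z, i ⁻¹ᵁ U) := (i.app U).hom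
  letI : Algebra Γ(X, U) (X.presheaf.stalk (i z)) := (X.presheaf.germ U (i z) hz).hom.toAlgebra
  letI : Algebra Γ(Z, i ⁻¹ᵁ U) (Z.presheaf.stalk z) := (Z.presheaf.germ (i ⁻¹ᵁ U) z hz).hom.toAlgebra
  haveI hX : IsLocalization.AtPrime (X.presheaf.stalk (i z)) (hU.primeIdealOf ⟨i z, hz⟩).asIdeal :=
    hU.isLocalization_stalk ⟨i z, hz⟩
  haveI hZ : IsLocalization.AtPrime (Z.presheaf.stalk z) (hV.primeIdealOf ⟨z, hz⟩).asIdeal :=
    hV.isLocalization_stalk ⟨z, hz⟩
  have hcomap : (hU.primeIdealOf ⟨i z, hz⟩).asIdeal = (hV.primeIdealOf ⟨z, hz⟩).asIdeal.comap φ := by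
    rw [show φ = (i.appLE U (i ⁻¹ᵁ U) le_rfl).hom by simp only [φ, Scheme.Hom.app_eq_appLE]]
    exact (congrArg PrimeSpectrum.asIdeal
      (IsAffineOpen.comap_primeIdealOf_appLE (f := i) U hU (i ⁻¹ᵁ U) hV le_rfl hz)).symm
  let f : X.presheaf.stalk (i z) →+* Z.presheaf.stalk z := (i.stalkMap z).hom
  have hf : ∀ a : Γ(X, U), f (algebraMap _ _ a) = algebraMap _ _ (φ a) := fun a =>
    Scheme.Hom.germ_stalkMap_apply i U z hz a
  have hM : Submonoid.map φ (hU.primeIdealOf ⟨i z, hz⟩).asIdeal.primeCompl =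
      (hV.primeIdealOf ⟨z, hz⟩).asIdeal.primeCompl := by
    ext b
    constructor
    · rintro ⟨a, ha, rfl⟩ hb
      exact ha (by rw [hcomap]; exact hb)
    · intro hb
      obtain ⟨a, rfl⟩ := hs b
      exact ⟨a, fun h => hb (by rw [hcomap] at h; exact h), rfl⟩
  have hfm : f = IsLocalization.map (Z.presheaf.stalk z) φ
      (show (hU.primeIdealOf ⟨i z, hz⟩).asIdeal.primeCompl ≤
        (hV.primeIdealOf ⟨z, hz⟩).asIdeal.primeCompl.comap φ from
        Submonoid.map_le_iff_le_comap.1 hM.le) := by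
    refine IsLocalization.ringHom_ext (hU.primeIdealOf ⟨i z, hz⟩).asIdeal.primeCompl (RingHom.ext fun a => ?_)
    rw [RingHom.comp_apply, RingHom.comp_apply, hf, IsLocalization.map_eq]
  show RingHom.ker f = _
  rw [hfm]
  exact IsLocalization.ker_map (Z.presheaf.stalk z) φ hM


/-- A localisation of a quotient of a polynomial algebra is a quotient of a localised polynomial algebra. -/
theorem formallySmooth_atPrime {A B O : Type u} [CommRing A] [CommRing B] [CommRing O] [IsLocalRing O] [Algebra A B]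
    [Algebra.FinitePresentation A B] [Algebra A O] [Algebra B O] [IsScalarTower A B O]
    (p : Ideal B) [p.IsPrime] [IsLocalization.AtPrime O p] (rs : List O) (hmem : ∀ r ∈ rs, ¬ IsUnit r)
    (hreg : RingTheory.Sequence.IsWeaklyRegular O rs) (hC : Algebra.FormallySmooth A (O ⧸ Ideal.ofList rs)) :
    Algebra.FormallySmooth A O := by
  obtain ⟨n, π, hπ, hK⟩ := Algebra.FinitePresentation.out (R := A) (A := B)
  let P := p.comap π.toRingHom
  haveI : P.IsPrime := Ideal.comap_isPrime _ _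
  let L := Localization.AtPrime P
  let ψ : MvPolynomial (Fin n) A →+* O := (algebraMap B O).comp π.toRingHom
  have hunit : ∀ s : P.primeCompl, IsUnit (ψ s) := fun s =>
    IsLocalization.map_units O (⟨π s.1, s.2⟩ : p.primeCompl)
  let ev : L →+* O := IsLocalization.lift hunit
  have hev : ∀ q, ev (algebraMap _ L q) = algebraMap B O (π q) := fun q => IsLocalization.lift_eq hunit q
  letI : Algebra L O := ev.toAlgebra
  haveI : IsScalarTower A L O := IsScalarTower.of_algebraMap_eq fun a => by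
    rw [IsScalarTower.algebraMap_apply A (MvPolynomial (Fin n) A) L a]
    refine Eq.trans ?_ (hev _).symm
    rw [AlgHom.commutes, ← IsScalarTower.algebraMap_apply]
  haveI : Algebra.FormallySmooth (MvPolynomial (Fin n) A) L := Algebra.FormallySmooth.of_isLocalization P.primeCompl
  haveI : Algebra.FormallySmooth A L := Algebra.FormallySmooth.comp A (MvPolynomial (Fin n) A) L
  haveI : Nontrivial O := inferInstance
  have hsurj : Function.Surjective (algebraMap L O) := fun z => by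
    obtain ⟨b, ⟨s, hs⟩, rfl⟩ := IsLocalization.exists_mk'_eq p.primeCompl z
    obtain ⟨q, rfl⟩ := hπ b
    obtain ⟨t, rfl⟩ := hπ s
    refine ⟨IsLocalization.mk' L q (⟨t, hs⟩ : P.primeCompl), ?_⟩
    show ev _ = _
    rw [IsLocalization.lift_mk'_spec]
    exact ((mul_comm _ _).trans (IsLocalization.mk'_spec O (π q) (⟨π t, hs⟩ : p.primeCompl))).symm
  have hker : RingHom.ker (algebraMap L O) = (RingHom.ker π.toRingHom).map (algebraMap _ L) := by
    refine le_antisymm (fun z hz => ?_) (Ideal.map_le_iff_le_comap.2 fun q hq => ?_)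
    · obtain ⟨q, t, rfl⟩ := IsLocalization.exists_mk'_eq P.primeCompl z
      have h0 : ev (algebraMap _ L q) = 0 := by
        rw [← IsLocalization.mk'_spec L q t, map_mul, show ev (IsLocalization.mk' L q t) = 0 from hz, zero_mul]
      rw [hev, IsLocalization.map_eq_zero_iff p.primeCompl] at h0
      obtain ⟨⟨s, hs⟩, hs'⟩ := h0
      obtain ⟨t', rfl⟩ := hπ s
      rw [IsLocalization.mk'_mem_map_algebraMap_iff]
      exact ⟨t', hs, show π (t' * q) = 0 by rw [map_mul]; exact hs'⟩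
    · show ev _ = 0
      rw [hev, show π q = 0 from hq, map_zero]
  exact formallySmooth_of_regular (A := A) hsurj (by rw [hker]; exact Ideal.FG.map hK _)
    rs hmem hreg hC

theorem formallySmooth_quot_of_surjective {A B C : Type u} [CommRing A] [CommRing B] [CommRing C] [Algebra A B]
    [Algebra A C] [Algebra.FormallySmooth A C] (σ : B →+* C)
    (hc : ∀ a, σ (algebraMap A B a) = algebraMap A C a) (hσ : Function.Surjective σ) (J : Ideal B)
    (hJ : RingHom.ker σ = J) : Algebra.FormallySmooth A (B ⧸ J) := by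
  subst hJ
  exact Algebra.FormallySmooth.of_equiv
    (Ideal.quotientKerAlgEquivOfSurjective (f := (⟨σ, hc⟩ : B →ₐ[A] C)) hσ).symm

variable {X Y S : Scheme.{u}}

/-- Formal smoothness of the local ring spreads to a neighbourhood. -/
theorem smooth_nhd_of_stalk (f : X ⟶ S) [LocallyOfFinitePresentation f] (x : X) {V : S.Opens} (hV : IsAffineOpen V)
    {U₁ : X.Opens} (hU₁ : IsAffineOpen U₁) (hle₁ : U₁ ≤ f ⁻¹ᵁ V) (hx : x ∈ U₁)
    (hfs : letI : Algebra Γ(S, V) (X.presheaf.stalk x) :=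
        ((X.presheaf.germ U₁ x hx).hom.comp (f.appLE V U₁ hle₁).hom).toAlgebra
      Algebra.FormallySmooth Γ(S, V) (X.presheaf.stalk x)) :
    ∃ U : X.Opens, x ∈ U ∧ Smooth (U.ι ≫ f) := by
  letI : Algebra Γ(S, V) Γ(X, U₁) := (f.appLE V U₁ hle₁).hom.toAlgebra
  haveI : Algebra.FinitePresentation Γ(S, V) Γ(X, U₁) := f.finitePresentation_appLE hV hU₁ hle₁
  letI := QCoh.stalkAlg (X := X) hx
  haveI := QCoh.isLocalization_stalk' hU₁ hx
  letI : Algebra Γ(S, V) (X.presheaf.stalk x) :=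
    ((X.presheaf.germ U₁ x hx).hom.comp (f.appLE V U₁ hle₁).hom).toAlgebra
  haveI : IsScalarTower Γ(S, V) Γ(X, U₁) (X.presheaf.stalk x) := IsScalarTower.of_algebraMap_eq fun a => rfl
  haveI : Algebra.FormallySmooth Γ(S, V) (X.presheaf.stalk x) := hfs
  let p := (hU₁.primeIdealOf ⟨x, hx⟩).asIdeal
  haveI : Algebra.IsSmoothAt Γ(S, V) p :=
    Algebra.FormallySmooth.of_equiv ((IsLocalization.algEquiv p.primeCompl (X.presheaf.stalk x)
      (Localization.AtPrime p)).restrictScalars Γ(S, V))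
  obtain ⟨g, hg, hsm⟩ := Algebra.IsSmoothAt.exists_notMem_smooth (R := Γ(S, V)) p
  refine ⟨X.basicOpen g, (QCoh.mem_basicOpen_iff_notMem hU₁ hx g).2 hg, ?_⟩
  have hU₃ : IsAffineOpen (X.basicOpen g) := hU₁.basicOpen g
  haveI := hU₁.isLocalization_basicOpen g
  letI : Algebra Γ(S, V) Γ(X, X.basicOpen g) :=
    (f.appLE V (X.basicOpen g) ((X.basicOpen_le g).trans hle₁)).hom.toAlgebra
  haveI : IsScalarTower Γ(S, V) Γ(X, U₁) Γ(X, X.basicOpen g) := IsScalarTower.of_algebraMap_eq fun a =>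
    (ConcreteCategory.congr_hom (f.appLE_map hle₁ (homOfLE (X.basicOpen_le g)).op) a).symm
  have hs' : Algebra.Smooth Γ(S, V) Γ(X, X.basicOpen g) := Algebra.Smooth.of_equiv
    ((IsLocalization.algEquiv (Submonoid.powers g) (Localization.Away g) Γ(X, X.basicOpen g)).restrictScalars Γ(S, V))
  have h1 : Smooth (Spec.map (f.appLE V (X.basicOpen g) ((X.basicOpen_le g).trans hle₁))) := by
    rw [HasRingHomProperty.Spec_iff (P := @Smooth)]
    exact hs'
  have h2 : Smooth (hU₃.fromSpec ≫ f) := by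
    rw [← hV.SpecMap_appLE_fromSpec f hU₃ ((X.basicOpen_le g).trans hle₁)]
    infer_instance
  have e : (X.basicOpen g).ι ≫ f = hU₃.isoSpec.hom ≫ hU₃.fromSpec ≫ f := by
    rw [IsAffineOpen.isoSpec_hom_fromSpec_assoc]
  rw [e]
  infer_instance

theorem smooth_nhd (f : X ⟶ S) (h : Y ⟶ S) [LocallyOfFinitePresentation f]
    (j : Y ⟶ X) [IsClosedImmersion j] (hj : j ≫ f = h) (y : Y) (hy : ∃ V : Y.Opens, y ∈ V ∧ Smooth (V.ι ≫ h))
    (hreg : ∃ (U : X.Opens) (hU : IsAffineOpen U), j y ∈ U ∧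
      ∃ rs : List Γ(X, U), RingTheory.Sequence.IsRegular Γ(X, U) rs ∧ j.ker.ideal ⟨U, hU⟩ = Ideal.ofList rs) :
    ∃ U : X.Opens, j y ∈ U ∧ Smooth (U.ι ≫ f) := by
  subst hj
  obtain ⟨W, hyW, hW⟩ := hy
  obtain ⟨U, hU, hxU, rs, hrs, hker⟩ := hreg
  obtain ⟨V, hV, hxV, -⟩ := exists_isAffineOpen_mem_and_subset (x := f (j y)) (U := ⊤) trivial
  obtain ⟨U₁, hU₁, hxU₁, hsub⟩ := exists_isAffineOpen_mem_and_subset (x := j y) (U := f ⁻¹ᵁ V) hxV
  have hle₁ : U₁ ≤ f ⁻¹ᵁ V := hsub
  obtain ⟨U₂, hU₂, hyU₂, hsub₂⟩ := exists_isAffineOpen_mem_and_subset (x := y) (U := W ⊓ j ⁻¹ᵁ U₁) ⟨hyW, hxU₁⟩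
  have hle₂ : U₂ ≤ j ⁻¹ᵁ U₁ := fun z hz => (hsub₂ hz).2
  have hle₂V : U₂ ≤ (j ≫ f) ⁻¹ᵁ V := fun z hz => hle₁ (hle₂ hz)
  letI : Algebra Γ(S, V) Γ(X, U₁) := (f.appLE V U₁ hle₁).hom.toAlgebra
  haveI : Algebra.FinitePresentation Γ(S, V) Γ(X, U₁) := f.finitePresentation_appLE hV hU₁ hle₁
  letI := QCoh.stalkAlg (X := X) hxU₁
  haveI := QCoh.isLocalization_stalk' hU₁ hxU₁
  letI : Algebra Γ(S, V) (X.presheaf.stalk (j y)) :=
    ((X.presheaf.germ U₁ (j y) hxU₁).hom.comp (f.appLE V U₁ hle₁).hom).toAlgebra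
  haveI : IsScalarTower Γ(S, V) Γ(X, U₁) (X.presheaf.stalk (j y)) := IsScalarTower.of_algebraMap_eq fun a => rfl
  -- the target is smooth
  letI : Algebra Γ(S, V) Γ(Y, U₂) := ((j ≫ f).appLE V U₂ hle₂V).hom.toAlgebra
  haveI : Algebra.Smooth Γ(S, V) Γ(Y, U₂) :=
    Slice.smooth_appLE (j ≫ f) hW hU₂ hV hle₂V fun z hz => (hsub₂ hz).1
  letI := QCoh.stalkAlg (X := Y) hyU₂
  haveI := QCoh.isLocalization_stalk' hU₂ hyU₂
  letI : Algebra Γ(S, V) (Y.presheaf.stalk y) :=
    ((Y.presheaf.germ U₂ y hyU₂).hom.comp ((j ≫ f).appLE V U₂ hle₂V).hom).toAlgebra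
  haveI : IsScalarTower Γ(S, V) Γ(Y, U₂) (Y.presheaf.stalk y) := IsScalarTower.of_algebraMap_eq fun a => rfl
  haveI : Algebra.FormallySmooth Γ(Y, U₂) (Y.presheaf.stalk y) :=
    Algebra.FormallySmooth.of_isLocalization (hU₂.primeIdealOf ⟨y, hyU₂⟩).asIdeal.primeCompl
  haveI : Algebra.FormallySmooth Γ(S, V) (Y.presheaf.stalk y) := Algebra.FormallySmooth.comp _ Γ(Y, U₂) _
  -- the regular sequence at the point
  let gm : Γ(X, U) →+* X.presheaf.stalk (j y) := (X.presheaf.germ U (j y) hxU).hom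
  have hwreg : RingTheory.Sequence.IsWeaklyRegular (X.presheaf.stalk (j y)) (rs.map gm) := by
    letI := QCoh.stalkAlg (X := X) hxU
    haveI := QCoh.isLocalization_stalk' hU hxU
    haveI : Module.Flat Γ(X, U) (X.presheaf.stalk (j y)) :=
      IsLocalization.flat _ (hU.primeIdealOf ⟨j y, hxU⟩).asIdeal.primeCompl
    exact (RingTheory.Sequence.isWeaklyRegular_map_algebraMap_iff _ _ rs).2
      ((hrs.toIsWeaklyRegular.of_flat_of_isBaseChange (S := X.presheaf.stalk (j y))
        (IsBaseChange.linearMap Γ(X, U) (X.presheaf.stalk (j y)))) |> fun h =>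
          (RingTheory.Sequence.isWeaklyRegular_map_algebraMap_iff _ _ rs).1 h)
  have hstalk : RingHom.ker (j.stalkMap y).hom = Ideal.ofList (rs.map gm) := by
    rw [← Ideal.map_ofList, ← hker, j.ker_apply ⟨U, hU⟩, ker_stalkMap_eq_map' j hU y hxU]
  have hmem : ∀ r ∈ rs.map gm, ¬ IsUnit r := fun r hr hu => by
    have h1 : r ∈ RingHom.ker (j.stalkMap y).hom := hstalk ▸ Ideal.subset_span hr
    have h2 := hu.map (j.stalkMap y).hom
    rw [RingHom.mem_ker.1 h1] at h2
    exact not_isUnit_zero h2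
  have hcomm : ∀ a : Γ(S, V), (j.stalkMap y).hom (algebraMap Γ(S, V) (X.presheaf.stalk (j y)) a) =
      algebraMap Γ(S, V) (Y.presheaf.stalk y) a := fun a => by
    show j.stalkMap y (X.presheaf.germ U₁ (j y) hxU₁ (f.appLE V U₁ hle₁ a)) = _
    rw [← Slice.germ_appLE y hle₂ hyU₂, ← CommRingCat.comp_apply (f.appLE V U₁ hle₁), Scheme.Hom.appLE_comp_appLE]
    rfl
  exact smooth_nhd_of_stalk f (j y) hV hU₁ hle₁ hxU₁
    (formallySmooth_atPrime (hU₁.primeIdealOf ⟨j y, hxU₁⟩).asIdeal (rs.map gm) hmem hwreg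
      (formallySmooth_quot_of_surjective (j.stalkMap y).hom hcomm (j.stalkMap_surjective y) _ hstalk))

end Groth.Agent.H4CI.RegSmooth
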