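import Mathlib
import Groth.Agent.BertiniSec.Affine
import Groth.Agent.LC.DepthExt

/-!
# Formal smoothness from a regular sequence with formally smooth quotient
-/

set_option autoImplicit false
set_option linter.style.haveILetI false
set_option backward.isDefEq.respectTransparency false
set_option backward.isDefEq.respectTransparency.types false

universe u

open TensorProduct KaehlerDifferential IsLocalRing RingTheory.Sequence

namespace Groth.Agent.H4CI.RegSmooth

variable {A : Type u} [CommRing A]

/-- An element of the kernel whose differential vanishes at the closed point. -/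
theorem mem_smul_of_differential {L C : Type u} [CommRing L] [CommRing C] [IsLocalRing L] [Algebra A L]
    [Algebra.FormallySmooth A L] [Algebra A C] [Algebra L C] [IsScalarTower A L C]
    (hsurj : Function.Surjective (algebraMap L C)) [Algebra.FormallySmooth A C]
    (hne : RingHom.ker (algebraMap L C) ≤ maximalIdeal L)
    (x : L) (hx : x ∈ RingHom.ker (algebraMap L C)) (hd : D A L x ∈ (maximalIdeal L • ⊤ : Submodule L Ω[L⁄A])) :
    x ∈ maximalIdeal L * RingHom.ker (algebraMap L C) := by
  set N := RingHom.ker (algebraMap L C) with hN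
  obtain ⟨l, hl⟩ := (Algebra.FormallySmooth.iff_split_injection (R := A) (P := L) hsurj).1 inferInstance
  let θ : Ω[L⁄A] →ₗ[L] N.Cotangent := l ∘ₗ (TensorProduct.mk L C Ω[L⁄A] 1)
  have h1 : θ (D A L x) = N.toCotangent ⟨x, hx⟩ := by
    have := LinearMap.congr_fun hl (N.toCotangent ⟨x, hx⟩)
    rw [LinearMap.comp_apply, kerCotangentToTensor_toCotangent, LinearMap.id_apply] at this
    exact this
  have h2 : N.toCotangent ⟨x, hx⟩ ∈ (maximalIdeal L • ⊤ : Submodule L N.Cotangent) := by
    rw [← h1]
    have h3 := Submodule.mem_map_of_mem (f := θ) hd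
    rw [Submodule.map_smul''] at h3
    exact Submodule.smul_mono le_rfl le_top h3
  rw [← LinearMap.range_eq_top.2 N.toCotangent_surjective, LinearMap.range_eq_map, ← Submodule.map_smul''] at h2
  obtain ⟨z, hz, hze⟩ := h2
  rw [Ideal.toCotangent_eq] at hze
  have hz' : (z : L) ∈ maximalIdeal L * N := by
    have := Submodule.mem_map_of_mem (f := N.subtype) hz
    rw [Submodule.map_smul'', Submodule.map_top, Submodule.range_subtype] at this
    exact this
  have h4 : (z : L) - x ∈ maximalIdeal L * N := by
    refine Ideal.mul_mono_left hne ?_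
    rw [← pow_two]; exact hze
  have := (maximalIdeal L * N).sub_mem hz' h4
  rwa [sub_sub_cancel] at this

/-- The kernel meets the ideal of lifts of a regular sequence in its product with the maximal ideal. -/
theorem inf_le_smul {L B : Type u} [CommRing L] [CommRing B] [IsLocalRing L] [Algebra L B] (t : List L) :
    Function.Surjective (algebraMap L B) → (∀ r ∈ t, r ∈ maximalIdeal L) →
      IsWeaklyRegular B (t.map (algebraMap L B)) →
      RingHom.ker (algebraMap L B) ⊓ Ideal.ofList t ≤ maximalIdeal L * RingHom.ker (algebraMap L B) := by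
  induction t using List.reverseRecOn with
  | nil => intros; rw [Ideal.ofList_nil, inf_bot_eq]; exact bot_le
  | append_singleton ys r ih =>
    intro hsurj hmem hreg x hx
    obtain ⟨hxK, hxt⟩ := Submodule.mem_inf.1 hx
    rw [List.map_append, List.map_singleton] at hreg
    obtain ⟨hys, hr⟩ := (LC.isWeaklyRegular_concat_iff _ _).mp hreg
    rw [Ideal.ofList_append, Ideal.ofList_singleton] at hxt
    obtain ⟨y, hy, w, hw, rfl⟩ := Submodule.mem_sup.1 hxt
    obtain ⟨a, rfl⟩ := Ideal.mem_span_singleton'.1 hw
    have he : (Ideal.ofList (ys.map (algebraMap L B)) • ⊤ : Submodule B B) =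
        (Ideal.ofList ys).map (algebraMap L B) := by rw [smul_eq_mul, Ideal.mul_top, Ideal.map_ofList]
    have h1 : algebraMap L B r * algebraMap L B a ∈
        (Ideal.ofList (ys.map (algebraMap L B)) • ⊤ : Submodule B B) := by
      rw [he]
      have h0 : algebraMap L B (y + a * r) = 0 := hxK
      rw [map_add, map_mul, add_comm, mul_comm] at h0
      rw [eq_neg_of_add_eq_zero_left h0]
      exact neg_mem (Ideal.mem_map_of_mem _ hy)
    have h2 : algebraMap L B a ∈ (Ideal.ofList ys).map (algebraMap L B) := by
      rw [← he, ← Submodule.Quotient.mk_eq_zero]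
      refine hr.right_eq_zero_of_smul ?_
      rw [← Submodule.Quotient.mk_smul, Submodule.Quotient.mk_eq_zero]
      exact h1
    obtain ⟨b, hb, hba⟩ := (Ideal.mem_map_iff_of_surjective _ hsurj).1 h2
    have hk : a - b ∈ RingHom.ker (algebraMap L B) := by rw [RingHom.mem_ker, map_sub, hba, sub_self]
    have hrm : r ∈ maximalIdeal L := hmem r (by simp)
    have h3 : y + b * r ∈ maximalIdeal L * RingHom.ker (algebraMap L B) := by
      refine ih hsurj (fun s hs => hmem s (by simp [hs])) hys ⟨?_, ?_⟩
      · rw [show y + b * r = (y + a * r) - (a - b) * r by ring]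
        exact sub_mem hxK (Ideal.mul_mem_right _ _ hk)
      · exact add_mem hy (Ideal.mul_mem_right _ _ hb)
    rw [show y + a * r = (y + b * r) + r * (a - b) by ring]
    exact add_mem h3 (Ideal.mul_mem_mul hrm hk)

theorem ker_eq_bot_of_differentials {L B : Type u} [CommRing L] [CommRing B] [IsLocalRing L] [Nontrivial B]
    [Algebra A L] [Algebra.FormallySmooth A L] [Algebra A B] [Algebra L B] [IsScalarTower A L B]
    (hsurj : Function.Surjective (algebraMap L B)) (hfg : (RingHom.ker (algebraMap L B)).FG) (rs : List B)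
    (hmem : ∀ r ∈ rs, ¬ IsUnit r) (hreg : IsWeaklyRegular B rs) [Algebra.FormallySmooth A (B ⧸ Ideal.ofList rs)]
    (hd : ∀ x ∈ RingHom.ker (algebraMap L B), D A L x ∈ (maximalIdeal L • ⊤ : Submodule L Ω[L⁄A])) :
    RingHom.ker (algebraMap L B) = ⊥ := by
  set K := RingHom.ker (algebraMap L B) with hK
  obtain ⟨t, ht⟩ : ∃ t : List L, t.map (algebraMap L B) = rs :=
    ⟨rs.map (Function.surjInv hsurj), by
      rw [List.map_map]
      conv_rhs => rw [← List.map_id rs]
      exact List.map_congr_left fun r _ => Function.surjInv_eq hsurj r⟩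
  have htm : ∀ r ∈ t, r ∈ maximalIdeal L := fun r hr hu => hmem _ (ht ▸ List.mem_map_of_mem hr) (hu.map _)
  set N := RingHom.ker (algebraMap L (B ⧸ Ideal.ofList rs)) with hN
  have hNeq : N = K ⊔ Ideal.ofList t := by
    rw [hN, IsScalarTower.algebraMap_eq L B (B ⧸ Ideal.ofList rs), Ideal.Quotient.algebraMap_eq,
      ← RingHom.comap_ker, Ideal.mk_ker, ← ht, ← Ideal.map_ofList, Ideal.comap_map_of_surjective _ hsurj,
      ← RingHom.ker_eq_comap_bot, sup_comm]
  have hKm : K ≤ maximalIdeal L := le_maximalIdeal (RingHom.ker_ne_top _)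
  have htm' : Ideal.ofList t ≤ maximalIdeal L := Ideal.span_le.2 htm
  have hNm : N ≤ maximalIdeal L := hNeq ▸ sup_le hKm htm'
  have h1 : K ≤ maximalIdeal L * N := fun x hx =>
    mem_smul_of_differential (A := A) (L := L) (C := B ⧸ Ideal.ofList rs)
      (Ideal.Quotient.mk_surjective.comp hsurj) hNm x
      (by show x ∈ N; rw [hNeq]; exact Submodule.mem_sup_left hx) (hd x hx)
  have h2 : N ≤ Ideal.ofList t := by
    refine Submodule.le_of_le_smul_of_le_jacobson_bot (I := maximalIdeal L) ?_ (maximalIdeal_le_jacobson ⊥) ?_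
    · rw [hNeq]
      classical
      exact Submodule.FG.sup hfg ⟨t.toFinset, by simp [Ideal.ofList]⟩
    · rw [smul_eq_mul, hNeq]
      exact sup_le (h1.trans (hNeq ▸ le_sup_right)) le_sup_left
  have h3 : K ≤ maximalIdeal L • K := by
    rw [smul_eq_mul]
    refine le_trans (le_inf le_rfl ?_) (inf_le_smul t hsurj htm (by rw [ht]; exact hreg))
    exact le_trans (hNeq ▸ le_sup_left) h2
  exact Submodule.eq_bot_of_le_smul_of_le_jacobson_bot _ _ hfg h3 (maximalIdeal_le_jacobson ⊥)

theorem formallySmooth_of_regular_aux (n : ℕ) : ∀ (L B : Type u) [CommRing L] [CommRing B] [IsLocalRing L] [Nontrivial B]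
    [Algebra A L] [Algebra.FormallySmooth A L] [Algebra A B] [Algebra L B] [IsScalarTower A L B]
    (_ : Function.Surjective (algebraMap L B)) (S : Finset L), S.card ≤ n →
    Ideal.span (S : Set L) = RingHom.ker (algebraMap L B) → ∀ (rs : List B),
    (∀ r ∈ rs, ¬ IsUnit r) → IsWeaklyRegular B rs → Algebra.FormallySmooth A (B ⧸ Ideal.ofList rs) →
    Algebra.FormallySmooth A B := by
  induction n with
  | zero =>
    intro L B _ _ _ _ _ _ _ _ _ hsurj S hS hspan rs _ _ _
    have hbot : RingHom.ker (algebraMap L B) = ⊥ := by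
      rw [← hspan, Finset.card_eq_zero.1 (Nat.le_zero.1 hS)]
      simp
    exact Algebra.FormallySmooth.of_equiv (AlgEquiv.ofBijective (IsScalarTower.toAlgHom A L B)
      ⟨(RingHom.injective_iff_ker_eq_bot _).2 hbot, hsurj⟩)
  | succ n ih =>
    intro L B _ _ _ _ _ _ _ _ _ hsurj S hS hspan rs hmem hreg hC
    classical
    haveI := hC
    by_cases hall : ∀ g ∈ S, D A L g ∈ (maximalIdeal L • ⊤ : Submodule L Ω[L⁄A])
    · have hbot := ker_eq_bot_of_differentials (A := A) hsurj ⟨S, hspan⟩ rs hmem hreg (fun x hx => by
        have hm : RingHom.ker (algebraMap L B) ≤ maximalIdeal L := le_maximalIdeal (RingHom.ker_ne_top _)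
        rw [← hspan] at hx hm
        induction hx using Submodule.span_induction with
        | mem g hg => exact hall g hg
        | zero => rw [map_zero]; exact Submodule.zero_mem _
        | add a b _ _ ha hb => rw [map_add]; exact add_mem ha hb
        | smul c a ha' ha =>
          rw [smul_eq_mul, Derivation.leibniz]
          exact add_mem (Submodule.smul_mem _ c ha) (Submodule.smul_mem_smul (hm ha') Submodule.mem_top))
      exact Algebra.FormallySmooth.of_equiv (AlgEquiv.ofBijective (IsScalarTower.toAlgHom A L B)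
        ⟨(RingHom.injective_iff_ker_eq_bot _).2 hbot, hsurj⟩)
    · push Not at hall
      obtain ⟨g, hgS, hg⟩ := hall
      have hgK : g ∈ RingHom.ker (algebraMap L B) := hspan ▸ Ideal.subset_span hgS
      obtain ⟨φ, hφ⟩ : ∃ φ : Ω[L⁄A] →ₗ[L] L, IsUnit (φ (D A L g)) := by
        by_contra! hno
        apply hg
        obtain ⟨s, hs⟩ := (Module.projective_def' (R := L) (P := Ω[L⁄A])).1 inferInstance
        have he : Finsupp.linearCombination L id (s (D A L g)) = D A L g := LinearMap.congr_fun hs _
        rw [← he, Finsupp.linearCombination_apply, Finsupp.sum]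
        exact Submodule.sum_mem _ fun w _ => Submodule.smul_mem_smul (hno ((Finsupp.lapply w).comp s)) Submodule.mem_top
      obtain ⟨e, he⟩ := hφ
      let L' := L ⧸ Ideal.span {g}
      haveI : Algebra.FormallySmooth A L' := BertiniSec.formallySmooth_quotient' g ((↑e⁻¹ : L) • φ) (by
        rw [LinearMap.smul_apply, ← he, smul_eq_mul, Units.inv_mul, sub_self]
        exact zero_mem _)
      have hle : Ideal.span {g} ≤ RingHom.ker (algebraMap L B) := (Ideal.span_singleton_le_iff_mem _).2 hgK
      haveI : Nontrivial L' := Ideal.Quotient.nontrivial_iff.2 fun h => RingHom.ker_ne_top _ (top_le_iff.1 (h ▸ hle))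
      haveI : IsLocalRing L' := .of_surjective' _ Ideal.Quotient.mk_surjective
      letI : Algebra L' B := (Ideal.Quotient.lift (Ideal.span {g}) (algebraMap L B) fun a ha => hle ha).toAlgebra
      haveI : IsScalarTower A L' B := IsScalarTower.of_algebraMap_eq fun a =>
        (IsScalarTower.algebraMap_apply A L B a).trans rfl
      refine ih L' B (fun b => ?_) ((S.erase g).image (Ideal.Quotient.mk _)) ?_ ?_ rs hmem hreg hC
      · obtain ⟨a, rfl⟩ := hsurj b
        exact ⟨Ideal.Quotient.mk _ a, rfl⟩
      · refine Finset.card_image_le.trans ?_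
        rw [Finset.card_erase_of_mem hgS]
        omega
      · rw [Finset.coe_image, ← Ideal.map_span]
        refine Eq.trans (?_ : _ = (RingHom.ker (algebraMap L B)).map (Ideal.Quotient.mk (Ideal.span {g}))) ?_
        · rw [← hspan]
          refine le_antisymm (Ideal.map_mono (Ideal.span_mono (by simp))) ?_
          rw [Ideal.map_le_iff_le_comap, Ideal.span_le]
          intro a ha
          rcases eq_or_ne a g with rfl | hne
          · rw [SetLike.mem_coe, Ideal.mem_comap, Ideal.Quotient.eq_zero_iff_mem.2 (Ideal.mem_span_singleton_self a)]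
            exact zero_mem _
          · exact Ideal.mem_map_of_mem _ (Ideal.subset_span (Finset.mem_erase.2 ⟨hne, ha⟩))
        · ext z
          obtain ⟨a, rfl⟩ := Ideal.Quotient.mk_surjective z
          constructor
          · intro hz
            obtain ⟨b, hb, hba⟩ := (Ideal.mem_map_iff_of_surjective _ Ideal.Quotient.mk_surjective).1 hz
            rw [← hba]
            exact hb
          · intro hz
            exact Ideal.mem_map_of_mem _ hz

/-- If a quotient by a regular sequence is formally smooth, so is the local ring. -/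
theorem formallySmooth_of_regular {L B : Type u} [CommRing L] [CommRing B] [IsLocalRing L] [Nontrivial B]
    [Algebra A L] [Algebra.FormallySmooth A L] [Algebra A B] [Algebra L B] [IsScalarTower A L B]
    (hsurj : Function.Surjective (algebraMap L B)) (hfg : (RingHom.ker (algebraMap L B)).FG) (rs : List B)
    (hmem : ∀ r ∈ rs, ¬ IsUnit r) (hreg : IsWeaklyRegular B rs)
    (hC : Algebra.FormallySmooth A (B ⧸ Ideal.ofList rs)) : Algebra.FormallySmooth A B := by
  obtain ⟨S, hS⟩ := hfg
  exact formallySmooth_of_regular_aux S.card L B hsurj S le_rfl hS rs hmem hreg hC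

end Groth.Agent.H4CI.RegSmooth
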