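import Mathlib
import Groth.Agent.H4CI.AdaptedCoord

/-!
# Étale slices through a point with separable residue extension
-/

set_option autoImplicit false
set_option linter.style.haveILetI false
set_option backward.isDefEq.respectTransparency false
set_option backward.isDefEq.respectTransparency.types false

universe u

open TensorProduct IsLocalRing

namespace Groth.Agent.H4CI.SepSlice

/-- The zero locus of étale coordinates is étale over the base. -/
theorem etale_quotient_of_coord {A B : Type u} [CommRing A] [CommRing B] [Algebra A B] {r : ℕ} (g : Fin r → B)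
    (h : (MvPolynomial.aeval (R := A) g).toRingHom.Etale) : Algebra.Etale A (B ⧸ Ideal.span (Set.range g)) := by
  let M := MvPolynomial (Fin r) A
  let ev : M →ₐ[A] B := MvPolynomial.aeval g
  letI : Algebra M B := ev.toRingHom.toAlgebra
  haveI : IsScalarTower A M B := IsScalarTower.of_algebraMap_eq fun x => (ev.commutes x).symm
  haveI : Algebra.Etale M B := h
  haveI : Algebra.FinitePresentation A B := Algebra.FinitePresentation.trans A M B
  haveI : Algebra.FinitePresentation A (B ⧸ Ideal.span (Set.range g)) :=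
    Algebra.FinitePresentation.quotient (Submodule.fg_span (Set.finite_range g))
  refine ⟨?_, inferInstance⟩
  rw [Algebra.FormallyEtale.iff_comp_bijective]
  intro R _ _ I hI
  let C := B ⧸ Ideal.span (Set.range g)
  let ev0 : M →ₐ[A] R := MvPolynomial.aeval fun _ => 0
  letI : Algebra M R := ev0.toRingHom.toAlgebra
  haveI : IsScalarTower A M R := IsScalarTower.of_algebraMap_eq fun x => (ev0.commutes x).symm
  have key := Algebra.FormallyEtale.comp_bijective M B I hI
  have hX : ∀ (T : Type u) [CommRing T] [Algebra A T] (π : R →ₐ[A] T) (φ : C →ₐ[A] T) (x : M),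
      φ (Ideal.Quotient.mk _ (ev x)) = π (ev0 x) := fun T _ _ π φ x => by
    have : (φ.comp ((Ideal.Quotient.mkₐ A _).comp ev)) = π.comp ev0 := MvPolynomial.algHom_ext fun i => by
      show φ (Ideal.Quotient.mk _ (ev (MvPolynomial.X i))) = π (ev0 (MvPolynomial.X i))
      rw [show ev (MvPolynomial.X i) = g i from MvPolynomial.aeval_X g i,
        show ev0 (MvPolynomial.X i) = 0 from MvPolynomial.aeval_X _ i,
        Ideal.Quotient.eq_zero_iff_mem.2 (Ideal.subset_span ⟨i, rfl⟩ : g i ∈ Ideal.span (Set.range g)), map_zero, map_zero]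
    exact AlgHom.congr_fun this x
  constructor
  · intro φ₁ φ₂ e
    let L : (C →ₐ[A] R) → (B →ₐ[M] R) := fun φ =>
      { (φ : C →+* R).comp (Ideal.Quotient.mk _) with commutes' := fun x => hX R (AlgHom.id A R) φ x }
    have h1 : L φ₁ = L φ₂ := key.1 (AlgHom.ext fun b => AlgHom.congr_fun e (Ideal.Quotient.mk _ b))
    refine AlgHom.ext fun c => ?_
    obtain ⟨b, rfl⟩ := Ideal.Quotient.mk_surjective c
    exact AlgHom.congr_fun h1 b
  · intro ψ
    obtain ⟨l, hl⟩ := key.2
      { (ψ : C →+* R ⧸ I).comp (Ideal.Quotient.mk _) with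
        commutes' := fun x => hX (R ⧸ I) (Ideal.Quotient.mkₐ A I) ψ x }
    have hlg : ∀ a ∈ Ideal.span (Set.range g), (l.restrictScalars A) a = 0 := by
      intro a ha
      have : Ideal.span (Set.range g) ≤ RingHom.ker (l : B →+* R) := by
        rw [Ideal.span_le]
        rintro _ ⟨i, rfl⟩
        show l (g i) = 0
        rw [show g i = algebraMap M B (MvPolynomial.X i) from (MvPolynomial.aeval_X g i).symm, l.commutes]
        exact MvPolynomial.aeval_X _ i
      exact this ha
    refine ⟨Ideal.Quotient.liftₐ _ (l.restrictScalars A) hlg, AlgHom.ext fun c => ?_⟩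
    obtain ⟨b, rfl⟩ := Ideal.Quotient.mk_surjective c
    exact AlgHom.congr_fun hl b

/-- With formally unramified residue field the differentials of a prime generate. -/
theorem span_D_eq_top {A B O κ : Type u} [CommRing A] [CommRing B] [CommRing O] [CommRing κ]
    [Algebra A B] [Algebra B O] [Algebra A O] [IsScalarTower A B O] [IsLocalRing O]
    [Algebra.EssFiniteType A O] (q : Ideal B) [q.IsPrime] [IsLocalization.AtPrime O q]
    [Algebra O κ] [Algebra A κ] [IsScalarTower A O κ] (hκ : Function.Surjective (algebraMap O κ))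
    (hker : RingHom.ker (algebraMap O κ) = maximalIdeal O) [Algebra.FormallyUnramified A κ] :
    Submodule.span O (Set.range fun b : q => KaehlerDifferential.D A O (algebraMap B O b.1)) = ⊤ := by
  set N := Submodule.span O (Set.range fun b : q => KaehlerDifferential.D A O (algebraMap B O b.1))
  haveI : Module.Finite O (Ω[O⁄A]) := inferInstance
  have hm : ∀ h ∈ maximalIdeal O,
      KaehlerDifferential.D A O h ∈ N ⊔ maximalIdeal O • (⊤ : Submodule O Ω[O⁄A]) := by
    intro h hh
    obtain ⟨b, s, rfl⟩ := IsLocalization.exists_mk'_eq q.primeCompl h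
    have hb : b ∈ q := (IsLocalization.AtPrime.mk'_mem_maximal_iff O q b s).1 hh
    obtain ⟨u, hu⟩ := IsLocalization.map_units O s
    have e := congrArg (KaehlerDifferential.D A O) (IsLocalization.mk'_spec O b s)
    rw [Derivation.leibniz, ← hu] at e
    have e2 : KaehlerDifferential.D A O (IsLocalization.mk' O b s) =
        (↑u⁻¹ : O) • (KaehlerDifferential.D A O (algebraMap B O b) -
          IsLocalization.mk' O b s • KaehlerDifferential.D A O (u : O)) := by
      rw [← e, add_sub_cancel_left, smul_smul, Units.inv_mul, one_smul]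
    rw [e2]
    exact Submodule.smul_mem _ _ (sub_mem (Submodule.mem_sup_left (Submodule.subset_span ⟨⟨b, hb⟩, rfl⟩))
      (Submodule.mem_sup_right (Submodule.smul_mem_smul hh trivial)))
  refine eq_top_iff.2 (Submodule.le_of_le_smul_of_le_jacobson_bot Module.Finite.fg_top
    (maximalIdeal_le_jacobson _) fun x _ => ?_)
  have hz : KaehlerDifferential.mapBaseChange A O κ ((1 : κ) ⊗ₜ[O] x) = 0 := Subsingleton.elim _ _
  obtain ⟨y, hy⟩ := ((KaehlerDifferential.exact_kerCotangentToTensor_mapBaseChange A O κ hκ) _).1 hz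
  obtain ⟨⟨h, hh⟩, rfl⟩ := Ideal.toCotangent_surjective _ y
  rw [KaehlerDifferential.kerCotangentToTensor_toCotangent] at hy
  have h0 : (Algebra.linearMap O κ).rTensor Ω[O⁄A] ((1 : O) ⊗ₜ (x - KaehlerDifferential.D A O h)) = 0 := by
    rw [LinearMap.rTensor_tmul, Algebra.linearMap_apply, map_one, tmul_sub, hy, sub_self]
  obtain ⟨w, hw⟩ := ((rTensor_exact Ω[O⁄A]
    (LinearMap.exact_subtype_ker_map (Algebra.linearMap O κ)) hκ) _).1 h0
  have h1 : x - KaehlerDifferential.D A O h ∈ maximalIdeal O • (⊤ : Submodule O Ω[O⁄A]) := by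
    have e := congrArg (TensorProduct.lid O Ω[O⁄A]) hw
    rw [TensorProduct.lid_tmul, one_smul] at e
    rw [← e]
    clear hw e
    induction w using TensorProduct.induction_on with
    | zero => rw [map_zero, map_zero]; exact zero_mem _
    | add p p' hp hp' => rw [map_add, map_add]; exact add_mem hp hp'
    | tmul p m =>
      rw [LinearMap.rTensor_tmul, TensorProduct.lid_tmul]
      exact Submodule.smul_mem_smul (hker ▸ p.2) trivial
  rw [show x = (x - KaehlerDifferential.D A O h) + KaehlerDifferential.D A O h from (sub_add_cancel _ _).symm]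
  exact add_mem (Submodule.mem_sup_right h1) (hm h (hker ▸ hh))

/-- An étale slice through a prime, meeting its fibre only there. -/
theorem exists_slice {A B O κ : Type u} [CommRing A] [CommRing B] [CommRing O] [CommRing κ]
    [Algebra A B] [Algebra.Smooth A B] [Algebra B O] [Algebra A O] [IsScalarTower A B O] [IsLocalRing O]
    (q : Ideal B) [q.IsPrime] [IsLocalization.AtPrime O q]
    [Algebra O κ] [Algebra A κ] [IsScalarTower A O κ] (hκ : Function.Surjective (algebraMap O κ))
    (hker : RingHom.ker (algebraMap O κ) = maximalIdeal O) [Algebra.FormallyUnramified A κ] :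
    ∃ (f : B) (I : Ideal (Localization.Away f)) (h : Localization.Away f ⧸ I)
      (Q : Ideal (Localization.Away h)) (_ : Q.IsPrime),
      Algebra.Etale A (Localization.Away h) ∧
      Q.comap ((algebraMap (Localization.Away f ⧸ I) (Localization.Away h)).comp
        ((Ideal.Quotient.mk I).comp (algebraMap B (Localization.Away f)))) = q ∧
      ∀ P : Ideal (Localization.Away h), P.IsPrime → P.under A = q.under A → P = Q := by
  classical
  haveI : Algebra.EssFiniteType B O := Algebra.EssFiniteType.of_isLocalization _ q.primeCompl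
  haveI : Algebra.EssFiniteType A O := Algebra.EssFiniteType.comp A B O
  haveI : Algebra.FormallySmooth B O := Algebra.FormallySmooth.of_isLocalization q.primeCompl
  haveI : Algebra.FormallySmooth A O := Algebra.FormallySmooth.comp A B O
  haveI : Module.FinitePresentation O (Ω[O⁄A]) := Module.finitePresentation_of_projective _ _
  obtain ⟨ι, a, β, hβ⟩ := Module.exists_basis_of_span_of_flat
    (fun b : q => KaehlerDifferential.D A O (algebraMap B O b.1)) (span_D_eq_top q hκ hker)
  haveI : Finite ι := Module.Finite.finite_basis β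
  obtain ⟨r, ⟨ε⟩⟩ := Finite.exists_equiv_fin ι
  let c : Fin r → B := fun i => (a (ε.symm i)).1
  have hβ' : ∀ i, β.reindex ε i = KaehlerDifferential.D A O (algebraMap B O (c i)) := fun i => by
    rw [Module.Basis.reindex_apply, hβ]
  let lp : Ω[B⁄A] →ₗ[B] Ω[O⁄A] := KaehlerDifferential.map A A B O
  let e : (Fin r →₀ B) →ₗ[B] Ω[B⁄A] :=
    Finsupp.linearCombination B fun i => KaehlerDifferential.D A B (c i)
  let l₁ : (Fin r →₀ B) →ₗ[B] (Fin r →₀ O) := Finsupp.mapRange.linearMap (Algebra.linearMap B O)
  let eₚ : (Fin r →₀ O) →ₗ[O] Ω[O⁄A] := IsLocalizedModule.mapExtendScalars q.primeCompl l₁ lp O e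
  have he : eₚ = (β.reindex ε).repr.symm := by
    ext i
    trans IsLocalizedModule.map q.primeCompl l₁ lp e <| l₁ <| Finsupp.single i 1
    · simp [eₚ, -IsLocalizedModule.map_apply, l₁]
    · simp [lp, e, ← hβ']
  have heₚ : Function.Bijective eₚ := he ▸ (β.reindex ε).repr.symm.bijective
  obtain ⟨f, hf, hbij⟩ := Module.FinitePresentation.exists_notMem_bijective e q l₁ lp heₚ
  let Bf := Localization.Away f
  haveI : Algebra.Smooth B Bf := ⟨Algebra.FormallySmooth.of_isLocalization (Submonoid.powers f),
    IsLocalization.Away.finitePresentation f⟩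
  haveI : Algebra.Smooth A Bf := Algebra.Smooth.comp A B Bf
  let l₁f : (Fin r →₀ B) →ₗ[B] (Fin r →₀ Bf) := Finsupp.mapRange.linearMap (Algebra.linearMap B _)
  let l₂f : Ω[B⁄A] →ₗ[B] Ω[Bf⁄A] := KaehlerDifferential.map A A B Bf
  rw [← IsLocalizedModule.map_bijective_iff_localizedModuleMap_bijective l₁f l₂f] at hbij
  let ef : (Fin r →₀ Bf) →ₗ[Bf] Ω[Bf⁄A] :=
    IsLocalizedModule.mapExtendScalars (Submonoid.powers f) l₁f l₂f Bf e
  let βf : Module.Basis (Fin r) Bf (Ω[Bf⁄A]) := .ofRepr (LinearEquiv.ofBijective ef hbij).symm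
  let g : Fin r → Bf := fun i => algebraMap B Bf (c i)
  have het : (MvPolynomial.aeval (R := A) g).toRingHom.Etale := by
    refine AdaptedCoord.etale_aeval_of_basis g βf fun i => ?_
    simp +zetaDelta [IsLocalizedModule.map_linearCombination]
  let I : Ideal Bf := Ideal.span (Set.range g)
  haveI : Algebra.Etale A (Bf ⧸ I) := etale_quotient_of_coord g het
  let qf : Ideal Bf := q.map (algebraMap B Bf)
  have hdisj : Disjoint (Submonoid.powers f : Set B) (q : Set B) := by
    rw [Set.disjoint_left]
    rintro _ ⟨n, rfl⟩ hm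
    exact hf ((‹q.IsPrime›).mem_of_pow_mem n hm)
  haveI : qf.IsPrime := IsLocalization.isPrime_of_isPrime_disjoint (Submonoid.powers f) Bf q inferInstance hdisj
  have hqf : qf.comap (algebraMap B Bf) = q :=
    IsLocalization.comap_map_of_isPrime_disjoint (Submonoid.powers f) Bf inferInstance hdisj
  have hIq : I ≤ qf := Ideal.span_le.2 (by rintro _ ⟨i, rfl⟩; exact Ideal.mem_map_of_mem _ (a (ε.symm i)).2)
  let QI : Ideal (Bf ⧸ I) := qf.map (Ideal.Quotient.mk I)
  haveI : QI.IsPrime := Ideal.map_isPrime_of_surjective Ideal.Quotient.mk_surjective (by rwa [Ideal.mk_ker])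
  have hQI : QI.comap ((Ideal.Quotient.mk I).comp (algebraMap B Bf)) = q := by
    rw [← Ideal.comap_comap]
    show Ideal.comap _ ((qf.map (Ideal.Quotient.mk I)).comap (Ideal.Quotient.mk I)) = q
    rw [Ideal.comap_map_of_surjective _ Ideal.Quotient.mk_surjective, ← RingHom.ker_eq_comap_bot, Ideal.mk_ker,
      sup_eq_left.2 hIq, hqf]
  have hQIA : QI.under A = q.under A := by
    show QI.comap (algebraMap A (Bf ⧸ I)) = q.comap (algebraMap A B)
    rw [← hQI, Ideal.comap_comap]
    congr 1
  haveI : Algebra.QuasiFinite A (Bf ⧸ I) := inferInstance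
  let T := ((q.under A).primesOver (Bf ⧸ I)) \ {QI}
  have hT : T.Finite := (Algebra.QuasiFinite.finite_primesOver (q.under A)).sdiff
  have hT' : ∀ P ∈ hT.toFinset, ∃ x ∈ P, x ∉ QI := by
    intro P hP
    obtain ⟨⟨hPp, hPo⟩, hne⟩ := hT.mem_toFinset.1 hP
    refine SetLike.not_le_iff_exists.1 fun hle => hne ?_
    haveI := hPp
    exact Algebra.QuasiFinite.eq_of_le_of_under_eq P QI hle (hPo.over.symm.trans hQIA.symm)
  choose x hx hxn using hT'
  let h : Bf ⧸ I := ∏ P : hT.toFinset, x P.1 P.2
  have hh : h ∉ QI := fun h' => by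
    obtain ⟨P, -, hP⟩ := ((‹QI.IsPrime›).prod_mem_iff).1 h'
    exact hxn P.1 P.2 hP
  let Ch := Localization.Away h
  have hdisj' : Disjoint (Submonoid.powers h : Set (Bf ⧸ I)) (QI : Set (Bf ⧸ I)) := by
    rw [Set.disjoint_left]
    rintro _ ⟨n, rfl⟩ hm
    exact hh ((‹QI.IsPrime›).mem_of_pow_mem n hm)
  let Q : Ideal Ch := QI.map (algebraMap _ Ch)
  have hQp : Q.IsPrime := IsLocalization.isPrime_of_isPrime_disjoint (Submonoid.powers h) Ch QI inferInstance hdisj'
  have hQc : Q.comap (algebraMap _ Ch) = QI :=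
    IsLocalization.comap_map_of_isPrime_disjoint (Submonoid.powers h) Ch inferInstance hdisj'
  haveI : Algebra.Etale (Bf ⧸ I) Ch := Algebra.Etale.of_isLocalizationAway h
  refine ⟨f, I, h, Q, hQp, Algebra.Etale.comp A (Bf ⧸ I) Ch, ?_, fun P hP hPA => ?_⟩
  · rw [← Ideal.comap_comap, hQc, hQI]
  · let P' : Ideal (Bf ⧸ I) := P.comap (algebraMap _ Ch)
    haveI : P'.IsPrime := Ideal.comap_isPrime _ _
    have hP'A : P'.under A = q.under A := by
      rw [← hPA]
      show Ideal.comap _ (P.comap _) = _
      rw [Ideal.comap_comap, ← IsScalarTower.algebraMap_eq]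
    have hP' : P' = QI := by
      by_contra hne
      have hmem : P' ∈ hT.toFinset := hT.mem_toFinset.2 ⟨⟨inferInstance, ⟨hP'A.symm⟩⟩, hne⟩
      have h1 : h ∈ P' := by
        obtain ⟨d, hd⟩ : x P' hmem ∣ h :=
          Finset.dvd_prod_of_mem (fun P : hT.toFinset => x P.1 P.2) (Finset.mem_univ ⟨P', hmem⟩)
        rw [hd]
        exact P'.mul_mem_right _ (hx P' hmem)
      exact hP.ne_top (Ideal.eq_top_of_isUnit_mem _ h1 (IsLocalization.Away.algebraMap_isUnit h))
    have := IsLocalization.map_comap (Submonoid.powers h) Ch P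
    rw [← this]
    show P'.map _ = _
    rw [hP']

end Groth.Agent.H4CI.SepSlice
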