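import Groth.Agent.H4CI.SliceRing

/-!
# Functions with nonvanishing differential at a point
-/

set_option autoImplicit false
set_option linter.style.haveILetI false
set_option backward.isDefEq.respectTransparency false
set_option backward.isDefEq.respectTransparency.types false

universe u

open TensorProduct KaehlerDifferential IsLocalRing

namespace Groth.Agent.H4CI.Slice

theorem tmul_eq_zero_of_mem {R M : Type u} [CommRing R] [IsLocalRing R] [AddCommGroup M] [Module R M] {w : M}
    (hw : w ∈ (maximalIdeal R • ⊤ : Submodule R M)) : (1 : ResidueField R) ⊗ₜ[R] w = 0 := by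
  induction hw using Submodule.smul_induction_on' with
  | smul r hr y _ =>
    rw [TensorProduct.tmul_smul, TensorProduct.smul_tmul', Algebra.smul_def,
      show algebraMap R (ResidueField R) r = 0 from Ideal.Quotient.eq_zero_iff_mem.2 hr, zero_mul,
      TensorProduct.zero_tmul]
  | add a _ b _ ha hb => rw [TensorProduct.tmul_add, ha, hb, add_zero]

theorem mem_of_tmul_eq_zero {R M : Type u} [CommRing R] [IsLocalRing R] [AddCommGroup M] [Module R M] {w : M}
    (hw : (1 : ResidueField R) ⊗ₜ[R] w = 0) : w ∈ (maximalIdeal R • ⊤ : Submodule R M) := by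
  have h := congrArg (TensorProduct.quotTensorEquivQuotSMul M (maximalIdeal R)) hw
  rw [map_zero] at h
  rw [← Submodule.Quotient.mk_eq_zero]
  refine Eq.trans ?_ h
  refine Eq.trans ?_ (TensorProduct.quotTensorEquivQuotSMul_mk_tmul (maximalIdeal R) 1 w).symm
  rw [one_smul]

/-- A nonvanishing differential at a prime is seen by a functional. -/
theorem exists_functional_of_ne_zero {A B As O : Type u} [CommRing A] [CommRing B] [CommRing As] [CommRing O]
    [IsLocalRing O] [Algebra A B] [Algebra.Smooth A B] [Algebra A As] [Algebra A O] [Algebra As O] [Algebra B O]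
    [IsScalarTower A As O] [IsScalarTower A B O] (h₀ : B)
    (hd : (1 : ResidueField O) ⊗ₜ[O] (D As O (algebraMap B O h₀)) ≠ 0) :
    ∃ φ : Ω[B⁄A] →ₗ[B] B, φ (D A B h₀) ∉ (maximalIdeal O).comap (algebraMap B O) := by
  by_contra! hall
  apply hd
  obtain ⟨s, hs⟩ := (Module.projective_def' (R := B) (P := Ω[B⁄A])).1 inferInstance
  let p := (maximalIdeal O).comap (algebraMap B O)
  have h1 : D A B h₀ ∈ (p • ⊤ : Submodule B Ω[B⁄A]) := by
    have he : Finsupp.linearCombination B id (s (D A B h₀)) = D A B h₀ := LinearMap.congr_fun hs _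
    rw [← he, Finsupp.linearCombination_apply, Finsupp.sum]
    refine Submodule.sum_mem _ fun w _ => Submodule.smul_mem_smul ?_ Submodule.mem_top
    exact hall ((Finsupp.lapply w).comp s)
  refine tmul_eq_zero_of_mem ?_
  have h2 : ∀ z ∈ (p • ⊤ : Submodule B Ω[B⁄A]),
      KaehlerDifferential.map A As B O z ∈ (maximalIdeal O • ⊤ : Submodule O Ω[O⁄As]) := fun z hz => by
    induction hz using Submodule.smul_induction_on' with
    | smul r hr y _ =>
      rw [map_smul, ← algebraMap_smul O r]
      exact Submodule.smul_mem_smul hr Submodule.mem_top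
    | add a _ b _ ha hb => rw [map_add]; exact add_mem ha hb
  have := h2 _ h1
  rwa [map_D] at this

/-- The kernel to the differentials of the residue field is spanned by differentials of the maximal ideal. -/
theorem exists_of_ker_ne_bot {As O : Type u} [CommRing As] [CommRing O] [IsLocalRing O] [Algebra As O]
    [Algebra As (ResidueField O)] [IsScalarTower As O (ResidueField O)]
    (hker : LinearMap.ker (mapBaseChange As O (ResidueField O)) ≠ ⊥) :
    ∃ h ∈ maximalIdeal O, (1 : ResidueField O) ⊗ₜ[O] D As O h ≠ 0 := by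
  by_contra! hall
  refine hker (eq_bot_iff.2 fun t ht => ?_)
  obtain ⟨c, rfl⟩ := ((exact_kerCotangentToTensor_mapBaseChange As O (ResidueField O)
    residue_surjective) t).1 ht
  obtain ⟨z, rfl⟩ := Ideal.toCotangent_surjective _ c
  rw [Submodule.mem_bot, kerCotangentToTensor_toCotangent]
  refine hall z.1 ?_
  have : algebraMap O (ResidueField O) z.1 = 0 := z.2
  exact Ideal.Quotient.eq_zero_iff_mem.1 this

/-- Separable residue extension and a nonzero maximal ideal of the fibre give a nonvanishing differential. -/
theorem exists_of_formallySmooth {As O : Type u} [CommRing As] [CommRing O] [IsLocalRing As] [IsLocalRing O]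
    [Algebra As O] [IsLocalHom (algebraMap As O)] [Algebra.EssFiniteType As O]
    [Algebra (ResidueField As) (ResidueField O)]
    (hres : ∀ a, algebraMap (ResidueField As) (ResidueField O) (residue As a) = residue O (algebraMap As O a))
    [Algebra.FormallySmooth (ResidueField As) (ResidueField O)]
    (hmax : maximalIdeal O ≠ (maximalIdeal As).map (algebraMap As O)) :
    ∃ h ∈ maximalIdeal O, (1 : ResidueField O) ⊗ₜ[O] D As O h ≠ 0 := by
  let K := (maximalIdeal As).map (algebraMap As O)
  let J := maximalIdeal O ^ 2 ⊔ K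
  have hK : K ≤ maximalIdeal O := map_maximalIdeal_le (algebraMap As O)
  -- an element of the maximal ideal outside `J`
  obtain ⟨h, hhm, hhJ⟩ : ∃ h ∈ maximalIdeal O, h ∉ J := by
    by_contra! hall
    refine hmax (le_antisymm ?_ hK)
    let R := O ⧸ K
    haveI : IsNoetherianRing R := by
      letI : Algebra (As ⧸ maximalIdeal As) R :=
        (Ideal.quotientMap K (algebraMap As O) Ideal.le_comap_map).toAlgebra
      haveI : IsScalarTower As (As ⧸ maximalIdeal As) R := IsScalarTower.of_algebraMap_eq fun a => rfl
      haveI : Algebra.EssFiniteType O R := inferInstance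
      haveI : Algebra.EssFiniteType As R := Algebra.EssFiniteType.comp As O R
      haveI : Algebra.EssFiniteType (As ⧸ maximalIdeal As) R := Algebra.EssFiniteType.of_comp As _ R
      letI := Ideal.Quotient.field (maximalIdeal As)
      exact Algebra.EssFiniteType.isNoetherianRing (As ⧸ maximalIdeal As) R
    have hne : K ≠ ⊤ := fun ht => (maximalIdeal.isMaximal O).ne_top (top_le_iff.1 (ht ▸ hK))
    haveI : Nontrivial R := Ideal.Quotient.nontrivial_iff.2 hne
    haveI : IsLocalRing R := .of_surjective' _ Ideal.Quotient.mk_surjective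
    let mR : Ideal R := (maximalIdeal O).map (Ideal.Quotient.mk K)
    have hbot : mR = ⊥ := by
      refine Submodule.eq_bot_of_le_smul_of_le_jacobson_bot mR mR (IsNoetherian.noetherian _) ?_ ?_
      · rw [smul_eq_mul, ← Ideal.map_mul, ← pow_two]
        refine (Ideal.map_mono hall).trans (le_of_eq ?_)
        rw [Ideal.map_sup, Ideal.map_quotient_self, sup_bot_eq]
      · haveI : IsLocalHom (Ideal.Quotient.mk K) := IsLocalHom.of_surjective _ Ideal.Quotient.mk_surjective
        exact (map_maximalIdeal_le (Ideal.Quotient.mk K)).trans (maximalIdeal_le_jacobson ⊥)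
    intro z hz
    have hz' : Ideal.Quotient.mk K z ∈ mR := Ideal.mem_map_of_mem _ hz
    rw [hbot, Submodule.mem_bot] at hz'
    exact Ideal.Quotient.eq_zero_iff_mem.1 hz'
  let Q := O ⧸ J
  have hKJ : K ≤ J := le_sup_right
  have hJm : J ≤ maximalIdeal O := sup_le (Ideal.pow_le_self two_ne_zero) hK
  letI : Algebra (ResidueField As) Q := (Ideal.Quotient.lift (maximalIdeal As)
    ((Ideal.Quotient.mk J).comp (algebraMap As O)) fun a ha =>
      Ideal.Quotient.eq_zero_iff_mem.2 (hKJ (Ideal.mem_map_of_mem _ ha))).toAlgebra
  have hQ : ∀ a, algebraMap (ResidueField As) Q (residue As a) = Ideal.Quotient.mk J (algebraMap As O a) :=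
    fun a => rfl
  let π : Q →ₐ[ResidueField As] ResidueField O :=
    { Ideal.Quotient.factor hJm with
      commutes' := fun c => by
        obtain ⟨a, rfl⟩ := residue_surjective c
        show Ideal.Quotient.factor hJm (algebraMap _ Q _) = _
        rw [hQ, hres]
        exact Ideal.Quotient.factor_mk hJm _ }
  have hπ : Function.Surjective π := fun c => by
    obtain ⟨a, rfl⟩ := residue_surjective c
    exact ⟨Ideal.Quotient.mk J a, rfl⟩
  have hπk : ∀ z, π z = 0 → ∃ a ∈ maximalIdeal O, Ideal.Quotient.mk J a = z := fun z hz => by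
    obtain ⟨a, rfl⟩ := Ideal.Quotient.mk_surjective z
    exact ⟨a, Ideal.Quotient.eq_zero_iff_mem.1 (hz : residue O a = 0), rfl⟩
  have hsq : ∀ z w, π z = 0 → π w = 0 → z * w = 0 := fun z w hz hw => by
    obtain ⟨a, ha, rfl⟩ := hπk z hz
    obtain ⟨b, hb, rfl⟩ := hπk w hw
    rw [← map_mul]
    exact Ideal.Quotient.eq_zero_iff_mem.2 (Submodule.mem_sup_left (by rw [pow_two]; exact Ideal.mul_mem_mul ha hb))
  have hnil : IsNilpotent (RingHom.ker (π : Q →+* ResidueField O)) := by
    refine ⟨2, ?_⟩
    rw [pow_two, Ideal.zero_eq_bot, eq_bot_iff, Ideal.mul_le]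
    exact fun z hz w hw => (Submodule.mem_bot _).2 (hsq z w hz hw)
  let σ := Algebra.FormallySmooth.liftOfSurjective (AlgHom.id (ResidueField As) (ResidueField O)) π hπ hnil
  have hσ : ∀ c, π (σ c) = c := fun c =>
    Algebra.FormallySmooth.liftOfSurjective_apply _ π hπ hnil c
  let δ : O → Q := fun r => Ideal.Quotient.mk J r - σ (residue O r)
  have hδπ : ∀ r, π (δ r) = 0 := fun r => by
    show π (Ideal.Quotient.mk J r - σ (residue O r)) = 0
    rw [map_sub, hσ]
    exact sub_eq_zero.2 rfl
  let δl : O →ₗ[As] Q :=
    { toFun := δ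
      map_add' := fun a b => by simp only [δ, map_add]; ring
      map_smul' := fun c a => by
        simp only [δ, Algebra.smul_def, map_mul, RingHom.id_apply, ← hres, AlgHom.commutes, hQ]
        show _ = Ideal.Quotient.mk J (algebraMap As O c) * _
        ring }
  let dd : Derivation As O Q := Derivation.mk' δl fun a b => by
    show δ (a * b) = a • δ b + b • δ a
    rw [Algebra.smul_def, Algebra.smul_def]
    show δ (a * b) = Ideal.Quotient.mk J a * δ b + Ideal.Quotient.mk J b * δ a
    have := hsq (δ a) (δ b) (hδπ a) (hδπ b)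
    simp only [δ, map_mul] at this ⊢
    linear_combination (-1 : Q) * this
  have hL : ∀ w ∈ (maximalIdeal O • ⊤ : Submodule O Ω[O⁄As]), dd.liftKaehlerDifferential w = 0 := fun w hw => by
    have hrange : ∀ y, π (dd.liftKaehlerDifferential y) = 0 := fun y => by
      have hy : y ∈ Submodule.span O (Set.range (D As O)) := by rw [span_range_derivation]; trivial
      induction hy using Submodule.span_induction with
      | mem y hy =>
        obtain ⟨r, rfl⟩ := hy
        rw [Derivation.liftKaehlerDifferential_comp_D]
        exact hδπ r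
      | zero => rw [map_zero, map_zero]
      | add a b _ _ ha hb => rw [map_add, map_add, ha, hb, add_zero]
      | smul c a _ ha =>
        rw [map_smul, Algebra.smul_def, map_mul, ha, mul_zero]
    induction hw using Submodule.smul_induction_on' with
    | smul r hr y _ =>
      rw [map_smul, Algebra.smul_def]
      exact hsq _ _ (Ideal.Quotient.eq_zero_iff_mem.2 hr : residue O r = 0) (hrange y)
    | add a _ b _ ha hb => rw [map_add, ha, hb, add_zero]
  refine ⟨h, hhm, fun h0 => hhJ (Ideal.Quotient.eq_zero_iff_mem.1 ?_)⟩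
  have h1 := hL _ (mem_of_tmul_eq_zero h0)
  rw [Derivation.liftKaehlerDifferential_comp_D] at h1
  have h2 : δ h = 0 := h1
  simpa [δ, show residue O h = 0 from Ideal.Quotient.eq_zero_iff_mem.2 hhm] using h2

end Groth.Agent.H4CI.Slice
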