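import Mathlib
import Groth.Agent.BertiniSec.Affine

/-!
# Cutting a smooth algebra by an element with nonvanishing differential
-/

set_option autoImplicit false
set_option linter.style.haveILetI false
set_option backward.isDefEq.respectTransparency false
set_option backward.isDefEq.respectTransparency.types false

universe u

open TensorProduct KaehlerDifferential

namespace Groth.Agent.H4CI.Slice

variable {A B : Type u} [CommRing A] [CommRing B] [Algebra A B]

/-- An element whose differential is a direct summand defines a smooth map to the line. -/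
theorem isSMulRegular_of_functional [Algebra.Smooth A B] (h : B) (φ : Ω[B⁄A] →ₗ[B] B)
    (hu : φ (D A B h) = 1) : h ∈ nonZeroDivisors B := by
  let M := Polynomial A
  let ev : M →ₐ[A] B := Polynomial.aeval h
  letI : Algebra M B := ev.toRingHom.toAlgebra
  haveI : IsScalarTower A M B := IsScalarTower.of_algebraMap_eq fun r => (ev.commutes r).symm
  -- the differential of the line
  let d : Derivation A M M := Polynomial.derivative'
  let r : Ω[B⁄A] →ₗ[B] B ⊗[M] Ω[M⁄A] :=
    (LinearMap.toSpanSingleton B _ ((1 : B) ⊗ₜ[M] D A M Polynomial.X)).comp φ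
  have hspan : ∀ w : Ω[M⁄A], ∃ a : M, w = a • D A M Polynomial.X := fun w => by
    refine ⟨KaehlerDifferential.polynomialEquiv A w, ?_⟩
    apply (KaehlerDifferential.polynomialEquiv A).injective
    rw [map_smul, KaehlerDifferential.polynomialEquiv_D, Polynomial.derivative_X, smul_eq_mul, mul_one]
  have hinj : Function.Injective (KaehlerDifferential.mapBaseChange A M B) := by
    refine Function.LeftInverse.injective (g := r) fun t => ?_
    induction t using TensorProduct.induction_on with
    | zero => simp
    | tmul b w =>
      obtain ⟨a, rfl⟩ := hspan w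
      rw [TensorProduct.tmul_smul]
      rw [← algebraMap_smul B a (b ⊗ₜ[M] D A M Polynomial.X : B ⊗[M] Ω[M⁄A]), map_smul, map_smul,
        mapBaseChange_tmul, map_smul, map_D, show algebraMap M B Polynomial.X = h from Polynomial.aeval_X h,
        LinearMap.comp_apply, hu, LinearMap.toSpanSingleton_apply, one_smul, TensorProduct.smul_tmul', smul_eq_mul,
        mul_one]
    | add p q hp hq => rw [map_add, map_add, hp, hq]
  haveI hH : Subsingleton (Algebra.H1Cotangent M B) := by
    refine subsingleton_of_forall_eq 0 fun x => ?_
    have hx : Algebra.H1Cotangent.δ A M B x = 0 := hinj (by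
      rw [map_zero]
      exact (Algebra.H1Cotangent.exact_δ_mapBaseChange A M B _).2 ⟨x, rfl⟩)
    obtain ⟨y, rfl⟩ := (Algebra.H1Cotangent.exact_map_δ A M B x).1 hx
    rw [Subsingleton.elim y 0, map_zero]
  haveI : Module.Projective B Ω[B⁄M] := by
    let P : Ω[B⁄A] →ₗ[B] Ω[B⁄A] := LinearMap.id - (LinearMap.toSpanSingleton B _ (D A B h)).comp φ
    let π : Ω[B⁄A] →ₗ[B] Ω[B⁄M] := KaehlerDifferential.map A M B B
    have hπh : π (D A B h) = 0 := by
      simp only [π, map_D, Algebra.algebraMap_self, RingHom.id_apply]
      rw [show h = algebraMap M B Polynomial.X from (Polynomial.aeval_X h).symm, Derivation.map_algebraMap]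
    have hker : LinearMap.ker π ≤ LinearMap.ker P := fun w hw => by
      obtain ⟨t, rfl⟩ := ((exact_mapBaseChange_map A M B) w).1 hw
      clear hw
      rw [LinearMap.mem_ker]
      induction t using TensorProduct.induction_on with
      | zero => simp
      | tmul b w =>
        obtain ⟨a, rfl⟩ := hspan w
        rw [mapBaseChange_tmul, (KaehlerDifferential.map A A M B).map_smul, map_D,
          show algebraMap M B Polynomial.X = h from Polynomial.aeval_X h,
          ← algebraMap_smul B a (D A B h), map_smul, map_smul]
        simp [P, hu]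
      | add p q hp hq => rw [map_add, map_add, hp, hq, add_zero]
    let σ : Ω[B⁄M] →ₗ[B] Ω[B⁄A] := (LinearMap.ker π).liftQ P hker ∘ₗ
      (π.quotKerEquivOfSurjective (map_surjective A M B)).symm.toLinearMap
    refine Module.Projective.of_split σ π (LinearMap.ext fun y => ?_)
    obtain ⟨w, rfl⟩ := map_surjective A M B y
    show π ((LinearMap.ker π).liftQ P hker ((π.quotKerEquivOfSurjective _).symm (π w))) = π w
    rw [show (π.quotKerEquivOfSurjective (map_surjective A M B)).symm (π w) = Submodule.Quotient.mk w from
      (LinearEquiv.symm_apply_eq _).2 rfl, Submodule.liftQ_apply]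
    simp [P, hπh]
  haveI : Algebra.FormallySmooth M B := ⟨inferInstance, hH⟩
  haveI : Algebra.Smooth M B :=
    ⟨inferInstance, Algebra.FinitePresentation.of_restrict_scalars_finitePresentation A M B⟩
  haveI : Module.Flat M B := inferInstance
  have hX : IsSMulRegular M (Polynomial.X : M) := fun a b hab => by
    exact Polynomial.monic_X.isRegular.left hab
  have hB : IsSMulRegular B h := by
    have h1 := IsSMulRegular.of_flat (S := B) hX
    rwa [show algebraMap M B Polynomial.X = h from Polynomial.aeval_X h] at h1
  exact mem_nonZeroDivisors_iff_right.2 fun x hx =>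
    hB (show h • x = h • 0 by rw [smul_zero, smul_eq_mul, mul_comm]; exact hx)

/-- Local slices of a smooth algebra. -/
theorem exists_slice [Algebra.Smooth A B] (h : B) (p : Ideal B) [p.IsPrime] (φ : Ω[B⁄A] →ₗ[B] B)
    (hp : φ (D A B h) ∉ p) :
    ∃ u ∉ p, ∀ (B' : Type u) [CommRing B'] [Algebra B B'] [Algebra A B'] [IsScalarTower A B B']
      [IsLocalization.Away u B'], algebraMap B B' h ∈ nonZeroDivisors B' ∧
        Algebra.Smooth A (B' ⧸ Ideal.span {algebraMap B B' h}) := by
  let u := φ (D A B h)
  refine ⟨u, hp, fun B' _ _ _ _ _ => ?_⟩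
  haveI : Algebra.FormallyEtale B B' := Algebra.FormallyEtale.of_isLocalization (Submonoid.powers u)
  haveI : Algebra.FinitePresentation B B' := IsLocalization.Away.finitePresentation u
  haveI : Algebra.Smooth B B' := ⟨inferInstance, inferInstance⟩
  haveI : Algebra.Smooth A B' := Algebra.Smooth.comp A B B'
  let φ₀ : Ω[B'⁄A] →ₗ[B'] B' :=
    (KaehlerDifferential.isBaseChange_of_formallyEtale A B B').lift ((Algebra.linearMap B B').comp φ)
  let iu := (IsLocalization.Away.algebraMap_isUnit (S := B') u).unit
  have hφ₀ : φ₀ (D A B' (algebraMap B B' h)) = algebraMap B B' u := by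
    have e := IsBaseChange.lift_eq (KaehlerDifferential.isBaseChange_of_formallyEtale A B B')
      ((Algebra.linearMap B B').comp φ) (D A B h)
    rw [map_D] at e
    exact e
  have hone : ((↑iu⁻¹ : B') • φ₀) (D A B' (algebraMap B B' h)) = 1 := by
    rw [LinearMap.smul_apply, hφ₀, smul_eq_mul]
    exact iu.inv_mul
  refine ⟨isSMulRegular_of_functional _ _ hone, BertiniSec.smooth_quotient _ fun v hv _ => ⟨(↑iu⁻¹ : B') • φ₀, ?_⟩⟩
  rw [hone]
  exact fun h1 => hv.ne_top ((Ideal.eq_top_iff_one _).2 h1)

end Groth.Agent.H4CI.Slice
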