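import Mathlib
import Groth.Agent.FittX.Ideal
import Groth.Agent.Tate.Fitting
import Groth.Agent.S16235
import Groth.Agent.H9KaehlerGen.Basic
import Groth.Agent.VarDim.Basic

/-!
Fitting ideals of the differentials of a reduced complete intersection and of its `T¹`.
-/

set_option autoImplicit false

universe u

open CategoryTheory MvPolynomial KaehlerDifferential TensorProduct

namespace Groth.Agent.H4CI.T1

section Minors

variable {B : Type u} [CommRing B] {r c : ℕ}

theorem minors_rows_le_cols (z : Fin c → Fin r → B) :
    FittX.minors c (Submodule.span B (Set.range z)) ≤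
      FittX.minors c (Submodule.span B (Set.range fun j i => z i j)) := by
  refine FittX.minors_le_of_span (FittX.span_proj r) fun φ hφ y hy => ?_
  choose e he using hφ
  choose ρ hρ using hy
  have h : FittX.minor φ y =
      FittX.minor (fun a => (LinearMap.proj (ρ a) : Module.Dual B (Fin c → B)))
        (fun b => fun i => z i (e b)) := by
    simp only [FittX.minor]
    rw [← Matrix.det_transpose]
    congr 1
    ext a b
    simp [← he, ← hρ]
  rw [h]
  exact FittX.minor_mem _ fun b => Submodule.subset_span ⟨e b, rfl⟩

theorem minors_cols_le_rows (z : Fin c → Fin r → B) :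
    FittX.minors c (Submodule.span B (Set.range fun j i => z i j)) ≤
      FittX.minors c (Submodule.span B (Set.range z)) := by
  refine FittX.minors_le_of_span (FittX.span_proj c) fun φ hφ y hy => ?_
  choose ρ hρ using hφ
  choose e he using hy
  have h : FittX.minor φ y =
      FittX.minor (fun a => (LinearMap.proj (e a) : Module.Dual B (Fin r → B)))
        (fun b => z (ρ b)) := by
    simp only [FittX.minor]
    rw [← Matrix.det_transpose]
    congr 1
    ext a b
    simp [← he, ← hρ]
  rw [h]
  exact FittX.minor_mem _ fun b => Submodule.subset_span ⟨ρ b, rfl⟩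

end Minors

section Ext

variable {B : Type u} [CommRing B] {M : Type u} [AddCommGroup M] [Module B M] {r c : ℕ}

open Abelian

/-- The zeroth Fitting ideal of `Ext¹(M, B)` for a module with a free resolution of length one. -/
theorem fitt_ext_one (x : Fin r → M) (hx : Submodule.span B (Set.range x) = ⊤)
    (z : Fin c → Fin r → B) (hz : LinearIndependent B z)
    (hrel : FittX.rel (R := B) x = Submodule.span B (Set.range z)) :
    Fitt.ideal B (Ext.{u} (ModuleCat.of B M) (ModuleCat.of B B) 1) 0 =
      FittX.minors c (Submodule.span B (Set.range fun j i => z i j)) := by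
  classical
  let f : (Fin c → B) →ₗ[B] (Fin r → B) := Fintype.linearCombination B z
  let g : (Fin r → B) →ₗ[B] M := Fintype.linearCombination B x
  have hf : Function.Injective f := hz.fintypeLinearCombination_injective
  have hg : Function.Surjective g := by
    rw [← LinearMap.range_eq_top, Fintype.range_linearCombination]; exact hx
  have hfg : LinearMap.range f = LinearMap.ker g := by
    rw [Fintype.range_linearCombination]; exact hrel.symm
  let S : ShortComplex (ModuleCat.{u} B) :=
    ShortComplex.mk (ModuleCat.ofHom f) (ModuleCat.ofHom g) (by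
      ext v
      exact LinearMap.mem_ker.mp (hfg.le ⟨_, rfl⟩))
  have hS : S.ShortExact :=
    { exact := (ShortComplex.moduleCat_exact_iff_range_eq_ker S).mpr hfg
      mono_f := (ModuleCat.mono_iff_injective _).mpr hf
      epi_g := (ModuleCat.epi_iff_surjective _).mpr hg }
  let Y : ModuleCat.{u} B := ModuleCat.of B B
  let δ : (S.X₁ ⟶ Y) →ₗ[B] Ext.{u} S.X₃ Y 1 :=
    { toFun := fun h => hS.extClass.comp (Ext.mk₀ h) (add_zero 1)
      map_add' := fun a b => by rw [Ext.mk₀_add, Ext.comp_add]
      map_smul' := fun s h => by rw [Ext.mk₀_smul, Ext.comp_smul, RingHom.id_apply] }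
  let p : Fin c → (S.X₁ ⟶ Y) := fun i => ModuleCat.ofHom (LinearMap.proj i : (Fin c → B) →ₗ[B] B)
  have hp : ∀ h : S.X₁ ⟶ Y, h = ∑ i, (h.hom (Pi.single i 1) : B) • p i := by
    intro h
    apply ModuleCat.hom_ext
    rw [ModuleCat.hom_sum]
    refine LinearMap.ext fun v => ?_
    rw [LinearMap.sum_apply]
    show h.hom v = ∑ i, (h.hom (Pi.single i 1) : B) * v i
    conv_lhs => rw [pi_eq_sum_univ' v, map_sum]
    exact Finset.sum_congr rfl fun i _ => by rw [map_smul, smul_eq_mul, mul_comm]
  let y : Fin c → Ext.{u} S.X₃ Y 1 := fun i => δ (p i)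
  have : Projective S.X₂ := by
    show Projective (ModuleCat.of B (Fin r → B))
    exact (IsProjective.iff_projective _).mp inferInstance
  have hy : Submodule.span B (Set.range y) = ⊤ := by
    refine eq_top_iff.mpr fun ε _ => ?_
    obtain ⟨x₁, hx₁⟩ := Ext.contravariant_sequence_exact₃ hS Y ε
      (Ext.eq_zero_of_projective _) (n₀ := 0) rfl
    obtain ⟨h, rfl⟩ := (Ext.mk₀_bijective S.X₁ Y).2 x₁
    rw [← hx₁, show hS.extClass.comp (Ext.mk₀ h) _ = δ h from rfl, hp h, map_sum]
    exact sum_mem fun i _ => by
      rw [map_smul]; exact Submodule.smul_mem _ _ (Submodule.subset_span ⟨i, rfl⟩)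
  have hrel' : FittX.rel (R := B) y = Submodule.span B (Set.range fun j i => z i j) := by
    refine le_antisymm (fun w hw => ?_) (Submodule.span_le.mpr ?_)
    · rw [FittX.mem_rel] at hw
      have h0 : δ (∑ i, w i • p i) = 0 := by simpa [y, map_sum] using hw
      obtain ⟨x₂, hx₂⟩ := Ext.contravariant_sequence_exact₁ hS Y (Ext.mk₀ (∑ i, w i • p i))
        (n₁ := 1) rfl h0
      obtain ⟨h, rfl⟩ := (Ext.mk₀_bijective S.X₂ Y).2 x₂
      rw [Ext.mk₀_comp_mk₀] at hx₂
      have hh := (Ext.mk₀_bijective S.X₁ Y).1 hx₂
      have hw' : w = ∑ j, (h.hom (Pi.single j 1) : B) • fun i => z i j := by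
        funext i
        have := congrArg (fun φ : S.X₁ ⟶ Y => φ.hom (Pi.single i 1)) hh
        simp only [ModuleCat.hom_comp, LinearMap.comp_apply, ModuleCat.hom_sum, LinearMap.sum_apply,
          ModuleCat.hom_smul, LinearMap.smul_apply] at this
        rw [Finset.sum_eq_single (a := i) (fun b _ hb => mul_eq_zero_of_right _ (Pi.single_eq_of_ne hb 1))
          (by simp)] at this
        have hfi : f (Pi.single i 1) = z i := by simp [f, Fintype.linearCombination_apply_single]
        rw [show S.f.hom (Pi.single i 1) = z i from hfi] at this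
        rw [pi_eq_sum_univ' (z i), map_sum] at this
        simp [p] at this
        rw [show (LinearMap.proj i : (Fin c → B) →ₗ[B] B) (Pi.single i 1) = (1 : B) from Pi.single_eq_same i 1,
          mul_one] at this
        simp [← this, mul_comm]
      rw [hw']
      exact sum_mem fun j _ => Submodule.smul_mem _ _ (Submodule.subset_span ⟨j, rfl⟩)
    · rintro _ ⟨j, rfl⟩
      rw [SetLike.mem_coe, FittX.mem_rel]
      have h1 : ∑ i, z i j • p i =
          S.f ≫ ModuleCat.ofHom (LinearMap.proj j : (Fin r → B) →ₗ[B] B) := by
        apply ModuleCat.hom_ext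
        rw [ModuleCat.hom_sum]
        refine LinearMap.ext fun v => ?_
        simp [p, S, f, Fintype.linearCombination_apply, mul_comm]
      calc ∑ i, z i j • y i = δ (∑ i, z i j • p i) := by simp [y, map_sum]
        _ = 0 := by
          rw [h1]
          show hS.extClass.comp (Ext.mk₀ (S.f ≫ ModuleCat.ofHom (LinearMap.proj j))) (add_zero 1) = 0
          rw [← Ext.mk₀_comp_mk₀]
          exact hS.extClass_comp_assoc _
  have h := FittX.ideal_eq_minors y hy 0
  rw [hrel', Nat.sub_zero] at h
  exact h

end Ext

section Jacobian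

variable {A : Type u} [CommRing A] {n m : ℕ} (f : Fin m → MvPolynomial (Fin n) A)
  {B : Type u} [CommRing B] [Algebra A B] (π : MvPolynomial (Fin n) A →ₐ[A] B)

/-- The coordinate differentials. -/
noncomputable def gens (j : Fin n) : Ω[B⁄A] := D A B (π (X j))

/-- The Jacobian relations. -/
noncomputable def jac (i : Fin m) : Fin n → B := fun j => π (pderiv j (f i))

include π in
theorem span_gens (hsurj : Function.Surjective π) : Submodule.span B (Set.range (gens π)) = ⊤ := by
  rw [eq_top_iff, ← KaehlerDifferential.span_range_derivation A B, Submodule.span_le]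
  rintro _ ⟨b, rfl⟩
  obtain ⟨g, rfl⟩ := hsurj b
  rw [SetLike.mem_coe, Tate.D_map]
  exact sum_mem fun j _ => Submodule.smul_mem _ _ (Submodule.subset_span ⟨j, rfl⟩)

theorem rel_gens (hsurj : Function.Surjective π) (hker : RingHom.ker π = Ideal.span (Set.range f)) :
    FittX.rel (R := B) (gens π) = Submodule.span B (Set.range (jac f π)) := by
  classical
  let x : Fin n → Ω[B⁄A] := gens π
  let R : Submodule B (Fin n → B) := Submodule.span B (Set.range (jac f π))
  -- the derivation into the cokernel
  let L : MvPolynomial (Fin n) A → (Fin n → B) ⧸ R := fun g =>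
    Submodule.Quotient.mk fun j => π (pderiv j g)
  have hLmul : ∀ g h, L (g * h) = π g • L h + π h • L g := fun g h => by
    simp only [L, ← Submodule.Quotient.mk_smul, ← Submodule.Quotient.mk_add]
    congr 1
    funext j
    simp only [pderiv_mul, map_add, map_mul, Pi.add_apply, Pi.smul_apply, smul_eq_mul]
    ring
  have hLadd : ∀ g h, L (g + h) = L g + L h := fun g h => by
    simp only [L, ← Submodule.Quotient.mk_add]
    congr 1
    funext j
    simp
  have hLker : ∀ g, π g = 0 → L g = 0 := by
    intro g hg
    have hg' : g ∈ Ideal.span (Set.range f) := hker.le (RingHom.mem_ker.mpr hg)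
    refine Submodule.span_induction (p := fun z _ => π z = 0 ∧ L z = 0) ?_ ⟨map_zero _, ?_⟩ ?_ ?_ hg' |>.2
    · rintro _ ⟨i, rfl⟩
      exact ⟨RingHom.mem_ker.mp (hker.ge (Ideal.subset_span ⟨i, rfl⟩)),
        (Submodule.Quotient.mk_eq_zero R).mpr (Submodule.subset_span ⟨i, rfl⟩)⟩
    · exact (Submodule.Quotient.mk_eq_zero R).mpr (by
        simp only [map_zero, Derivation.map_algebraMap]; exact R.zero_mem)
    · intro a b _ _ ha hb; exact ⟨by simp [ha.1, hb.1], by simp [hLadd, ha.2, hb.2]⟩
    · intro r a _ ha; exact ⟨by simp [smul_eq_mul, ha.1], by simp [smul_eq_mul, hLmul, ha.1, ha.2]⟩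
  choose s hs using hsurj
  have hLs : ∀ g, L g = L (s (π g)) := by
    intro g
    have h1 := hLker (g - s (π g)) (by simp [hs])
    have h2 := hLadd (g - s (π g)) (s (π g))
    rw [h1, zero_add, sub_add_cancel] at h2
    exact h2
  have hLC : ∀ (a : A) g, L (C a * g) = a • L g := fun a g => by
    rw [hLmul, ← MvPolynomial.algebraMap_eq, AlgHom.commutes, algebraMap_smul]
    have : L (algebraMap A (MvPolynomial (Fin n) A) a) = 0 :=
      (Submodule.Quotient.mk_eq_zero R).mpr (by
        simp only [map_zero, Derivation.map_algebraMap]; exact R.zero_mem)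
    rw [this, smul_zero, add_zero]
  let dl : B →ₗ[A] (Fin n → B) ⧸ R :=
    { toFun := fun b => L (s b)
      map_add' := fun a b => by rw [← hLadd, hLs (s a + s b), map_add, hs, hs]
      map_smul' := fun a b => by
        rw [RingHom.id_apply, ← hLC, hLs (C a * s b), map_mul, hs, ← MvPolynomial.algebraMap_eq,
          AlgHom.commutes, ← Algebra.smul_def] }
  let d : Derivation A B ((Fin n → B) ⧸ R) := Derivation.mk' dl fun a b => by
    show L (s (a * b)) = a • L (s b) + b • L (s a)
    have h := hLmul (s a) (s b)
    rw [hs, hs, hLs (s a * s b), map_mul, hs, hs] at h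
    exact h
  have hdx : ∀ j, d.liftKaehlerDifferential (x j) = Submodule.Quotient.mk (Pi.single j (1 : B)) := by
    intro j
    show d.liftKaehlerDifferential (D A B (π (X j))) = _
    rw [Derivation.liftKaehlerDifferential_comp_D]
    show L (s (π (X j))) = _
    rw [← hLs]
    simp only [L]
    congr 1
    funext k
    rcases eq_or_ne j k with rfl | h
    · simp
    · simp [pderiv_X_of_ne h, Pi.single_eq_of_ne h.symm]
  show FittX.rel (R := B) x = R
  refine le_antisymm (fun z hz => ?_) (Submodule.span_le.mpr ?_)
  · have h := congrArg d.liftKaehlerDifferential (FittX.mem_rel.mp hz)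
    simp only [map_sum, map_smul, hdx, map_zero, ← Submodule.mkQ_apply] at h
    simp only [← map_smul, ← map_sum] at h
    rw [← pi_eq_sum_univ' z, Submodule.mkQ_apply, Submodule.Quotient.mk_eq_zero] at h
    exact h
  · rintro _ ⟨i, rfl⟩
    rw [SetLike.mem_coe, FittX.mem_rel]
    have h := Tate.D_map π (f i)
    rw [RingHom.mem_ker.mp (hker.ge (Ideal.subset_span ⟨i, rfl⟩)), map_zero] at h
    exact h.symm

end Jacobian

section Independent

variable {k : Type u} [Field k] {r c : ℕ}
  {B : Type u} [CommRing B] [Algebra k B]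
  (φ : MvPolynomial (Fin r) k →ₐ[k] B) (a : Fin c → MvPolynomial (Fin r) k)

theorem exists_trdeg_localization (hφ : Function.Surjective φ)
    (ha : RingTheory.Sequence.IsRegular (MvPolynomial (Fin r) k) (List.ofFn a))
    (hker : RingHom.ker φ = Ideal.span (Set.range a)) (q : Ideal B) [q.IsPrime]
    (hL : IsField (Localization.AtPrime q)) :
    ∃ n : ℕ, Algebra.trdeg k (Localization.AtPrime q) = n ∧ n + c ≤ r := by
  classical
  let Q : Ideal (MvPolynomial (Fin r) k) := q.comap φ
  have hQ : Q.IsPrime := Ideal.IsPrime.comap φ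
  have : Algebra.FiniteType k B := Algebra.FiniteType.of_surjective φ hφ
  have : IsDomain (B ⧸ q) := Ideal.Quotient.isDomain q
  have : Algebra.FiniteType k (B ⧸ q) :=
    Algebra.FiniteType.of_surjective (Ideal.Quotient.mkₐ k q) Ideal.Quotient.mk_surjective
  obtain ⟨n, hn, hn'⟩ := VarDim.exists_dim_eq_trdeg k (B ⧸ q)
  refine ⟨n, ?_, ?_⟩
  · letI := hL.toField
    have hker' : ∀ b ∈ q, algebraMap B (Localization.AtPrime q) b = 0 := by
      intro b hb
      by_contra hne
      exact ((IsLocalization.AtPrime.to_map_mem_maximal_iff (Localization.AtPrime q) q b).mpr hb)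
        (Ne.isUnit hne)
    let ψ : B ⧸ q →ₐ[k] Localization.AtPrime q :=
      Ideal.Quotient.liftₐ q (IsScalarTower.toAlgHom k B (Localization.AtPrime q)) hker'
    letI : Algebra (B ⧸ q) (Localization.AtPrime q) := ψ.toRingHom.toAlgebra
    have : IsScalarTower k (B ⧸ q) (Localization.AtPrime q) :=
      IsScalarTower.of_algebraMap_eq fun x => (ψ.commutes x).symm
    have hinj : Function.Injective (algebraMap (B ⧸ q) (Localization.AtPrime q)) := by
      rw [injective_iff_map_eq_zero]
      intro z hz
      obtain ⟨b, rfl⟩ := Ideal.Quotient.mk_surjective z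
      rw [Ideal.Quotient.eq_zero_iff_mem,
        ← IsLocalization.AtPrime.to_map_mem_maximal_iff (Localization.AtPrime q) q b]
      show algebraMap B (Localization.AtPrime q) b ∈ _
      rw [show algebraMap B (Localization.AtPrime q) b = 0 from hz]
      exact zero_mem _
    have : FaithfulSMul (B ⧸ q) (Localization.AtPrime q) :=
      (faithfulSMul_iff_algebraMap_injective _ _).mpr hinj
    have : IsFractionRing (B ⧸ q) (Localization.AtPrime q) :=
      IsFractionRing.of_field _ _ fun z => by
        obtain ⟨b, s, rfl⟩ := IsLocalization.exists_mk'_eq q.primeCompl z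
        refine ⟨Ideal.Quotient.mk q b, Ideal.Quotient.mk q (s : B), ?_⟩
        show IsLocalization.mk' _ b s =
          algebraMap B (Localization.AtPrime q) b / algebraMap B (Localization.AtPrime q) (s : B)
        rw [eq_div_iff (IsLocalization.map_units _ s).ne_zero, IsLocalization.mk'_spec]
    have : Algebra.IsAlgebraic (B ⧸ q) (Localization.AtPrime q) :=
      IsLocalization.isAlgebraic _ (nonZeroDivisors (B ⧸ q))
    have h := trdeg_add_eq k (B ⧸ q) (A := Localization.AtPrime q)
    rw [hn', trdeg_eq_zero (R := B ⧸ q), add_zero] at h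
    exact h.symm
  · have hht : (c : ℕ∞) ≤ Q.height := by
      refine S16235.length_le_height a ha.toIsWeaklyRegular c le_rfl Q hQ ?_
      refine Ideal.span_le.mpr fun y hy => ?_
      obtain ⟨i, rfl⟩ := List.mem_ofFn.mp (List.mem_of_mem_take hy)
      show φ (a i) ∈ q
      rw [RingHom.mem_ker.mp (hker.ge (Ideal.subset_span ⟨i, rfl⟩))]
      exact zero_mem q
    have hdim : ringKrullDim (MvPolynomial (Fin r) k) = r := by
      rw [MvPolynomial.ringKrullDim_of_isNoetherianRing, ringKrullDim_eq_zero_of_field, zero_add,
        Nat.card_fin]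
    have hsum := VarDim.height_add_coheight_eq k r (MvPolynomial (Fin r) k) hdim ⟨Q, hQ⟩
    let g : MvPolynomial (Fin r) k →+* B ⧸ q := (Ideal.Quotient.mk q).comp φ.toRingHom
    have hg : RingHom.ker g = Q := by
      ext z
      simp [g, Q, RingHom.mem_ker, Ideal.Quotient.eq_zero_iff_mem]
    have hco := VarDim.coheight_eq_ringKrullDim_quotient (⟨Q, hQ⟩ : PrimeSpectrum (MvPolynomial (Fin r) k))
    rw [show ringKrullDim (MvPolynomial (Fin r) k ⧸ Q) = ringKrullDim (B ⧸ q) from
      ringKrullDim_eq_of_ringEquiv ((Ideal.quotEquivOfEq hg.symm).trans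
        (RingHom.quotientKerEquivOfSurjective (f := g) (Ideal.Quotient.mk_surjective.comp hφ))), hn] at hco
    have hco' : Order.coheight (⟨Q, hQ⟩ : PrimeSpectrum (MvPolynomial (Fin r) k)) = (n : ℕ∞) :=
      WithBot.coe_injective hco
    rw [hco'] at hsum
    rw [PrimeSpectrum.height_eq_orderHeight (⟨Q, hQ⟩ : PrimeSpectrum (MvPolynomial (Fin r) k))] at hht
    have h2 : ((n + c : ℕ) : ℕ∞) ≤ r := by
      rw [← hsum, Nat.cast_add, add_comm (n : ℕ∞)]
      exact add_le_add hht le_rfl
    exact_mod_cast h2

variable [PerfectField k] [IsReduced B]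

/-- The Jacobian rows of a reduced complete intersection are independent, and there are at most as
many equations as variables. -/
theorem linearIndependent_jac (hφ : Function.Surjective φ)
    (ha : RingTheory.Sequence.IsRegular (MvPolynomial (Fin r) k) (List.ofFn a))
    (hker : RingHom.ker φ = Ideal.span (Set.range a)) :
    c ≤ r ∧ LinearIndependent B (jac a φ) := by
  classical
  have hfield : ∀ (q : Ideal B) [q.IsPrime], q ∈ minimalPrimes B → IsField (Localization.AtPrime q) := by
    intro q _ hq
    have h0 : Ring.KrullDimLE 0 (Localization.AtPrime q) := by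
      rw [Ring.krullDimLE_iff, IsLocalization.AtPrime.ringKrullDim_eq_height q,
        Ideal.height_eq_zero_iff.mpr hq]
      simp
    exact Ring.KrullDimLE.isField_of_isReduced
  have hnt : Nontrivial B := by
    rcases subsingleton_or_nontrivial B with h | h
    · exfalso
      refine ha.top_ne_smul ?_
      have h1 : Ideal.span (Set.range a) = ⊤ := by
        rw [← hker, Ideal.eq_top_iff_one, RingHom.mem_ker]; exact Subsingleton.elim _ _
      rw [smul_eq_mul, Ideal.mul_top]
      refine (eq_top_iff.mpr (h1.ge.trans ?_)).symm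
      exact Ideal.span_mono fun y ⟨i, hi⟩ => hi ▸ List.mem_ofFn.mpr ⟨i, rfl⟩
    · exact h
  obtain ⟨q₀, hq₀⟩ : Nonempty (minimalPrimes B) := Ideal.nonempty_minimalPrimes bot_ne_top
  refine ⟨?_, Fintype.linearIndependent_iff.mpr fun v hv i => ?_⟩
  · have := hq₀.isPrime
    obtain ⟨n, -, hn⟩ := exists_trdeg_localization φ a hφ ha hker q₀ (hfield q₀ hq₀)
    omega
  have hall : ∀ q ∈ minimalPrimes B, v i ∈ q := by
    intro q hq
    have := hq.isPrime
    letI := (hfield q hq).toField
    obtain ⟨n, hn, hnc⟩ := exists_trdeg_localization φ a hφ ha hker q (hfield q hq)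
    have : Algebra.FiniteType k B := Algebra.FiniteType.of_surjective φ hφ
    have : Algebra.EssFiniteType B (Localization.AtPrime q) := Algebra.EssFiniteType.of_isLocalization _ q.primeCompl
    have : Algebra.EssFiniteType k (Localization.AtPrime q) := Algebra.EssFiniteType.comp k B _
    have : Algebra.FormallyEtale B (Localization.AtPrime q) := Algebra.FormallyEtale.of_isLocalization q.primeCompl
    let L := Localization.AtPrime q
    have hΩ : Module.finrank L (L ⊗[B] Ω[B⁄k]) ≤ n := by
      rw [(KaehlerDifferential.tensorKaehlerEquivOfFormallyEtale k B L).finrank_eq]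
      exact H9KaehlerGen.finrank_kaehler_le_trdeg k L n hn
    let w : Fin c → (Fin r → L) := fun i j => algebraMap B L (jac a φ i j)
    let K := Submodule.span L (Set.range w)
    let G : (Fin r → B) →ₗ[B] Ω[B⁄k] := Fintype.linearCombination B (gens φ)
    have hG : Function.Surjective G := by
      rw [← LinearMap.range_eq_top, Fintype.range_linearCombination]; exact span_gens φ hφ
    let e : (Fin r → B) →ₗ[B] (Fin r → L) ⧸ K :=
      (K.mkQ.restrictScalars B).comp (LinearMap.compLeft (Algebra.linearMap B L) (Fin r))
    have hle : LinearMap.ker G ≤ LinearMap.ker e := by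
      rw [show LinearMap.ker G = FittX.rel (R := B) (gens φ) from rfl, rel_gens a φ hφ hker, Submodule.span_le]
      rintro _ ⟨i, rfl⟩
      exact (Submodule.Quotient.mk_eq_zero K).mpr (Submodule.subset_span ⟨i, rfl⟩)
    let h : Ω[B⁄k] →ₗ[B] (Fin r → L) ⧸ K :=
      (Submodule.liftQ _ e hle).comp (G.quotKerEquivOfSurjective hG).symm.toLinearMap
    have hh : ∀ u, h (G u) = e u := by
      intro u
      have : (G.quotKerEquivOfSurjective hG).symm (G u) = Submodule.Quotient.mk u :=
        (LinearEquiv.symm_apply_eq _).mpr rfl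
      simp [h, this]
    let H := h.liftBaseChange L
    have hH : Function.Surjective H := by
      intro y
      obtain ⟨v', rfl⟩ := Submodule.Quotient.mk_surjective _ y
      refine ⟨∑ j, v' j ⊗ₜ[B] G (Pi.single j 1), ?_⟩
      simp only [H, map_sum, LinearMap.liftBaseChange_tmul, hh]
      have he : ∀ j, e (Pi.single j 1) = K.mkQ (Pi.single j 1) := by
        intro j
        show K.mkQ _ = _
        congr 1
        funext j'
        simp [Pi.single_apply, apply_ite (algebraMap B L)]
      simp only [he, ← map_smul, ← map_sum]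
      show K.mkQ _ = K.mkQ v'
      rw [← pi_eq_sum_univ' v']
    have hd : Module.finrank L ((Fin r → L) ⧸ K) ≤ n :=
      (LinearMap.finrank_le_finrank_of_surjective hH).trans hΩ
    have hw : LinearIndependent L w := by
      rw [linearIndependent_iff_card_le_finrank_span, Fintype.card_fin]
      have := Submodule.finrank_quotient_add_finrank K
      rw [Module.finrank_fin_fun] at this
      show c ≤ Module.finrank L K
      omega
    have h0 : ∑ i, algebraMap B L (v i) • w i = 0 := by
      funext j
      have := congrArg (algebraMap B L) (congrFun hv j)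
      simpa [w, map_sum, Algebra.smul_def] using this
    have hv0 := Fintype.linearIndependent_iff.mp hw (fun i => algebraMap B L (v i)) h0 i
    rw [← IsLocalization.AtPrime.to_map_mem_maximal_iff (Localization.AtPrime q) q (v i)]
    rw [show algebraMap B (Localization.AtPrime q) (v i) = 0 from hv0]
    exact zero_mem _
  have : v i ∈ sInf (minimalPrimes B) := Submodule.mem_sInf.mpr hall
  rw [minimalPrimes, Ideal.sInf_minimalPrimes] at this
  exact IsReduced.eq_zero _ (by simpa [Ideal.radical, nilradical, IsNilpotent] using this)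

end Independent

end Groth.Agent.H4CI.T1
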